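import Cfsg.Agent.SporadicA.PermTab
import Mathlib
import Cfsg.Agent.OddHalf.Table.CycNorm
import Cfsg.Agent.SporadicA.J2Hundred
import Cfsg.Agent.J2.HundredGens
import Cfsg.Agent.S1619

-- merged: Cfsg.Agent.OddHalf.Table.CentTab
section

/-!
Centralisers of permutations in the automorphism group of a graph, by adjacency signatures.

`p` is an automorphism of the graph `A` given by the table `P`, `b` a point. An automorphism `c` which commutes with `p`
moves `b` to a point with the same signature: the adjacencies between `b` and `p ^ j b`. If the points with this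
signature are the images of `b` under the elements `p ^ i w`, `w ∈ seeds`, and only `1` commutes with `p` and fixes `b`,
then `c` is one of these elements.
-/

set_option autoImplicit false

namespace Cfsg.Agent.OddHalf.Table.CentTab

open Equiv Cfsg.Agent.SporadicA.PermTab

noncomputable section

/-- `P ^ k` applied to `v` -/
def itN (P k v : ℕ) : ℕ := Nat.rec v (fun _ ih => lk P ih) k

theorem itN_succ (P k v : ℕ) : itN P (k + 1) v = lk P (itN P k v) := rfl

theorem itN_val {n : ℕ} {p : Perm (Fin n)} {P : ℕ} (hp : ∀ i : Fin n, (p i : ℕ) = lk P i) (k : ℕ) (v : Fin n) :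
    (((p ^ k) v : Fin n) : ℕ) = itN P k v := by
  induction k with
  | zero => rfl
  | succ k ih => rw [pow_succ', Perm.mul_apply, hp, ih, itN_succ]

/-- the code of the pair `v`, `P ^ j v` -/
def code (n A P v j : ℕ) : ℕ :=
  cond (Nat.beq v (itN P j v)) 2 (bitM n A v (itN P j v))

/-- `v` has the signature of `b` -/
def sigB (n A P b J v : ℕ) : Bool :=
  allB (fun j => Nat.beq (code n A P v (Nat.succ j)) (code n A P b (Nat.succ j))) J

/-- `v` is `P ^ i l` for some `i < M` -/
def inOrb (P M l v : ℕ) : Bool :=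
  Nat.rec false (fun i ih => cond (Nat.beq (itN P i l) v) true ih) M

theorem inOrb_spec {P M l v : ℕ} (h : inOrb P M l v = true) : ∃ i, itN P i l = v := by
  induction M with
  | zero => exact absurd h (by simp [inOrb])
  | succ M ih =>
    have h1 : inOrb P (M + 1) l v = cond (Nat.beq (itN P M l) v) true (inOrb P M l v) := rfl
    rw [h1] at h
    cases h2 : Nat.beq (itN P M l) v with
    | true => exact ⟨M, Nat.eq_of_beq_eq_true h2⟩
    | false =>
      rw [h2] at h
      exact ih h

/-- `v` is in the orbit of one of the points of the list -/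
def inOrbs (P M : ℕ) (L : List ℕ) (v : ℕ) : Bool :=
  List.rec false (fun l _ ih => cond (inOrb P M l v) true ih) L

theorem inOrbs_spec {P M v : ℕ} {L : List ℕ} (h : inOrbs P M L v = true) : ∃ l ∈ L, ∃ i, itN P i l = v := by
  induction L with
  | nil => exact absurd h (by simp [inOrbs])
  | cons l L ih =>
    have h1 : inOrbs P M (l :: L) v = cond (inOrb P M l v) true (inOrbs P M L v) := rfl
    rw [h1] at h
    cases h2 : inOrb P M l v with
    | true =>
      obtain ⟨i, hi⟩ := inOrb_spec h2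
      exact ⟨l, List.mem_cons_self, i, hi⟩
    | false =>
      rw [h2] at h
      obtain ⟨l', hl', h3⟩ := ih h
      exact ⟨l', List.mem_cons_of_mem _ hl', h3⟩

/-- all points with the signature of `b` are in the given orbits -/
def chkSig (n A P b J M : ℕ) (L : List ℕ) : Bool :=
  allB (fun v => cond (sigB n A P b J v) (inOrbs P M L v) true) n

variable {n A : ℕ} {p : Perm (Fin n)} {P : ℕ}

theorem sigB_of_comm (hp : ∀ i : Fin n, (p i : ℕ) = lk P i) {c : Perm (Fin n)} (hc : c ∈ autG n A)
    (hcp : c * p = p * c) (b : Fin n) (J : ℕ) : sigB n A P b J (c b) = true := by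
  unfold sigB
  rw [allB_iff]
  intro j _
  have h1 : ∀ k : ℕ, (p ^ k) (c b) = c ((p ^ k) b) := by
    intro k
    have h2 : c * p ^ k = p ^ k * c := (show Commute c p from hcp).pow_right k
    exact (congrArg (fun g : Perm (Fin n) => g b) h2).symm
  have h3 : itN P (Nat.succ j) (c b) = ((c ((p ^ (j + 1)) b) : Fin n) : ℕ) := by
    rw [← itN_val hp, h1]
  have h4 : itN P (Nat.succ j) b = (((p ^ (j + 1)) b : Fin n) : ℕ) := (itN_val hp _ _).symm
  have h5 : code n A P (c b) (Nat.succ j) = code n A P b (Nat.succ j) := by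
    unfold code
    rw [h3, h4]
    have h6 : Nat.beq ((c b : Fin n) : ℕ) ((c ((p ^ (j + 1)) b) : Fin n) : ℕ) =
        Nat.beq (b : ℕ) (((p ^ (j + 1)) b : Fin n) : ℕ) := by
      cases h7 : Nat.beq (b : ℕ) (((p ^ (j + 1)) b : Fin n) : ℕ) with
      | true =>
        have h8 : b = (p ^ (j + 1)) b := Fin.ext (Nat.eq_of_beq_eq_true h7)
        rw [← h8]
        exact Nat.beq_refl _
      | false =>
        have h8 := Nat.ne_of_beq_eq_false h7
        apply Bool.eq_false_iff.2
        intro h9
        apply h8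
        have h10 := Nat.eq_of_beq_eq_true h9
        exact congrArg Fin.val (c.injective (Fin.ext h10))
    rw [h6]
    have h7 := hc b ((p ^ (j + 1)) b)
    rw [h7]
  rw [h5]
  exact Nat.beq_refl _

/-- The centraliser of `p` in the automorphism group. -/
theorem cent_of_check (hp : ∀ i : Fin n, (p i : ℕ) = lk P i) (hpA : p ∈ autG n A) (b : Fin n) {J M : ℕ}
    (seeds : List (Perm (Fin n))) (hs : ∀ w ∈ seeds, w ∈ autG n A ∧ w * p = p * w) {L : List ℕ}
    (hL : ∀ l ∈ L, ∃ w ∈ seeds, ((w b : Fin n) : ℕ) = l) (chk : chkSig n A P b J M L = true)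
    (htriv : ∀ c ∈ autG n A, c * p = p * c → c b = b → c = 1)
    {c : Perm (Fin n)} (hc : c ∈ autG n A) (hcp : c * p = p * c) : ∃ w ∈ seeds, ∃ i : ℕ, c = p ^ i * w := by
  have h1 := (allB_iff _ _).1 chk (c b) (c b).2
  rw [sigB_of_comm hp hc hcp b J] at h1
  obtain ⟨l, hl, i, hi⟩ := inOrbs_spec h1
  obtain ⟨w, hw, hwl⟩ := hL l hl
  refine ⟨w, hw, i, ?_⟩
  have h2 : (p ^ i * w) b = c b := by
    apply Fin.ext
    rw [Perm.mul_apply, itN_val hp, hwl, hi]
  have h3 : (p ^ i * w)⁻¹ * c = 1 := by
    apply htriv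
    · exact mul_mem (inv_mem (mul_mem (pow_mem hpA i) (hs w hw).1)) hc
    · have e1 : Commute (p ^ i * w) p := (Commute.pow_self p i).mul_left (hs w hw).2
      exact (e1.inv_left.mul_left hcp)
    · rw [Perm.mul_apply, ← h2, Perm.inv_eq_iff_eq]
  exact (inv_mul_eq_one.1 h3).symm

/-! ### Emptiness patterns -/

/-- the common neighbours of the points `P ^ i v`, `i ∈ I` -/
def cmn (n A P : ℕ) (I : List ℕ) (v : ℕ) : ℕ :=
  List.rec (Nat.sub (Nat.pow 2 n) 1) (fun i _ ih => Nat.land (rowM n A (itN P i v)) ih) I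

theorem testBit_cmn (n A P : ℕ) (I : List ℕ) (v k : ℕ) :
    (cmn n A P I v).testBit k = true ↔ k < n ∧ ∀ i ∈ I, A.testBit (n * itN P i v + k) = true := by
  induction I with
  | nil =>
    change (2 ^ n - 1).testBit k = true ↔ _
    rw [Nat.testBit_two_pow_sub_one]
    simp
  | cons i I ih =>
    change (rowM n A (itN P i v) &&& cmn n A P I v).testBit k = true ↔ _
    rw [Nat.testBit_and, Bool.and_eq_true, ih, testBit_rowM, Bool.and_eq_true, decide_eq_true_eq]
    simp only [List.forall_mem_cons]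
    tauto

/-- there are no common neighbours -/
def emp (n A P : ℕ) (I : List ℕ) (v : ℕ) : Bool := Nat.beq (cmn n A P I v) 0

theorem emp_false_iff (n A P : ℕ) (I : List ℕ) (v : ℕ) :
    emp n A P I v = false ↔ ∃ k < n, ∀ i ∈ I, A.testBit (n * itN P i v + k) = true := by
  have h0 : emp n A P I v = true ↔ cmn n A P I v = 0 := by
    unfold emp
    exact ⟨Nat.eq_of_beq_eq_true, fun h => by rw [h]; rfl⟩
  rw [← Bool.not_eq_true, h0]
  constructor
  · intro h
    obtain ⟨k, hk⟩ := Nat.exists_testBit_of_ne_zero h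
    obtain ⟨h1, h2⟩ := (testBit_cmn n A P I v k).1 hk
    exact ⟨k, h1, h2⟩
  · rintro ⟨k, h1, h2⟩ h
    have h3 := (testBit_cmn n A P I v k).2 ⟨h1, h2⟩
    rw [h, Nat.zero_testBit] at h3
    exact absurd h3 (by decide)

theorem emp_mono (hp : ∀ i : Fin n, (p i : ℕ) = lk P i) {c : Perm (Fin n)} (hc : c ∈ autG n A)
    (hcp : c * p = p * c) (I : List ℕ) (v : Fin n) (h : emp n A P I v = false) : emp n A P I (c v) = false := by
  rw [emp_false_iff] at h ⊢
  obtain ⟨k, hk, h1⟩ := h
  refine ⟨c ⟨k, hk⟩, (c ⟨k, hk⟩).2, fun i hi => ?_⟩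
  have h2 : itN P i (c v) = ((c ((p ^ i) v) : Fin n) : ℕ) := by
    rw [← itN_val hp]
    have h3 : c * p ^ i = p ^ i * c := (show Commute c p from hcp).pow_right i
    exact congrArg (fun g : Perm (Fin n) => ((g v : Fin n) : ℕ)) h3.symm
  have h4 := hc ((p ^ i) v) ⟨k, hk⟩
  rw [bitM_eq_iff] at h4
  rw [h2, h4, itN_val hp]
  exact h1 i hi

theorem emp_comm (hp : ∀ i : Fin n, (p i : ℕ) = lk P i) {c : Perm (Fin n)} (hc : c ∈ autG n A)
    (hcp : c * p = p * c) (I : List ℕ) (v : Fin n) : emp n A P I (c v) = emp n A P I v := by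
  cases h : emp n A P I v with
  | false => exact emp_mono hp hc hcp I v h
  | true =>
    cases h1 : emp n A P I (c v) with
    | true => rfl
    | false =>
      have h2 := emp_mono hp (inv_mem hc) (show Commute c p from hcp).inv_left I (c v) h1
      have h3 : c⁻¹ (c v) = v := by rw [Perm.inv_eq_iff_eq]
      rw [h3, h] at h2
      exact absurd h2 (by decide)

/-- equality of Booleans -/
def eqB (x y : Bool) : Bool := Bool.rec (Bool.rec true false y) y x

theorem eqB_self (x : Bool) : eqB x x = true := by cases x <;> rfl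

/-- `v` and `b` have the same patterns -/
def patB (n A P b : ℕ) (PL : List (List ℕ)) (v : ℕ) : Bool :=
  List.rec true (fun I _ ih => band (eqB (emp n A P I v) (emp n A P I b)) ih) PL

theorem patB_comm (hp : ∀ i : Fin n, (p i : ℕ) = lk P i) {c : Perm (Fin n)} (hc : c ∈ autG n A)
    (hcp : c * p = p * c) (b : Fin n) (PL : List (List ℕ)) : patB n A P b PL (c b) = true := by
  induction PL with
  | nil => rfl
  | cons I PL ih =>
    change band (eqB (emp n A P I (c b)) (emp n A P I b)) (patB n A P b PL (c b)) = true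
    rw [ih, emp_comm hp hc hcp, eqB_self]
    rfl

/-- all points with the signature and the patterns of `b` are in the given orbits -/
def chkPat (n A P b J M : ℕ) (PL : List (List ℕ)) (L : List ℕ) : Bool :=
  allB (fun v => cond (sigB n A P b J v) (cond (patB n A P b PL v) (inOrbs P M L v) true) true) n

/-- The centraliser of `p` in the automorphism group, with patterns. -/
theorem cent_of_pat (hp : ∀ i : Fin n, (p i : ℕ) = lk P i) (hpA : p ∈ autG n A) (b : Fin n) {J M : ℕ}
    {PL : List (List ℕ)}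
    (seeds : List (Perm (Fin n))) (hs : ∀ w ∈ seeds, w ∈ autG n A ∧ w * p = p * w) {L : List ℕ}
    (hL : ∀ l ∈ L, ∃ w ∈ seeds, ((w b : Fin n) : ℕ) = l) (chk : chkPat n A P b J M PL L = true)
    (htriv : ∀ c ∈ autG n A, c * p = p * c → c b = b → c = 1)
    {c : Perm (Fin n)} (hc : c ∈ autG n A) (hcp : c * p = p * c) : ∃ w ∈ seeds, ∃ i : ℕ, c = p ^ i * w := by
  have h1 := (allB_iff _ _).1 chk (c b) (c b).2
  rw [sigB_of_comm hp hc hcp b J, patB_comm hp hc hcp b PL] at h1
  obtain ⟨l, hl, i, hi⟩ := inOrbs_spec h1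
  obtain ⟨w, hw, hwl⟩ := hL l hl
  refine ⟨w, hw, i, ?_⟩
  have h2 : (p ^ i * w) b = c b := by
    apply Fin.ext
    rw [Perm.mul_apply, itN_val hp, hwl, hi]
  have h3 : (p ^ i * w)⁻¹ * c = 1 := by
    apply htriv
    · exact mul_mem (inv_mem (mul_mem (pow_mem hpA i) (hs w hw).1)) hc
    · have e1 : Commute (p ^ i * w) p := (Commute.pow_self p i).mul_left (hs w hw).2
      exact (e1.inv_left.mul_left hcp)
    · rw [Perm.mul_apply, ← h2, Perm.inv_eq_iff_eq]
  exact (inv_mul_eq_one.1 h3).symm

/-- The first `M` points of the orbit -/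
def orbL (P M b : ℕ) : List ℕ := Nat.rec [] (fun i ih => itN P i b :: ih) M

theorem mem_orbL {P M b f : ℕ} (h : f ∈ orbL P M b) : ∃ i, f = itN P i b := by
  induction M with
  | zero => exact absurd h List.not_mem_nil
  | succ M ih =>
    rcases List.mem_cons.1 h with h1 | h1
    · exact ⟨M, h1⟩
    · exact ih h1

/-- Only the identity commutes with `p` and fixes `b`. -/
theorem triv_of_chain (hp : ∀ i : Fin n, (p i : ℕ) = lk P i) (b : Fin n) {M : ℕ} {bs : List (ℕ × ℕ)} {R O : ℕ}
    (hch : chainB n A (orbL P M b) bs = true) (hd : chkDist n A (maskL (lastF (orbL P M b) bs)) R O = true)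
    (h1 : prodC bs = 1) : ∀ c ∈ autG n A, c * p = p * c → c b = b → c = 1 := by
  intro c hc hcp hcb
  let H : Subgroup (Perm (Fin n)) := autG n A ⊓ Subgroup.centralizer {p} ⊓ MulAction.stabilizer (Perm (Fin n)) b
  have hH : H ≤ autG n A := inf_le_left.trans inf_le_left
  have hF : FixL H (orbL P M b) := by
    intro f hf
    obtain ⟨i, rfl⟩ := mem_orbL hf
    refine ⟨?_, ?_⟩
    · rw [← itN_val hp]; exact Fin.is_lt _
    · intro g hg j hj
      have h2 : j = (p ^ i) b := Fin.ext (by rw [hj, itN_val hp])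
      have h3 : g * p = p * g := (Subgroup.mem_centralizer_singleton_iff.1 hg.1.2)
      have h4 : g * p ^ i = p ^ i * g := (show Commute g p from h3).pow_right i
      have h5 : g b = b := hg.2
      rw [h2]
      calc g ((p ^ i) b) = (g * p ^ i) b := rfl
        _ = (p ^ i) (g b) := by rw [h4]; rfl
        _ = (p ^ i) b := by rw [h5]
  have h2 := card_le_of_chain bs (orbL P M b) H hH hF hch (fun g hg h => eq_one_of_dist hd g hg h)
  rw [h1] at h2
  have h3 : H = ⊥ := Subgroup.eq_bot_of_card_le H h2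
  have h4 : c ∈ H := ⟨⟨hc, Subgroup.mem_centralizer_singleton_iff.2 hcp⟩, hcb⟩
  rw [h3] at h4
  exact Subgroup.mem_bot.1 h4

/-! ### Words -/

/-- the permutation of a word -/
def pw (gen : ℕ → Perm (Fin n)) (L : List ℕ) : Perm (Fin n) := (L.map gen).prod

/-- the image of a point under a word (the last letter acts first) -/
def run (tab : ℕ → ℕ) (L : List ℕ) (j : ℕ) : ℕ := List.rec j (fun k _ ih => lk (tab k) ih) L

/-- check that two words agree -/
def chkW (n : ℕ) (tab : ℕ → ℕ) (L M : List ℕ) : Bool := allB (fun i => Nat.beq (run tab L i) (run tab M i)) n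

variable {gen : ℕ → Perm (Fin n)} {tab : ℕ → ℕ}

theorem pw_nil : pw gen [] = 1 := rfl

theorem pw_cons (k : ℕ) (L : List ℕ) : pw gen (k :: L) = gen k * pw gen L := by
  unfold pw; rw [List.map_cons, List.prod_cons]

theorem pw_append (L M : List ℕ) : pw gen (L ++ M) = pw gen L * pw gen M := by
  unfold pw; rw [List.map_append, List.prod_append]

theorem pw_val (hgt : ∀ k : ℕ, ∀ i : Fin n, ((gen k i : Fin n) : ℕ) = lk (tab k) i) (L : List ℕ) (i : Fin n) :
    ((pw gen L i : Fin n) : ℕ) = run tab L i := by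
  induction L with
  | nil => rfl
  | cons k L ih =>
    rw [pw_cons, Perm.mul_apply, hgt, ih]; rfl

theorem pw_eq (hgt : ∀ k : ℕ, ∀ i : Fin n, ((gen k i : Fin n) : ℕ) = lk (tab k) i) {L M : List ℕ}
    (h : chkW n tab L M = true) : pw gen L = pw gen M := by
  ext i
  rw [pw_val hgt, pw_val hgt]
  exact Nat.eq_of_beq_eq_true ((allB_iff _ _).1 h i i.2)

theorem pw_mem {G : Subgroup (Perm (Fin n))} {L : List ℕ} (h : ∀ k ∈ L, gen k ∈ G) : pw gen L ∈ G := by
  induction L with
  | nil => exact one_mem _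
  | cons k L ih =>
    rw [pw_cons]
    exact mul_mem (h k List.mem_cons_self) (ih fun l hl => h l (List.mem_cons_of_mem _ hl))

/-- all letters are smaller than `m` -/
def ltB (m : ℕ) (L : List ℕ) : Bool := List.rec true (fun k _ ih => band (Nat.blt k m) ih) L

theorem ltB_iff {m : ℕ} {L : List ℕ} (h : ltB m L = true) : ∀ k ∈ L, k < m := by
  induction L with
  | nil => exact fun k hk => absurd hk List.not_mem_nil
  | cons l L ih =>
    have h1 : ltB m (l :: L) = band (Nat.blt l m) (ltB m L) := rfl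
    rw [h1, band_eq_true] at h
    intro k hk
    rcases List.mem_cons.1 hk with h2 | h2
    · subst h2; exact Nat.blt_eq ▸ h.1
    · exact ih h.2 k h2

/-- all letters are at least `m` and smaller than `m'` -/
def rgB (m m' : ℕ) (L : List ℕ) : Bool := List.rec true (fun k _ ih => band (Nat.blt k m') (band (Nat.ble m k) ih)) L

theorem rgB_iff {m m' : ℕ} {L : List ℕ} (h : rgB m m' L = true) : ∀ k ∈ L, m ≤ k ∧ k < m' := by
  induction L with
  | nil => exact fun k hk => absurd hk List.not_mem_nil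
  | cons l L ih =>
    have h1 : rgB m m' (l :: L) = band (Nat.blt l m') (band (Nat.ble m l) (rgB m m' L)) := rfl
    rw [h1, band_eq_true, band_eq_true] at h
    intro k hk
    rcases List.mem_cons.1 hk with h2 | h2
    · subst h2; exact ⟨Nat.le_of_ble_eq_true h.2.1, Nat.blt_eq ▸ h.1⟩
    · exact ih h.2.2 k h2

/-- `y` is not a power of `p` since `y b` is not in the orbit of `b`. -/
theorem ne_pow (hp : ∀ i : Fin n, (p i : ℕ) = lk P i) {M : ℕ} (hM : p ^ M = 1) (hM0 : 0 < M) {y : Perm (Fin n)}
    (b : Fin n) (h : inOrb P M b (y b) = false) (i : ℕ) : y ≠ p ^ i := by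
  intro hy
  have h1 : y = p ^ (i % M) := by
    rw [hy]
    conv_lhs => rw [← Nat.div_add_mod i M, pow_add, pow_mul, hM, one_pow, one_mul]
  have h2 : ∀ k l v : ℕ, ∀ m, k < m → itN P k l = v → inOrb P m l v = true := by
    intro k l v m hkm hk
    induction m with
    | zero => omega
    | succ m ih =>
      have h3 : inOrb P (m + 1) l v = cond (Nat.beq (itN P m l) v) true (inOrb P m l v) := rfl
      rw [h3]
      rcases Nat.lt_succ_iff_lt_or_eq.1 hkm with h4 | h4
      · rw [ih h4]; cases Nat.beq (itN P m l) v <;> rfl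
      · subst h4
        rw [hk, Nat.beq_refl]; rfl
  have h3 := h2 (i % M) b (y b) M (Nat.mod_lt _ hM0) (by rw [h1, itN_val hp])
  rw [h] at h3
  exact absurd h3 (by decide)

end

end Cfsg.Agent.OddHalf.Table.CentTab

end

-- merged: Cfsg.Agent.OddHalf.Table.J2OutData
section

set_option autoImplicit false

/-!
Data for the automorphisms of the Hall-Janko group on 100 points: tables (11 bits per entry) of an element `x` of order 7,
an element `f` of order 6 with `f x f⁻¹ = x ^ 3`, an involution `y` commuting with `f`, an odd automorphism `t` of the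
graph commuting with `x` and `f`; certificates. Nothing is proved here.
-/

namespace Cfsg.Agent.OddHalf.Table.J2OutData

/-- the element `x` of order 7 -/
def tX : Nat := 0x520d02585b0a21642f8370660e03182a0a61400b05409c16807820074108290490bc120090280280b82b0610600f40981005a1701f83909a1880f00a03e0441a84704609c0e81702a0682b86008a0b02203e0560bc230190b013c0c0320940942e84001c0f00605504806c0e0220040180000900801c05805010004130030421042183106c1301d80d

/-- its inverse -/
def tXi : Nat := 0xb20e82202c0ba12c0e83e0c01482f02305a1140c0540ae1342f85604414c1d8020c207c2604a0680941582900a1380301c07a0a02101a00213c1e05a0b800c1a8620b60800204304c1181f82a04e160318480640240f0170660500385006e0e41881502c0b812021060154178470821241b0400a206c0001901a0e00800b01c0480600f01004c05011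

/-- the element `f` of order 6 -/
def tF : Nat := 0x2c0f00700d07406c0a04500611010811062168260350be16423801072010308280301401b82703408c1d85505e1742501703a0c80782a0c61182d85e04015c2a025000028110400860b02883607002c0385609a0643001c0100b824852056160310050040cc0484104c0181201e07c1202100c09e0482701507e0a4180530261700803407a07c2582d

/-- its inverse -/
def tFi : Nat := 0x76074268250a60e0210060721582901e06c0a0220350100801684a01e03413855002104108120a20e82e05a05e0440c03001604c0186208a17c2782b0920b02a0040340f82b8090860880002e03e0f00504c09005c1a01508c0c42c8370040501f8240bc11c1304b08018c0605d00e0382c00507a184300100540c80c8230520580e04e0b606c28033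

/-- the involution `y` -/
def tY : Nat := 0x261602d0360300700580a0421841c86201a1340902f09613c0b8230a40c42b0480a61180184c04c1281480e06a0a81d02d0280581b81100e1042c82407a1802182e012018270000a80d02002502a1082282705011c160380a00102d80f0180740f05e00a0640d05f0a20f81583f0c61541e0020401102b81f0ba170198010760c80d82209204004030

/-- the odd involution -/
def tU : Nat := 0x900d82e05d0b607c300610be04c2500407801c19035072104198210100780300a06e164008630000f40703e0860942904005c1102305702400c298020961882a0110a21541503005e0fc0d01d0360c41402902c0982102401e02c280180bc1381601c0560b40c82002e09c0a80d0b40ec1a0100461140a00c0441300484f0ac134028580740e024847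

/-- ranks for `x` -/
def rX : Nat := 0x7c088190380121441084902e078178440a60d8128030940340301406a020230410aa17c0d83307210c2e020034164210540680603104b0201380081c01c03c2782305a1801203b00a02c0a84c0ae0c00903f0c60980985004e1782283105c16c0f82c02c0ac0502a09a0a42383d0040103084006e0740385a0900a01d0520180640883c0b00002e856

/-- order for `x` -/
def oX : Nat := 0x4e0f4088320940880084503c03021003056000258400ae0202f02406a0e80b82c07814c2e00b02a1341085808c1042601005018c0a0040600242386001e1582783f0901841002a0b207c1981c0340600b00a0460982a8310681882e84403a1680703809210c0303e0b606c1685004a0a40283b06c0dc2900705c0642f84e01a144178120a804c1c802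

/-- ranks for `f` -/
def rF : Nat := 0xc1743102a0220480500405216423023030050098350361302f83b0160901b05a0960b8158600a6024000210a011c0701504e0c40802000210c0381c074148288450c613c2e01f0660942b05e0500c82001d0a80780783d0060f0068260040e4268550840d00b0480b60201b82d03215c250440820f81c0300c205c2c02c05e014270490340301103f

/-- order for `f` -/
def oF : Nat := 0x66184058480a20b03103102e1302d0090240b40e02708e0d81a8430640140e852096044020180841641a01007406c07829000038120220a00dc0f00d02a1342a01a05e0a81f00c00e1280a0080921802d82b07e0801704e0b00042203c060098140380a600c09857014064200560aa1782f83d04a1041080209e1742301607218c0305c04607c1d845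

/-- chain for `x` -/
def bX : List (Nat × Nat) := [(41, 1), (80, 1), (4, 1), (1, 1), (5, 1)]

/-- chain for `f` -/
def bF : List (Nat × Nat) := [(5, 1), (16, 1), (2, 1), (7, 1), (0, 1)]

end Cfsg.Agent.OddHalf.Table.J2OutData

end

-- merged: Cfsg.Agent.OddHalf.Table.OutJ2
section

/-!
`OutSign` for the Hall–Janko group: the outer automorphism group has order at most two.
-/

set_option autoImplicit false
set_option maxRecDepth 100000

namespace Cfsg.Agent.OddHalf.Table.OutJ2

open Equiv Cfsg.Agent.SporadicA.PermTab Cfsg.Agent.SporadicA.J2Data Cfsg.Agent.SporadicA.J2Hundred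
  Cfsg.Agent.OddHalf.Table.CentTab Cfsg.Agent.OddHalf.Table.J2OutData

theorem iX : chkInv 100 tX tXi = true := by decide +kernel
theorem iF : chkInv 100 tF tFi = true := by decide +kernel
theorem iY : chkInv 100 tY tY = true := by decide +kernel
theorem iU : chkInv 100 tU tU = true := by decide +kernel

/-- the generators and the new elements -/
noncomputable def gen (k : ℕ) : Perm (Fin 100) := match k with
  | 0 => pA
  | 1 => pB
  | 2 => pC
  | 3 => pD
  | 4 => pE
  | 5 => mkPerm tX tXi iX
  | 6 => mkPerm tF tFi iF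
  | 7 => mkPerm tY tY iY
  | _ => mkPerm tU tU iU

/-- the tables -/
def tab (k : ℕ) : ℕ := match k with
  | 0 => tA
  | 1 => tB
  | 2 => tC
  | 3 => tD
  | 4 => tE
  | 5 => tX
  | 6 => tF
  | 7 => tY
  | _ => tU

theorem gen_val (k : ℕ) (i : Fin 100) : ((gen k i : Fin 100) : ℕ) = lk (tab k) i := by
  match k with
  | 0 => exact mkPerm_val tA tA iA i
  | 1 => exact mkPerm_val tB tB iB i
  | 2 => exact mkPerm_val tC tC iC i
  | 3 => exact mkPerm_val tD tD iD i
  | 4 => exact mkPerm_val tE tE iE i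
  | 5 => exact mkPerm_val tX tXi iX i
  | 6 => exact mkPerm_val tF tFi iF i
  | 7 => exact mkPerm_val tY tY iY i
  | (n + 8) => exact mkPerm_val tU tU iU i

theorem gen_mem_lt (k : ℕ) (hk : k < 5) : gen k ∈ G := by
  match k with
  | 0 => exact mA
  | 1 => exact mB
  | 2 => exact mC
  | 3 => exact mD
  | 4 => exact mE
  | (n + 5) => omega

/-- words for `x`, `f`, `y` -/
def wX : List ℕ := [0, 1, 2, 1, 3, 2, 1, 3, 4]
def wF : List ℕ := [1, 0, 1, 2, 3, 2, 1, 0, 1, 0, 3, 4, 3, 2, 1, 3, 2, 3, 2, 1, 0]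
def wY : List ℕ := [0, 1, 0, 2, 1, 3, 2, 3, 2, 1, 0, 1, 4, 3, 2, 1, 3, 2, 1, 3, 4, 3, 2]

theorem eX : pw gen [5] = pw gen wX := pw_eq gen_val (by decide +kernel)
theorem eF : pw gen [6] = pw gen wF := pw_eq gen_val (by decide +kernel)
theorem eY : pw gen [7] = pw gen wY := pw_eq gen_val (by decide +kernel)

/-- the element of order 7 -/
noncomputable abbrev x : Perm (Fin 100) := gen 5
/-- the element of order 6 -/
noncomputable abbrev f : Perm (Fin 100) := gen 6
/-- the involution centralising `f` -/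
noncomputable abbrev y : Perm (Fin 100) := gen 7
/-- the odd involution centralising `x` and `f` -/
noncomputable abbrev u : Perm (Fin 100) := gen 8

theorem pw1 (k : ℕ) : pw gen [k] = gen k := by rw [pw_cons, pw_nil, mul_one]
theorem pw2 (k l : ℕ) : pw gen [k, l] = gen k * gen l := by rw [pw_cons, pw1]

theorem x_mem : x ∈ G := by
  have h : x = pw gen wX := (pw1 5).symm.trans eX
  rw [h]
  exact pw_mem fun k hk => gen_mem_lt k (ltB_iff (m := 5) (L := wX) (by decide +kernel) k hk)
theorem f_mem : f ∈ G := by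
  have h : f = pw gen wF := (pw1 6).symm.trans eF
  rw [h]
  exact pw_mem fun k hk => gen_mem_lt k (ltB_iff (m := 5) (L := wF) (by decide +kernel) k hk)
theorem y_mem : y ∈ G := by
  have h : y = pw gen wY := (pw1 7).symm.trans eY
  rw [h]
  exact pw_mem fun k hk => gen_mem_lt k (ltB_iff (m := 5) (L := wY) (by decide +kernel) k hk)

theorem u_mem : u ∈ autG 100 adj :=
  mkPerm_mem_autG iU (rowsOK_of_chk (chkInv_lt iU) (chkInv_inj iU) (by decide +kernel))

theorem x7 : x ^ 7 = 1 := by
  have h := pw_eq gen_val (L := [5, 5, 5, 5, 5, 5, 5]) (M := []) (by decide +kernel)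
  simpa only [pw_cons, pw_nil, mul_one, pow_succ, pow_zero, one_mul, mul_assoc] using h
theorem f6 : f ^ 6 = 1 := by
  have h := pw_eq gen_val (L := [6, 6, 6, 6, 6, 6]) (M := []) (by decide +kernel)
  simpa only [pw_cons, pw_nil, mul_one, pow_succ, pow_zero, one_mul, mul_assoc] using h
theorem y2 : y * y = 1 := by
  have h := pw_eq gen_val (L := [7, 7]) (M := []) (by decide +kernel)
  rwa [pw2, pw_nil] at h
theorem u2 : u * u = 1 := by
  have h := pw_eq gen_val (L := [8, 8]) (M := []) (by decide +kernel)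
  rwa [pw2, pw_nil] at h
theorem yf : y * f = f * y := by
  have h := pw_eq gen_val (L := [7, 6]) (M := [6, 7]) (by decide +kernel)
  rwa [pw2, pw2] at h
theorem ux : u * x = x * u := by
  have h := pw_eq gen_val (L := [8, 5]) (M := [5, 8]) (by decide +kernel)
  rwa [pw2, pw2] at h
theorem uf : u * f = f * u := by
  have h := pw_eq gen_val (L := [8, 6]) (M := [6, 8]) (by decide +kernel)
  rwa [pw2, pw2] at h
theorem fx : f * x * f⁻¹ = x ^ 3 := by
  have h := pw_eq gen_val (L := [6, 5]) (M := [5, 5, 5, 6]) (by decide +kernel)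
  rw [mul_inv_eq_iff_eq_mul]
  simpa only [pw_cons, pw_nil, mul_one, pow_succ, pow_zero, one_mul, mul_assoc] using h

theorem ne_of_val {a b : Perm (Fin 100)} (i : Fin 100) (h : ((a i : Fin 100) : ℕ) ≠ (b i : Fin 100)) : a ≠ b := by
  rintro rfl; exact h rfl

theorem x_ne : x ≠ 1 := ne_of_val 0 (by rw [gen_val]; decide +kernel)
theorem f2_ne : f ^ 2 ≠ 1 := by
  rw [pow_two, ← pw2]
  exact ne_of_val 0 (by rw [pw_val gen_val]; decide +kernel)
theorem f3_ne : f ^ 3 ≠ 1 := by
  have h : f ^ 3 = pw gen [6, 6, 6] := by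
    simp only [pw_cons, pw_nil, mul_one, pow_succ, pow_zero, one_mul, mul_assoc]
  rw [h]
  exact ne_of_val 0 (by rw [pw_val gen_val]; decide +kernel)

theorem order_x : orderOf x = 7 := by
  have : Fact (Nat.Prime 7) := ⟨by norm_num⟩
  exact orderOf_eq_prime x7 x_ne

theorem order_f : orderOf f = 6 := by
  refine orderOf_eq_of_pow_and_pow_div_prime (by norm_num) f6 ?_
  intro p hp hd
  have : p ∈ Nat.primeFactors 6 := Nat.mem_primeFactors.2 ⟨hp, hd, by norm_num⟩
  have h6 : Nat.primeFactors 6 = {2, 3} := by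
    rw [show (6 : ℕ) = 2 * 3 by norm_num, Nat.primeFactors_mul (by norm_num) (by norm_num),
      Nat.prime_two.primeFactors, Nat.prime_three.primeFactors]
    rfl
  rw [h6] at this
  simp only [Finset.mem_insert, Finset.mem_singleton] at this
  rcases this with rfl | rfl
  · exact f3_ne
  · exact f2_ne

theorem sign_u : Perm.sign u = -1 := by
  have h2 : u.support.card = 86 := by
    rw [← card_fin_of_cntB (fun v => nbeq (lk tU v) v) 100 86 (by decide +kernel)]
    refine congrArg Finset.card ?_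
    ext v
    rw [Perm.mem_support, Finset.mem_filter, nbeq_iff]
    exact ⟨fun h => ⟨Finset.mem_univ _, fun h' => h (Fin.ext ((gen_val 8 v).trans h'))⟩,
      fun h h' => h.2 (((gen_val 8 v).symm).trans (Fin.ext_iff.1 h'))⟩
  rw [sign_of_involution u2, h2]
  decide

theorem xA : x ∈ autG 100 adj := aut_le x_mem
theorem fA : f ∈ autG 100 adj := aut_le f_mem
theorem yA : y ∈ autG 100 adj := aut_le y_mem

theorem triv_x : ∀ c ∈ autG 100 adj, c * x = x * c → c 0 = 0 → c = 1 :=
  triv_of_chain (gen_val 5) 0 (M := 7) (bs := bX) (R := rX) (O := oX) (by decide +kernel) (by decide +kernel)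
    (by decide +kernel)

theorem triv_f : ∀ c ∈ autG 100 adj, c * f = f * c → c 6 = 6 → c = 1 :=
  triv_of_chain (gen_val 6) 6 (M := 6) (bs := bF) (R := rF) (O := oF) (by decide +kernel) (by decide +kernel)
    (by decide +kernel)

theorem cent_x {c : Perm (Fin 100)} (hc : c ∈ G) (hcx : c * x = x * c) : ∃ i : ℕ, c = x ^ i := by
  obtain ⟨w, hw, i, h⟩ := cent_of_check (gen_val 5) xA 0 (J := 3) (M := 7) [1, u]
    (by
      intro w hw
      simp only [List.mem_cons, List.not_mem_nil, or_false] at hw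
      rcases hw with rfl | rfl
      · exact ⟨one_mem _, by rw [one_mul, mul_one]⟩
      · exact ⟨u_mem, ux⟩)
    (L := [0, lk tU 0])
    (by
      intro l hl
      simp only [List.mem_cons, List.not_mem_nil, or_false] at hl
      rcases hl with rfl | rfl
      · exact ⟨1, by simp, rfl⟩
      · exact ⟨u, by simp, gen_val 8 0⟩)
    (by decide +kernel) triv_x (aut_le hc) hcx
  simp only [List.mem_cons, List.not_mem_nil, or_false] at hw
  rcases hw with rfl | rfl
  · exact ⟨i, by rw [h, mul_one]⟩
  · exfalso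
    have h1 := sign_G c hc
    rw [h, map_mul, map_pow, sign_G x x_mem, one_pow, one_mul, sign_u] at h1
    exact absurd h1 (by decide)

theorem cent_f {c : Perm (Fin 100)} (hc : c ∈ G) (hcf : c * f = f * c) : ∃ i : ℕ, c = f ^ i ∨ c = f ^ i * y := by
  obtain ⟨w, hw, i, h⟩ := cent_of_check (gen_val 6) fA 6 (J := 5) (M := 6) [1, y, u, u * y]
    (by
      intro w hw
      simp only [List.mem_cons, List.not_mem_nil, or_false] at hw
      rcases hw with rfl | rfl | rfl | rfl
      · exact ⟨one_mem _, by rw [one_mul, mul_one]⟩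
      · exact ⟨yA, yf⟩
      · exact ⟨u_mem, uf⟩
      · exact ⟨mul_mem u_mem yA, by rw [mul_assoc, yf, ← mul_assoc, uf, mul_assoc]⟩)
    (L := [6, lk tY 6, lk tU 6, lk tU (lk tY 6)])
    (by
      intro l hl
      simp only [List.mem_cons, List.not_mem_nil, or_false] at hl
      rcases hl with rfl | rfl | rfl | rfl
      · exact ⟨1, by simp, rfl⟩
      · exact ⟨y, by simp, gen_val 7 6⟩
      · exact ⟨u, by simp, gen_val 8 6⟩
      · refine ⟨u * y, by simp, ?_⟩
        rw [← pw2]
        exact pw_val gen_val [8, 7] 6)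
    (by decide +kernel) triv_f (aut_le hc) hcf
  have hs : ∀ {a b : Perm (Fin 100)}, a ∈ G → b ∈ G → Perm.sign (f ^ i * (u * b)) = -1 := by
    intro a b _ hb
    rw [map_mul, map_pow, sign_G f f_mem, one_pow, one_mul, map_mul, sign_u, sign_G b hb, mul_one]
  simp only [List.mem_cons, List.not_mem_nil, or_false] at hw
  rcases hw with rfl | rfl | rfl | rfl
  · exact ⟨i, Or.inl (by rw [h, mul_one])⟩
  · exact ⟨i, Or.inr h⟩
  · exfalso
    have h1 := sign_G c hc
    have h2 := hs (one_mem G) (one_mem G)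
    rw [mul_one, ← h, h1] at h2
    exact absurd h2 (by decide)
  · exfalso
    have h1 := sign_G c hc
    have h2 := hs (one_mem G) y_mem
    rw [← h, h1] at h2
    exact absurd h2 (by decide)

theorem y_ne_pow (i : ℕ) : y ≠ f ^ i :=
  ne_pow (gen_val 6) f6 (by norm_num) 6 (by rw [gen_val]; decide +kernel) i

/-! ### generation -/

theorem bA : pw gen [0] = pw gen [7, 5, 7, 5, 5, 6, 7, 5, 7, 5, 5, 6, 7, 5, 7, 5, 5, 6] := pw_eq gen_val (by decide +kernel)
theorem bB : pw gen [1] = pw gen [5, 7, 5, 5, 5, 7, 5, 7, 5, 5, 6, 7, 5, 7, 5, 5, 7, 5, 6, 6] := pw_eq gen_val (by decide +kernel)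
theorem bC : pw gen [2] = pw gen [5, 7, 5, 6, 6, 7, 5, 7, 5, 7, 5, 7, 5, 6, 7, 5, 5, 7] := pw_eq gen_val (by decide +kernel)
theorem bD : pw gen [3] = pw gen [5, 5, 5, 5, 5, 5, 7, 5, 7, 5, 5, 7, 5, 6, 7, 5, 5, 6, 7, 5, 7, 5] := pw_eq gen_val (by decide +kernel)
theorem bE : pw gen [4] = pw gen [6, 5, 6, 5, 7, 5, 5, 6, 7, 5, 5] := pw_eq gen_val (by decide +kernel)

theorem le_closure {K : Subgroup (Perm (Fin 100))} (hx : x ∈ K) (hf : f ∈ K) (hy : y ∈ K) : G ≤ K := by
  have h : ∀ k, 5 ≤ k ∧ k < 8 → gen k ∈ K := by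
    intro k hk
    have : k = 5 ∨ k = 6 ∨ k = 7 := by omega
    rcases this with rfl | rfl | rfl
    exacts [hx, hf, hy]
  rw [G, Subgroup.closure_le]
  rintro s (rfl | rfl | rfl | rfl | rfl)
  · have h1 : pA = pw gen [7, 5, 7, 5, 5, 6, 7, 5, 7, 5, 5, 6, 7, 5, 7, 5, 5, 6] := (pw1 0).symm.trans bA
    rw [h1]
    exact pw_mem fun k hk => h k (rgB_iff (m := 5) (m' := 8) (L := [7, 5, 7, 5, 5, 6, 7, 5, 7, 5, 5, 6, 7, 5, 7, 5, 5, 6]) (by decide +kernel) k hk)
  · have h1 : pB = pw gen [5, 7, 5, 5, 5, 7, 5, 7, 5, 5, 6, 7, 5, 7, 5, 5, 7, 5, 6, 6] := (pw1 1).symm.trans bB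
    rw [h1]
    exact pw_mem fun k hk => h k (rgB_iff (m := 5) (m' := 8) (L := [5, 7, 5, 5, 5, 7, 5, 7, 5, 5, 6, 7, 5, 7, 5, 5, 7, 5, 6, 6]) (by decide +kernel) k hk)
  · have h1 : pC = pw gen [5, 7, 5, 6, 6, 7, 5, 7, 5, 7, 5, 7, 5, 6, 7, 5, 5, 7] := (pw1 2).symm.trans bC
    rw [h1]
    exact pw_mem fun k hk => h k (rgB_iff (m := 5) (m' := 8) (L := [5, 7, 5, 6, 6, 7, 5, 7, 5, 7, 5, 7, 5, 6, 7, 5, 5, 7]) (by decide +kernel) k hk)
  · have h1 : pD = pw gen [5, 5, 5, 5, 5, 5, 7, 5, 7, 5, 5, 7, 5, 6, 7, 5, 5, 6, 7, 5, 7, 5] := (pw1 3).symm.trans bD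
    rw [h1]
    exact pw_mem fun k hk => h k (rgB_iff (m := 5) (m' := 8) (L := [5, 5, 5, 5, 5, 5, 7, 5, 7, 5, 5, 7, 5, 6, 7, 5, 5, 6, 7, 5, 7, 5]) (by decide +kernel) k hk)
  · have h1 : pE = pw gen [6, 5, 6, 5, 7, 5, 5, 6, 7, 5, 5] := (pw1 4).symm.trans bE
    rw [h1]
    exact pw_mem fun k hk => h k (rgB_iff (m := 5) (m' := 8) (L := [6, 5, 6, 5, 7, 5, 5, 6, 7, 5, 5]) (by decide +kernel) k hk)

theorem closure_eq : Subgroup.closure ({⟨x, x_mem⟩, ⟨f, f_mem⟩, ⟨y, y_mem⟩} : Set G) = ⊤ := by
  set K := Subgroup.closure ({⟨x, x_mem⟩, ⟨f, f_mem⟩, ⟨y, y_mem⟩} : Set G) with hK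
  rw [eq_top_iff]
  rintro ⟨g, hg⟩ -
  have h1 : G ≤ K.map G.subtype := by
    apply le_closure
    · exact ⟨⟨x, x_mem⟩, Subgroup.subset_closure (by simp), rfl⟩
    · exact ⟨⟨f, f_mem⟩, Subgroup.subset_closure (by simp), rfl⟩
    · exact ⟨⟨y, y_mem⟩, Subgroup.subset_closure (by simp), rfl⟩
  obtain ⟨k, hk, hkg⟩ := h1 hg
  have : k = ⟨g, hg⟩ := Subtype.ext hkg
  rwa [← this]

/-- `OutSign` for the Hall–Janko group on 100 points. -/
theorem outSign_hundred : OutSign G := by
  refine CycNorm.outSign_of (p := 7) (m := 3) (N := 3) (by norm_num) (x := ⟨x, x_mem⟩) (f := ⟨f, f_mem⟩)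
    (y := ⟨y, y_mem⟩) ?_ ?_ ?_ ?_ (by decide) (by decide) ?_ ?_ ?_ ?_ ?_ closure_eq
  · rw [Subgroup.orderOf_mk]; exact order_x
  · rw [card_G]; norm_num
  · rintro ⟨c, hc⟩ h
    obtain ⟨i, hi⟩ := cent_x hc (congrArg Subtype.val h)
    exact ⟨i, Subtype.ext hi⟩
  · exact Subtype.ext fx
  · rw [Subgroup.orderOf_mk]; exact order_f
  · exact Subtype.ext y2
  · exact Subtype.ext yf
  · intro i h
    exact y_ne_pow i (congrArg Subtype.val h)
  · rintro ⟨c, hc⟩ h
    obtain ⟨i, hi | hi⟩ := cent_f hc (congrArg Subtype.val h)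
    · exact ⟨i, Or.inl (Subtype.ext hi)⟩
    · exact ⟨i, Or.inr (Subtype.ext hi)⟩

/-- **`OutSign` for the Hall–Janko group.** -/
theorem outSign_J2 {X : Type*} [Group X] (e : X ≃* Cfsg.Spor.J2) : OutSign X := by
  obtain ⟨f⟩ := Cfsg.Agent.J2.HundredGens.J2_iso Cfsg.Agent.S1619.result.2.2.2
  exact OutSign.of_equiv (e.trans f).symm outSign_hundred

end Cfsg.Agent.OddHalf.Table.OutJ2

end
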