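import Cfsg.Agent.OddHalf.Table.AutNorm
import Cfsg.Agent.Nodes.RGDChev
import Cfsg.Agent.S1032
import Cfsg.Agent.S1033
import Cfsg.Agent.S1034
import Cfsg.Agent.S1055

-- merged: Cfsg.Agent.OddHalf.Table.OutRankTwo
section

/-!
# `OutSign` for a root group datum of rank two over the field with four elements

helper328 (TABLE-17 of S1765). `Dat`: the torus `T` is elementary abelian of order nine, generated by `k0`, `k1`; `k0`
(`k1`) centralises `X (sr 0)` (`X (sr 1)`), `k1` (`k0`) is transitive on its nonidentity elements; `k0 k1` and not `k0`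
centralises `X (s_1 (sr 0))`; `k1` centralises `X (s_0 (sr 1))`. This is the situation in `G2(4)`.

`outSign_of_dat`: the group of outer automorphisms has order at most two.
-/

set_option autoImplicit false
set_option linter.unusedSectionVars false

namespace Cfsg.Agent.OddHalf.Table.OutRankTwo

theorem dvd_of_pow_mem {G : Type*} [Group G] {C : Subgroup G} {g : G} (h3 : g ^ 3 = 1) (hg : g ∉ C) {b : ℕ}
    (hb : g ^ b ∈ C) : 3 ∣ b := by
  have h1 : g ^ b = g ^ (b % 3) := pow_eq_pow_mod b h3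
  rw [h1] at hb
  have h2 : b % 3 < 3 := Nat.mod_lt _ (by norm_num)
  interval_cases hr : b % 3
  · exact Nat.dvd_of_mod_eq_zero hr
  · exact absurd (by simpa using hb) hg
  · exfalso
    apply hg
    have h4 := mul_mem hb hb
    have e : g ^ 2 * g ^ 2 = g := by
      calc g ^ 2 * g ^ 2 = g ^ 3 * g := by group
        _ = g := by rw [h3, one_mul]
    rwa [e] at h4

/-- The situation in `G2(4)`. -/
structure Dat {Y : Type*} [Group Y] (T X0 X1 X01 X10 : Subgroup Y) (k0 k1 : Y) : Prop where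
  m0 : k0 ∈ T
  m1 : k1 ∈ T
  o0 : k0 ^ 3 = 1
  o1 : k1 ^ 3 = 1
  com : k0 * k1 = k1 * k0
  gen : ∀ t ∈ T, ∃ a b : ℕ, t = k0 ^ a * k1 ^ b
  c0 : k0 ∈ Subgroup.centralizer (X0 : Set Y)
  c1 : k1 ∈ Subgroup.centralizer (X1 : Set Y)
  tr0 : ∀ x ∈ X0, ∀ y ∈ X0, x ≠ 1 → y ≠ 1 → ∃ a : ℕ, k1 ^ a * x * (k1 ^ a)⁻¹ = y
  tr1 : ∀ x ∈ X1, ∀ y ∈ X1, x ≠ 1 → y ≠ 1 → ∃ a : ℕ, k0 ^ a * x * (k0 ^ a)⁻¹ = y
  n0 : k1 ∉ Subgroup.centralizer (X0 : Set Y)
  n1 : k0 ∉ Subgroup.centralizer (X1 : Set Y)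
  r1 : k0 * k1 ∈ Subgroup.centralizer (X01 : Set Y)
  r1' : k0 ∉ Subgroup.centralizer (X01 : Set Y)
  r0 : k1 ∈ Subgroup.centralizer (X10 : Set Y)

namespace Dat

variable {Y : Type*} [Group Y] {T X0 X1 X01 X10 : Subgroup Y} {k0 k1 : Y} (D : Dat T X0 X1 X01 X10 k0 k1)

include D

theorem cen0 {t : Y} (ht : t ∈ T) (hc : t ∈ Subgroup.centralizer (X0 : Set Y)) : ∃ a : ℕ, t = k0 ^ a := by
  obtain ⟨a, b, rfl⟩ := D.gen t ht
  have h1 : k1 ^ b ∈ Subgroup.centralizer (X0 : Set Y) := by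
    have := mul_mem (inv_mem (pow_mem D.c0 a)) hc
    rwa [inv_mul_cancel_left] at this
  obtain ⟨c, rfl⟩ := dvd_of_pow_mem D.o1 D.n0 h1
  exact ⟨a, by rw [pow_mul, D.o1, one_pow, mul_one]⟩

theorem cen1 {t : Y} (ht : t ∈ T) (hc : t ∈ Subgroup.centralizer (X1 : Set Y)) : ∃ b : ℕ, t = k1 ^ b := by
  obtain ⟨a, b, rfl⟩ := D.gen t ht
  have h1 : k0 ^ a ∈ Subgroup.centralizer (X1 : Set Y) := by
    have := mul_mem hc (inv_mem (pow_mem D.c1 b))
    rwa [mul_inv_cancel_right] at this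
  obtain ⟨c, rfl⟩ := dvd_of_pow_mem D.o0 D.n1 h1
  exact ⟨b, by rw [pow_mul, D.o0, one_pow, one_mul]⟩

theorem cen01 {t : Y} (ht : t ∈ T) (hc : t ∈ Subgroup.centralizer (X0 : Set Y))
    (hc' : t ∈ Subgroup.centralizer (X01 : Set Y)) : t = 1 := by
  obtain ⟨a, rfl⟩ := D.cen0 ht hc
  obtain ⟨c, rfl⟩ := dvd_of_pow_mem D.o0 D.r1' hc'
  rw [pow_mul, D.o0, one_pow]

theorem comm {s t : Y} (hs : s ∈ T) (ht : t ∈ T) : s * t = t * s := by
  obtain ⟨a, b, rfl⟩ := D.gen s hs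
  obtain ⟨c, d, rfl⟩ := D.gen t ht
  have h1 : Commute k0 k1 := D.com
  have h2 : Commute (k0 ^ a * k1 ^ b) (k0 ^ c * k1 ^ d) := by
    refine Commute.mul_left ?_ ?_ <;> refine Commute.mul_right ?_ ?_
    · exact Commute.pow_pow_self _ _ _
    · exact h1.pow_pow _ _
    · exact h1.symm.pow_pow _ _
    · exact Commute.pow_pow_self _ _ _
  exact h2

theorem k1_ne : k1 ≠ 1 := by
  rintro rfl
  exact D.n0 (one_mem _)

theorem pow_three {t : Y} (ht : t ∈ T) : t ^ 3 = 1 := by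
  obtain ⟨a, b, rfl⟩ := D.gen t ht
  have h1 : Commute (k0 ^ a) (k1 ^ b) := (show Commute k0 k1 from D.com).pow_pow _ _
  rw [h1.mul_pow, ← pow_mul, ← pow_mul, mul_comm a, mul_comm b, pow_mul, pow_mul, D.o0, D.o1, one_pow, one_pow,
    one_mul]

end Dat

open CoxeterSystem Cfsg.Agent.ChevalleyStructure.CoxeterGeom Cfsg.Agent.Tits.Roots Cfsg.Agent.Tits.Core
  Cfsg.Agent.Tits.RootComb Cfsg.Agent.Nodes.Comb Cfsg.Agent.Nodes.Reps Cfsg.Agent.Nodes.BNOf Cfsg.Agent.Nodes.BNOf.RGD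
  Cfsg.Agent.FixBN Cfsg.Agent.Tits.OfBN Cfsg.Agent.Tits.OppRes Cfsg.Agent.LieExceptional.BNPairCore
  Cfsg.Agent.OddHalf.Table.AutBldg Cfsg.Agent.OddHalf.Table.AutRGD Cfsg.Agent.OddHalf.Table.AutNorm
  Cfsg.Agent.FixBN.TwOfBN

variable {W Y : Type*} [Group W] [Group Y] {M : CoxeterMatrix (Fin 2)}
  {cs : CoxeterSystem M W} {A : Fin 2 → Fin 2 → ℤ} {h : IsCartan M A} {p : ℕ} {T : Subgroup Y} {n : Fin 2 → Y}
  {X : (Fin 2 → ℤ) → Subgroup Y} [Finite W]

section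

variable {R : RGD cs h p T n X} {hgen : B cs h T X ⊔ NN cs R.nsys = ⊤}
  [hN : (((R.bnPair hgen).B ⊓ (R.bnPair hgen).N).subgroupOf (R.bnPair hgen).N).Normal]
  {cs' : CoxeterSystem M (WP (R.bnPair hgen))}
  (hcs : ∀ i, cs'.simple i = QuotientGroup.mk
    (⟨(eS R hgen i : Y), (R.bnPair hgen).subset (eS R hgen i).2⟩ : (R.bnPair hgen).N))
  {g₀ : (R.bnPair hgen).N} (hg₀ : (QuotientGroup.mk g₀ : WP (R.bnPair hgen)) = w0 cs')
  [Finite Y] [Fact p.Prime] (hcore : (B cs h T X).normalCore = ⊥) {k0 k1 : Y}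
  (D : Dat T (X (sr 0)) (X (sr 1)) (X (rep cs h (cs.simple 1) (sr 0))) (X (rep cs h (cs.simple 0) (sr 1))) k0 k1)

include hcs hg₀ hcore D

/-- The type permutation is trivial. -/
theorem sg_eq {β : MulAut Y} (hβ : Nrm R hgen g₀ β) : ∀ i, sg (eS R hgen) cs' hcs hβ.keep i = i := by
  set σ := sg (eS R hgen) cs' hcs hβ.keep with hσ
  have hinj : Function.Injective σ := sg_injective _ _ _ hβ.keep
  have key : σ 1 ≠ 0 := by
    intro h1
    have h0 : σ 0 = 1 := by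
      have h2 : σ 0 ≠ 0 := fun h2 => absurd (hinj (h2.trans h1.symm)) (by decide)
      omega
    have hk : β k1 = 1 := by
      apply D.cen01 (hβ.mem_T hcs hcore hg₀ D.m1)
      · rw [Subgroup.mem_centralizer_iff]
        intro x hx
        have h3 := hβ.cen hcs hcore hg₀ D.m1 (i := 1) (fun x hx => ((Subgroup.mem_centralizer_iff.1 D.c1) x hx).symm)
        rw [← hσ, h1] at h3
        exact (h3 x hx).symm
      · rw [Subgroup.mem_centralizer_iff]
        intro x hx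
        have h3 := hβ.cen_rep hcs hcore hg₀ D.m1 (i := 1) (j := 0)
          (fun x hx => ((Subgroup.mem_centralizer_iff.1 D.r0) x hx).symm)
        rw [← hσ, h1, h0] at h3
        exact (h3 x hx).symm
    apply D.k1_ne
    rw [← map_one β] at hk
    exact β.injective hk
  have h11 : σ 1 = 1 := by omega
  have h00 : σ 0 = 0 := by
    have h2 : σ 0 ≠ 1 := fun h2 => absurd (hinj (h2.trans h11.symm)) (by decide)
    omega
  intro i
  fin_cases i
  · exact h00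
  · exact h11

/-- A normalised automorphism acts on `T` as a power. -/
theorem exists_pow {β : MulAut Y} (hβ : Nrm R hgen g₀ β) : ∃ a : ℕ, ∀ t ∈ T, β t = t ^ a := by
  have hσ := sg_eq hcs hg₀ hcore D hβ
  have hc : ∀ {t : Y} (_ : t ∈ T) {i : Fin 2}, t ∈ Subgroup.centralizer (X (sr i) : Set Y) →
      β t ∈ Subgroup.centralizer (X (sr i) : Set Y) := by
    intro t ht i hti
    rw [Subgroup.mem_centralizer_iff] at hti ⊢
    intro x hx
    have h3 := hβ.cen hcs hcore hg₀ ht (i := i) (fun x hx => (hti x hx).symm)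
    rw [hσ] at h3
    exact (h3 x hx).symm
  have hr : ∀ {t : Y} (_ : t ∈ T) {i j : Fin 2},
      t ∈ Subgroup.centralizer (X (rep cs h (cs.simple j) (sr i)) : Set Y) →
      β t ∈ Subgroup.centralizer (X (rep cs h (cs.simple j) (sr i)) : Set Y) := by
    intro t ht i j hti
    rw [Subgroup.mem_centralizer_iff] at hti ⊢
    intro x hx
    have h3 := hβ.cen_rep hcs hcore hg₀ ht (i := i) (j := j) (fun x hx => (hti x hx).symm)
    rw [hσ, hσ] at h3
    exact (h3 x hx).symm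
  obtain ⟨a, ha⟩ := D.cen0 (hβ.mem_T hcs hcore hg₀ D.m0) (hc D.m0 D.c0)
  obtain ⟨b, hb⟩ := D.cen1 (hβ.mem_T hcs hcore hg₀ D.m1) (hc D.m1 D.c1)
  have h1 := hr (mul_mem D.m0 D.m1) D.r1
  rw [map_mul, ha, hb] at h1
  -- `k0 ^ a * k1 ^ b = (k0 k1) ^ b * k0 ^ (a - b)`
  have hcom : Commute k0 k1 := D.com
  have h2 : k0 ^ (a + 2 * b) ∈ Subgroup.centralizer (X (rep cs h (cs.simple 1) (sr 0)) : Set Y) := by
    have h3 := mul_mem h1 (pow_mem D.r1 (2 * b))
    have e : k0 ^ a * k1 ^ b * (k0 * k1) ^ (2 * b) = k0 ^ (a + 2 * b) := by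
      rw [hcom.mul_pow, pow_add]
      calc k0 ^ a * k1 ^ b * (k0 ^ (2 * b) * k1 ^ (2 * b)) = k0 ^ a * (k1 ^ b * k0 ^ (2 * b)) * k1 ^ (2 * b) := by
            group
        _ = k0 ^ a * k0 ^ (2 * b) * (k1 ^ b * k1 ^ (2 * b)) := by
            rw [((hcom.pow_pow (2 * b) b).eq).symm]; group
        _ = k0 ^ a * k0 ^ (2 * b) := by
            rw [← pow_add k1, show b + 2 * b = 3 * b by ring, pow_mul k1, D.o1, one_pow, mul_one]
    rwa [e] at h3
  obtain ⟨c, hc'⟩ := dvd_of_pow_mem D.o0 D.r1' h2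
  have hab : k1 ^ b = k1 ^ a := by
    have h5 : k1 ^ (3 * b) = 1 := by rw [pow_mul, D.o1, one_pow]
    have h6 : k1 ^ (3 * c) = 1 := by rw [pow_mul, D.o1, one_pow]
    have h7 : k1 ^ a * k1 ^ (2 * b) = 1 := by rw [← pow_add, hc', h6]
    have h8 : k1 ^ b * k1 ^ (2 * b) = 1 := by rw [← pow_add, show b + 2 * b = 3 * b by ring, h5]
    exact mul_right_cancel (h8.trans h7.symm)
  refine ⟨a, fun t ht => ?_⟩
  obtain ⟨x, y, rfl⟩ := D.gen t ht
  rw [map_mul, map_pow, map_pow, ha, hb, hab, (hcom.pow_pow x y).mul_pow, ← pow_mul, ← pow_mul, ← pow_mul, ← pow_mul,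
    mul_comm a x, mul_comm a y]

omit hg₀ hcore D in
theorem δ_x (i : Fin 2) {x : Y} (hx : x ∈ X (sr i)) :
    (Bl R hgen cs' hcs).δ (QuotientGroup.mk 1) (QuotientGroup.mk (x * n i)) = cs'.simple i := by
  rw [bldg_δ_mk, hcs]
  apply wt_of_mem
  rw [inv_one, one_mul]
  exact mul_mem_C_left (X_le_B (isRoot_sr cs h i) (sr_nonneg i) hx) (self_mem_C _)

omit hcs hg₀ hcore D in
omit hN in
theorem act_inj {β : MulAut Y} (hβ : Keep (R.bnPair hgen) β) {x y : Y ⧸ (R.bnPair hgen).B}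
    (he : act β hβ x = act β hβ y) : x = y := by
  induction x using QuotientGroup.induction_on with
  | _ a =>
  induction y using QuotientGroup.induction_on with
  | _ b =>
  rw [act_mk, act_mk, FixBN.OfBN.mk_eq, ← map_inv, ← map_mul] at he
  exact FixBN.OfBN.mk_eq.2 ((hβ _).1 he)

omit hcs hg₀ hcore D in
omit hN in
theorem x_eq_one {i : Fin 2} {x : Y} (hx : x ∈ X (sr i))
    (he : (QuotientGroup.mk (x * n i) : Y ⧸ (R.bnPair hgen).B) = QuotientGroup.mk (n i)) : x = 1 := by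
  rw [FixBN.OfBN.mk_eq] at he
  have h1 : (n i)⁻¹ * x⁻¹ * n i ∈ B cs h T X := by
    have e : (x * n i)⁻¹ * n i = (n i)⁻¹ * x⁻¹ * n i := by group
    rw [← e]; exact he
  have h2 : (n i)⁻¹ * x⁻¹ * n i ∈ X (-sr i) := by
    have := R.conj_mem' (rp_simple cs R.nsys i) (isRoot_sr cs h i) (inv_mem hx)
    rwa [inv_simple, rep_simple_sr] at this
  by_contra hne
  have hne' : (n i)⁻¹ * x⁻¹ * n i ≠ 1 := by
    intro h3
    apply hne
    have e : x = ((n i) * ((n i)⁻¹ * x⁻¹ * n i) * (n i)⁻¹)⁻¹ := by group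
    rw [e, h3]; group
  obtain ⟨a, ha, t, ht, b, hb, e⟩ := R.rk1 i _ h2 hne'
  have h3 : n i = (a * t)⁻¹ * ((n i)⁻¹ * x⁻¹ * n i) * b⁻¹ := by rw [e]; group
  have h4 : n i ∈ B cs h T X := by
    rw [h3]
    exact mul_mem (mul_mem (inv_mem (mul_mem (X_le_B (isRoot_sr cs h i) (sr_nonneg i) ha) (T_le_B ht))) h1)
      (inv_mem (X_le_B (isRoot_sr cs h i) (sr_nonneg i) hb))
  have h5 := R.eq_one_of_mem_B (rp_simple cs R.nsys i) h4
  have h6 := rep_simple_sr cs h i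
  rw [h5, map_one, Module.End.one_apply] at h6
  have h7 := congrFun h6 i
  rw [Pi.neg_apply, sr_self] at h7
  exact absurd h7 (by decide)

/-- A normalised automorphism which centralises `T` is inner. -/
theorem inner_of_id {β : MulAut Y} (hβ : Nrm R hgen g₀ β) (hid : ∀ t ∈ T, β t = t) :
    ∃ t : Y, β = MulAut.conj t := by
  have hσ := sg_eq hcs hg₀ hcore D hβ
  have hTn : ∀ (i : Fin 2), ∀ s ∈ T, (n i)⁻¹ * s * n i ∈ (R.bnPair hgen).B := by
    intro i s hs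
    have h7 := mem_normalizer_iff_cj.1 (R.nsys.norm i)
    have h8 : s ∈ cj (n i) T := by rw [h7]; exact hs
    exact T_le_B (mem_cj.1 h8)
  have hT : ∀ (i : Fin 2), ∀ s ∈ T, ∀ x : Y, (QuotientGroup.mk (s * x * s⁻¹ * n i) : Y ⧸ (R.bnPair hgen).B) =
      s • QuotientGroup.mk (x * n i) := by
    intro i s hs x
    rw [FixBN.OfBN.smul_mk, FixBN.OfBN.mk_eq]
    have e : (s * x * s⁻¹ * n i)⁻¹ * (s * (x * n i)) = (n i)⁻¹ * s * n i := by group
    rw [e]
    exact hTn i s hs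
  -- the value of `β` on a chamber
  have hval : ∀ i, ∀ x ∈ X (sr i), x ≠ 1 → ∃ y ∈ X (sr i), y ≠ 1 ∧
      act β hβ.keep (QuotientGroup.mk (x * n i)) = (QuotientGroup.mk (y * n i) : Y ⧸ (R.bnPair hgen).B) := by
    intro i x hx hx1
    have h2 : (Bl R hgen cs' hcs).δ (QuotientGroup.mk 1) (act β hβ.keep (QuotientGroup.mk (x * n i))) =
        cs'.simple i := by
      have h3 := δ_act (eS R hgen) cs' hcs hβ.keep (QuotientGroup.mk 1) (QuotientGroup.mk (x * n i))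
      rw [δ_x hcs i hx, fW_simple' (eS R hgen) cs' hcs hβ.keep, hσ, act_mk, map_one] at h3
      exact h3
    obtain ⟨y, hy, h3⟩ := pan_eq R hgen cs' hcs i h2
    refine ⟨y, hy, ?_, h3⟩
    rintro rfl
    rw [one_mul] at h3
    have h4 := hβ.act_n hcs hg₀ i
    rw [hσ] at h4
    exact hx1 (x_eq_one hx (act_inj hβ.keep (h3.trans h4.symm)))
  -- the value of `β` on a panel
  have hpan : ∀ (i : Fin 2) (k : Y), k ∈ T → (∀ x ∈ X (sr i), ∀ y ∈ X (sr i), x ≠ 1 → y ≠ 1 →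
      ∃ a : ℕ, k ^ a * x * (k ^ a)⁻¹ = y) → ∃ a : ℕ, ∀ x ∈ X (sr i), act β hβ.keep (QuotientGroup.mk (x * n i)) =
        (k ^ a) • (QuotientGroup.mk (x * n i) : Y ⧸ (R.bnPair hgen).B) := by
    intro i k hk htr
    have hfix : ∀ a : ℕ, act β hβ.keep (QuotientGroup.mk (1 * n i)) =
        (k ^ a) • (QuotientGroup.mk (1 * n i) : Y ⧸ (R.bnPair hgen).B) := by
      intro a
      have h4 := hβ.act_n hcs hg₀ i
      rw [hσ] at h4
      rw [one_mul, h4, eq_comm, FixBN.OfBN.smul_mk_eq]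
      exact hTn i _ (pow_mem hk a)
    by_cases hex : ∃ x ∈ X (sr i), x ≠ 1
    · obtain ⟨x₀, hx₀, hx₀1⟩ := hex
      obtain ⟨y₀, hy₀, hy₀1, he⟩ := hval i x₀ hx₀ hx₀1
      obtain ⟨a, ha⟩ := htr x₀ hx₀ y₀ hy₀ hx₀1 hy₀1
      refine ⟨a, fun x hx => ?_⟩
      by_cases hx1 : x = 1
      · rw [hx1]; exact hfix a
      · obtain ⟨b, hb⟩ := htr x₀ hx₀ x hx hx₀1 hx1
        have hkb := pow_mem hk b
        have hka := pow_mem hk a
        rw [← hb, hT i _ hkb, FixBN.OfBN.smul_mk, act_mk, map_mul, hid _ hkb]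
        have h5 : (QuotientGroup.mk (k ^ b * β (x₀ * n i)) : Y ⧸ (R.bnPair hgen).B) =
            (k ^ b) • act β hβ.keep (QuotientGroup.mk (x₀ * n i)) := by
          rw [act_mk, FixBN.OfBN.smul_mk]
        rw [h5, he, ← ha, hT i _ hka]
        simp only [FixBN.OfBN.smul_mk]
        congr 1
        calc k ^ b * (k ^ a * (x₀ * n i)) = k ^ (b + a) * (x₀ * n i) := by rw [pow_add, mul_assoc]
          _ = k ^ a * (k ^ b * (x₀ * n i)) := by rw [add_comm, pow_add, mul_assoc]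
    · push Not at hex
      refine ⟨0, fun x hx => ?_⟩
      rw [hex x hx]
      exact hfix 0
  obtain ⟨a, ha⟩ := hpan 0 k1 D.m1 D.tr0
  obtain ⟨b, hb⟩ := hpan 1 k0 D.m0 D.tr1
  have hTx : ∀ (i : Fin 2) (s k : Y), s ∈ T → k ∈ T → s ∈ Subgroup.centralizer (X (sr i) : Set Y) →
      ∀ x ∈ X (sr i), (s * k) • (QuotientGroup.mk (x * n i) : Y ⧸ (R.bnPair hgen).B) =
        k • QuotientGroup.mk (x * n i) := by
    intro i s k hs hk hc x hx
    rw [D.comm hs hk, mul_smul, (smul_x_iff (R := R) (hgen := hgen) hs hx).2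
      (((Subgroup.mem_centralizer_iff.1 hc) x hx).symm)]
  have ht : k0 ^ b * k1 ^ a ∈ T := mul_mem (pow_mem D.m0 b) (pow_mem D.m1 a)
  refine ⟨k0 ^ b * k1 ^ a, hβ.eq_conj hcs hcore hg₀ hσ ht ?_⟩
  intro i x hx
  have hi : i = 0 ∨ i = 1 := by omega
  rcases hi with rfl | rfl
  · rw [ha x hx, hTx 0 _ _ (pow_mem D.m0 b) (pow_mem D.m1 a) (pow_mem D.c0 b) x hx]
  · rw [hb x hx, D.comm (pow_mem D.m0 b) (pow_mem D.m1 a),
      hTx 1 _ _ (pow_mem D.m1 a) (pow_mem D.m0 b) (pow_mem D.c1 a) x hx]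

end

/-- **Rank two, `q = 4`.** -/
theorem outSign_of_dat (R : RGD cs h p T n X) (hgen : B cs h T X ⊔ NN cs R.nsys = ⊤) [Finite Y] [Fact p.Prime]
    (hcore : (B cs h T X).normalCore = ⊥) {k0 k1 : Y}
    (D : Dat T (X (sr 0)) (X (sr 1)) (X (rep cs h (cs.simple 1) (sr 0))) (X (rep cs h (cs.simple 0) (sr 1))) k0 k1) :
    OutSign Y := by
  obtain ⟨hN, cs', hcs, hW, S⟩ := exists_setup R hgen hcore
  obtain ⟨g₀, hg₀⟩ := exists_g0 R hgen cs'
  -- a normalised noninner automorphism inverts `T`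
  have key : ∀ α : MulAut Y, (∀ x, α ≠ MulAut.conj x) → ∃ g : Y, Nrm R hgen g₀ (MulAut.conj g * α) ∧
      ∀ t ∈ T, (MulAut.conj g * α) t = t⁻¹ := by
    intro α hout
    obtain ⟨g, hg⟩ := exists_nrm hcs hcore hg₀ α
    refine ⟨g, hg, ?_⟩
    obtain ⟨a, ha⟩ := exists_pow hcs hg₀ hcore D hg
    have h1 : ∀ t ∈ T, t ^ a = t ^ (a % 3) := fun t ht => pow_eq_pow_mod a (D.pow_three ht)
    have h2 : a % 3 < 3 := Nat.mod_lt _ (by norm_num)
    have h3 : a % 3 = 0 ∨ a % 3 = 1 ∨ a % 3 = 2 := by omega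
    rcases h3 with h3 | h3 | h3
    · exfalso
      apply D.k1_ne
      have h4 := ha k1 D.m1
      rw [h1 _ D.m1, h3, pow_zero, ← map_one (MulAut.conj g * α)] at h4
      exact (MulAut.conj g * α).injective h4
    · exfalso
      obtain ⟨t, ht⟩ := inner_of_id hcs hg₀ hcore D hg (fun t ht => by rw [ha t ht, h1 t ht, h3, pow_one])
      apply hout (g⁻¹ * t)
      rw [map_mul, ← ht, map_inv]
      group
    · intro t ht
      rw [ha t ht, h1 t ht, h3, eq_inv_iff_mul_eq_one, ← pow_succ]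
      exact D.pow_three ht
  refine OutSign.of_mul_inner fun α β hα hβ => ?_
  obtain ⟨g, hg, hgi⟩ := key α hα
  obtain ⟨k, hk, hki⟩ := key β hβ
  obtain ⟨u, hu⟩ := inner_of_id hcs hg₀ hcore D (hg.mul hk) (fun t ht => by
    rw [MulAut.mul_apply, hki t ht, hgi _ (inv_mem ht), inv_inv])
  refine ⟨(α k)⁻¹ * g⁻¹ * u, ?_⟩
  apply MulEquiv.ext
  intro x
  have h5 : g * (α (k * β x * k⁻¹)) * g⁻¹ = u * x * u⁻¹ := DFunLike.congr_fun hu x
  rw [map_mul, map_mul, map_inv] at h5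
  show α (β x) = (α k)⁻¹ * g⁻¹ * u * x * ((α k)⁻¹ * g⁻¹ * u)⁻¹
  calc α (β x) = (α k)⁻¹ * g⁻¹ * (g * (α k * α (β x) * (α k)⁻¹) * g⁻¹) * g * α k := by group
    _ = (α k)⁻¹ * g⁻¹ * u * x * ((α k)⁻¹ * g⁻¹ * u)⁻¹ := by rw [h5]; group

end Cfsg.Agent.OddHalf.Table.OutRankTwo

end

-- merged: Cfsg.Agent.OddHalf.Table.OutGTwoFour
section

/-!
# `OutSign` for `G2(4)`

helper328 (TABLE-17 of S1765).
-/

set_option autoImplicit false

namespace Cfsg.Agent.OddHalf.Table.OutGTwoFour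

open CoxeterSystem Cfsg.Agent.ChevalleyStructure.CoxeterGeom Cfsg.Agent.Tits.Roots Cfsg.Agent.Tits.Core
  Cfsg.Agent.Tits.RootComb Cfsg.Agent.Nodes.Comb Cfsg.Agent.Nodes.Reps Cfsg.Agent.Nodes.BNOf Cfsg.Agent.Nodes.BNOf.RGD
  Cfsg.Agent.Nodes.RGDChev Cfsg.Agent.OddHalf.Table.AutRGD Cfsg.Agent.OddHalf.Table.OutRankTwo
open Cfsg.Lie Cfsg.Agent.ChevalleyStructure Cfsg.Agent.ChevalleyStructure.Elts
  Cfsg.Agent.ChevalleyStructure.RootVec Cfsg.Agent.ChevalleyStructure.RootVecTab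
  Cfsg.Agent.ChevalleyStructure.NPerm Cfsg.Agent.ChevalleyStructure.CoxeterGeomTypes

universe u

section Field

variable {F : Type u} [Field F] (hF : Nat.card F = 4)

include hF

/-- A field with four elements: the multiplicative group is cyclic of order three. -/
theorem exists_omega : ∃ w : F, w ≠ 0 ∧ w ≠ 1 ∧ w ^ 3 = 1 ∧ ∀ a : F, a ≠ 0 → ∃ k : ℕ, a = w ^ k := by
  have hfin : Finite F := Nat.finite_of_card_ne_zero (by rw [hF]; norm_num)
  have hc : Nat.card Fˣ = 3 := by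
    rw [Nat.card_units, hF]
  obtain ⟨g, hg⟩ := IsCyclic.exists_monoid_generator (α := Fˣ)
  refine ⟨(g : F), g.ne_zero, ?_, ?_, ?_⟩
  · intro h1
    have h2 : g = 1 := Units.ext h1
    have h3 : Nat.card Fˣ = 1 := by
      rw [Nat.card_eq_one_iff_unique]
      refine ⟨⟨fun a b => ?_⟩, ⟨1⟩⟩
      obtain ⟨k, hk⟩ := hg a
      obtain ⟨l, hl⟩ := hg b
      rw [← hk, ← hl, h2]
      simp
    omega
  · have h1 : g ^ 3 = 1 := by rw [← hc]; exact pow_card_eq_one'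
    have h2 := congrArg (fun u : Fˣ => (u : F)) h1
    simpa using h2
  · intro a ha
    obtain ⟨k, hk⟩ := hg (Units.mk0 a ha)
    refine ⟨k, ?_⟩
    have h2 := congrArg (fun u : Fˣ => (u : F)) hk
    simpa using h2.symm

theorem charP_four : CharP F 2 := by
  have hfin : Finite F := Nat.finite_of_card_ne_zero (by rw [hF]; norm_num)
  have := Fintype.ofFinite F
  obtain ⟨p, hp⟩ := CharP.exists F
  obtain ⟨n, hpp, hn⟩ := FiniteField.card F p
  rw [← Nat.card_eq_fintype_card, hF] at hn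
  have h1 : p ∣ 4 := by rw [hn]; exact dvd_pow_self p n.2.ne'
  have h2 : p ∣ 2 := by
    have : p ∣ 2 ^ 2 := h1
    exact hpp.dvd_of_dvd_pow this
  have h3 : p = 2 := (Nat.prime_dvd_prime_iff_eq hpp Nat.prime_two).1 h2
  rw [← h3]
  exact hp

end Field

section Torus

variable {F : Type u} [Field F] {D : ChevalleyDatum} (hD : InList D)

theorem hG_pow {i : ℕ} (hi : i < D.rank) {c : F} (hc : c ≠ 0) (a : ℕ) :
    hG hD (D.simple i) (c ^ a) = hG hD (D.simple i) c ^ a := by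
  apply Units.ext
  rw [Units.val_pow_eq_pow_val, coe_hG, coe_hG, Cfsg.Agent.S1033.result D hD i hi _ (pow_ne_zero a hc),
    Cfsg.Agent.S1033.result D hD i hi c hc, Matrix.diagonal_pow]
  congr 1
  funext s
  rcases s with s | s
  · simp
  · simp only [Sum.elim_inr, Pi.pow_apply]
    rw [← zpow_natCast, ← zpow_natCast, ← zpow_mul, ← zpow_mul, mul_comm]

theorem hG_comm {i j : ℕ} (hi : i < D.rank) (hj : j < D.rank) {c d : F} (hc : c ≠ 0) (hd : d ≠ 0) :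
    hG hD (D.simple i) c * hG hD (D.simple j) d = hG hD (D.simple j) d * hG hD (D.simple i) c := by
  apply Units.ext
  rw [Units.val_mul, Units.val_mul, coe_hG, coe_hG, Cfsg.Agent.S1033.result D hD i hi c hc,
    Cfsg.Agent.S1033.result D hD j hj d hd, Matrix.diagonal_mul_diagonal, Matrix.diagonal_mul_diagonal]
  congr 1
  funext s
  exact mul_comm _ _

/-- `k x_s(t) k⁻¹ = x_s(e t)` -/
def Acts (k : GL D.Idx F) (s : ℕ) (e : F) : Prop := ∀ t : F, k * xG hD s t * k⁻¹ = xG hD s (e * t)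

theorem acts_hG {i s : ℕ} (hi : i < D.rank) (hs : s < D.nroots) {c : F} (hc : c ≠ 0) :
    Acts hD (hG hD (D.simple i) c) s (c ^ D.cartan i s) := by
  intro t
  have h1 : hG hD (D.simple i) c * xG hD s t = xG hD s (c ^ D.cartan i s * t) * hG hD (D.simple i) c := by
    apply Units.ext
    rw [Units.val_mul, Units.val_mul, coe_hG, coe_xG, coe_xG]
    exact Cfsg.Agent.S1032.result D hD i s hi hs c hc t
  rw [h1]
  group

variable {hD}

theorem Acts.mul {k k' : GL D.Idx F} {s : ℕ} {e e' : F} (h : Acts hD k s e) (h' : Acts hD k' s e') :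
    Acts hD (k * k') s (e * e') := by
  intro t
  have h1 : k * k' * xG hD s t * (k * k')⁻¹ = k * (k' * xG hD s t * k'⁻¹) * k⁻¹ := by group
  rw [h1, h' t, h, mul_assoc]

theorem Acts.pow {k : GL D.Idx F} {s : ℕ} {e : F} (h : Acts hD k s e) (a : ℕ) :
    Acts hD (k ^ a) s (e ^ a) := by
  induction a with
  | zero => intro t; simp
  | succ a ih => rw [pow_succ, pow_succ]; exact ih.mul h

theorem Acts.congr {k : GL D.Idx F} {s : ℕ} {e e' : F} (h : Acts hD k s e) (he : e = e') : Acts hD k s e' := by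
  rw [← he]; exact h

theorem Acts.mem_cen_iff {k : GL D.Idx F} {s : ℕ} (hs : s < D.nroots) {e : F} (h : Acts hD k s e) :
    k ∈ Subgroup.centralizer (D.rootSubgroup F s : Set (GL D.Idx F)) ↔ e = 1 := by
  rw [Subgroup.mem_centralizer_iff]
  constructor
  · intro hk
    have h1 := hk (xG hD s 1) (xG_mem_rootSubgroup hD s 1)
    have h2 := h 1
    rw [← h1, mul_inv_cancel_right, mul_one] at h2
    exact (xG_injective hD hs h2).symm
  · rintro rfl x hx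
    obtain ⟨t, rfl⟩ := (mem_rootSubgroup_iff hD s x).1 hx
    have h1 := h t
    rw [one_mul, mul_inv_eq_iff_eq_mul] at h1
    exact h1.symm

theorem Acts.trans {k : GL D.Idx F} {s : ℕ} {e : F} (h : Acts hD k s e)
    (he : ∀ a : F, a ≠ 0 → ∃ b : ℕ, a = e ^ b) {x y : GL D.Idx F} (hx : x ∈ D.rootSubgroup F s)
    (hy : y ∈ D.rootSubgroup F s) (hx1 : x ≠ 1) (hy1 : y ≠ 1) : ∃ a : ℕ, k ^ a * x * (k ^ a)⁻¹ = y := by
  obtain ⟨t, rfl⟩ := (mem_rootSubgroup_iff hD s x).1 hx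
  obtain ⟨v, rfl⟩ := (mem_rootSubgroup_iff hD s y).1 hy
  have ht : t ≠ 0 := by
    rintro rfl
    exact hx1 (xG_zero hD s)
  have hv : v ≠ 0 := by
    rintro rfl
    exact hy1 (xG_zero hD s)
  obtain ⟨a, ha⟩ := he (v / t) (div_ne_zero hv ht)
  refine ⟨a, ?_⟩
  rw [h.pow a t, ← ha, div_mul_cancel₀ _ ht]

end Torus

/-- The Coxeter matrix `G₂` with the datum `chevG2`. -/
theorem hpG : IsType chevG2 2 CoxeterMatrix.G₂ := by simp [IsType, typeList]

theorem tabs : chevG2.rank = 2 ∧ chevG2.simple 0 = 7 ∧ chevG2.simple 1 = 6 ∧ 6 < chevG2.nroots ∧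
    7 < chevG2.nroots ∧ 8 < chevG2.nroots ∧ 10 < chevG2.nroots ∧
    chevG2.cartan 0 7 = 2 ∧ chevG2.cartan 1 7 = -1 ∧ chevG2.cartan 0 6 = -3 ∧ chevG2.cartan 1 6 = 2 ∧
    chevG2.cartan 0 8 = -1 ∧ chevG2.cartan 1 8 = 1 ∧ chevG2.cartan 0 10 = 3 ∧ chevG2.cartan 1 10 = -1 ∧
    chevG2.reflectRoot 1 7 = 8 ∧ chevG2.reflectRoot 0 6 = 10 := by decide +kernel

section Data

variable {F : Type u} [Field F]

local notation "hG2" => IsType.inList hpG

theorem dat_GL {w : F} (hw0 : w ≠ 0) (hw1 : w ≠ 1) (hw3 : w ^ 3 = 1) (hw : ∀ a : F, a ≠ 0 → ∃ k : ℕ, a = w ^ k) :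
    Dat (chevG2.diagonalSubgroup F) (chevG2.rootSubgroup F 7) (chevG2.rootSubgroup F 6) (chevG2.rootSubgroup F 8)
      (chevG2.rootSubgroup F 10)
      (hG hG2 (chevG2.simple 0) w * (hG hG2 (chevG2.simple 1) w * hG hG2 (chevG2.simple 1) w))
      (hG hG2 (chevG2.simple 0) w) := by
  obtain ⟨hr, s0, s1, l6, l7, l8, l10, c07, c17, c06, c16, c08, c18, c010, c110, -, -⟩ := tabs
  have r0 : 0 < chevG2.rank := by rw [hr]; norm_num
  have r1 : 1 < chevG2.rank := by rw [hr]; norm_num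
  have w2 : w ^ 2 ≠ 1 := by
    intro h
    apply hw1
    have : w ^ 3 = w ^ 2 * w := by ring
    rw [hw3, h, one_mul] at this
    exact this.symm
  have zneg : ∀ k : ℕ, w ^ (-(k : ℤ)) = w ^ (2 * k) := by
    intro k
    rw [zpow_neg, zpow_natCast]
    apply inv_eq_of_mul_eq_one_right
    rw [← pow_add, show k + 2 * k = 3 * k by ring, pow_mul, hw3, one_pow]
  have wm1 : w ^ (-1 : ℤ) = w ^ 2 := by simpa using zneg 1
  have wm3 : w ^ (-3 : ℤ) = 1 := by
    have h1 := zneg 3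
    rw [show 2 * 3 = 3 * 2 by norm_num, pow_mul, hw3, one_pow] at h1
    simpa using h1
  have w2' : w ^ (2 : ℤ) = w ^ 2 := zpow_ofNat w 2
  have w3' : w ^ (3 : ℤ) = 1 := by rw [← hw3]; exact zpow_ofNat w 3
  have w1' : w ^ (1 : ℤ) = w := zpow_one w
  have w4 : w ^ 2 * w ^ 2 = w := by
    calc w ^ 2 * w ^ 2 = w ^ 3 * w := by ring
      _ = w := by rw [hw3, one_mul]
  set g := hG hG2 (chevG2.simple 0) w with hg
  set e := hG hG2 (chevG2.simple 1) w with he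
  have g7 : Acts hG2 g 7 (w ^ 2) := (acts_hG hG2 r0 l7 hw0).congr (by rw [c07, w2'])
  have g6 : Acts hG2 g 6 1 := (acts_hG hG2 r0 l6 hw0).congr (by rw [c06, wm3])
  have g8 : Acts hG2 g 8 (w ^ 2) := (acts_hG hG2 r0 l8 hw0).congr (by rw [c08, wm1])
  have g10 : Acts hG2 g 10 1 := (acts_hG hG2 r0 l10 hw0).congr (by rw [c010, w3'])
  have e7 : Acts hG2 e 7 (w ^ 2) := (acts_hG hG2 r1 l7 hw0).congr (by rw [c17, wm1])
  have e6 : Acts hG2 e 6 (w ^ 2) := (acts_hG hG2 r1 l6 hw0).congr (by rw [c16, w2'])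
  have e8 : Acts hG2 e 8 w := (acts_hG hG2 r1 l8 hw0).congr (by rw [c18, w1'])
  have k7 : Acts hG2 (g * (e * e)) 7 1 := (g7.mul (e7.mul e7)).congr (by
    rw [w4]; calc w ^ 2 * w = w ^ 3 := by ring
      _ = 1 := hw3)
  have k6 : Acts hG2 (g * (e * e)) 6 w := (g6.mul (e6.mul e6)).congr (by rw [w4, one_mul])
  have k8 : Acts hG2 (g * (e * e)) 8 w := (g8.mul (e8.mul e8)).congr (by
    calc w ^ 2 * (w * w) = w ^ 2 * w ^ 2 := by ring
      _ = w := w4)
  have gT : g ∈ chevG2.diagonalSubgroup F := hG_mem_diagonal hG2 (simple_lt hG2 r0) hw0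
  have eT : e ∈ chevG2.diagonalSubgroup F := hG_mem_diagonal hG2 (simple_lt hG2 r1) hw0
  have gpow : ∀ a : ℕ, hG hG2 (chevG2.simple 0) (w ^ a) = g ^ a := hG_pow hG2 r0 hw0
  have epow : ∀ a : ℕ, hG hG2 (chevG2.simple 1) (w ^ a) = e ^ a := hG_pow hG2 r1 hw0
  have hG1 : ∀ i, i < chevG2.rank → hG hG2 (chevG2.simple i) (1 : F) = 1 := by
    intro i hi
    apply Units.ext
    rw [coe_hG, Cfsg.Agent.S1033.result chevG2 hG2 i hi 1 one_ne_zero, Units.val_one, ← Matrix.diagonal_one]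
    congr 1
    funext s
    rcases s with s | s <;> simp
  have g3 : g ^ 3 = 1 := by rw [← gpow, hw3]; exact hG1 0 r0
  have e3 : e ^ 3 = 1 := by rw [← epow, hw3]; exact hG1 1 r1
  have hge : Commute g e := hG_comm hG2 r0 r1 hw0 hw0
  have hgee : Commute g (e * e) := hge.mul_right hge
  have hk3 : (g * (e * e)) ^ 3 = 1 := by
    rw [hgee.mul_pow, g3, one_mul, ← pow_two, ← pow_mul, mul_comm, pow_mul, e3, one_pow]
  have hkg : Commute (g * (e * e)) g := (Commute.refl g).mul_left hgee.symm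
  refine ⟨mul_mem gT (mul_mem eT eT), gT, hk3, g3, hkg, ?_, (k7.mem_cen_iff l7).2 rfl, (g6.mem_cen_iff l6).2 rfl, ?_,
    ?_, ?_, ?_, ?_, ?_, (g10.mem_cen_iff l10).2 rfl⟩
  · -- generation
    intro t ht
    obtain ⟨c, hc, h1⟩ := Cfsg.Agent.S1034.result chevG2 hG2 t ht
    obtain ⟨a, ha⟩ := hw (c 0) (hc 0 r0)
    obtain ⟨b, hb⟩ := hw (c 1) (hc 1 r1)
    have h2 : t = g ^ a * e ^ b := by
      rw [← gpow, ← epow, ← ha, ← hb]
      apply Units.ext
      have hrange : List.range chevG2.rank = [0, 1] := by rw [hr]; rfl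
      rw [h1, Units.val_mul, coe_hG, coe_hG, hrange]
      have h3 : [0, 1].flatMap (fun i => chevG2.hWord (chevG2.simple i) (c i)) =
          chevG2.hWord (chevG2.simple 0) (c 0) ++ chevG2.hWord (chevG2.simple 1) (c 1) := by
        simp
      rw [h3, Elts.wordMat_append]
      rfl
    -- `e = k0 ^ 2 * g`
    have h4 : e = (g * (e * e)) ^ 2 * g := by
      rw [hgee.mul_pow]
      have h5 : Commute ((e * e) ^ 2) g := (hgee.pow_right 2).symm
      calc e = 1 * (1 * e) := by rw [one_mul, one_mul]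
        _ = g ^ 3 * (e ^ 3 * e) := by rw [g3, e3]
        _ = g ^ 2 * (g * (e * e) ^ 2) := by
          rw [← pow_two, ← pow_mul, ← pow_succ e, ← mul_assoc (g ^ 2), ← pow_succ]
        _ = g ^ 2 * ((e * e) ^ 2 * g) := by rw [h5.eq]
        _ = g ^ 2 * (e * e) ^ 2 * g := by rw [mul_assoc]
    refine ⟨2 * b, b + a, ?_⟩
    have h6 : e ^ b = (g * (e * e)) ^ (2 * b) * g ^ b := by
      conv_lhs => rw [h4]
      rw [(hkg.pow_left 2).mul_pow, ← pow_mul]
    rw [h2, h6, ← mul_assoc, ((hkg.symm.pow_pow a (2 * b))).eq, mul_assoc, ← pow_add, add_comm a b]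
  · intro x hx y hy hx1 hy1
    refine g7.trans (fun a ha => ?_) hx hy hx1 hy1
    obtain ⟨b, rfl⟩ := hw a ha
    refine ⟨2 * b, ?_⟩
    rw [← pow_mul, show 2 * (2 * b) = 3 * b + b by ring, pow_add, pow_mul, hw3, one_pow, one_mul]
  · intro x hx y hy hx1 hy1
    exact k6.trans hw hx hy hx1 hy1
  · rw [g7.mem_cen_iff l7]; exact w2
  · rw [k6.mem_cen_iff l6]; exact hw1
  · rw [(k8.mul g8).mem_cen_iff l8, ← hw3]; ring
  · rw [k8.mem_cen_iff l8]; exact hw1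

end Data

/-- Restriction to a subgroup. -/
theorem dat_restrict {Y : Type*} [Group Y] {T X0 X1 X01 X10 : Subgroup Y} {k0 k1 : Y} (D : Dat T X0 X1 X01 X10 k0 k1)
    (H : Subgroup Y) (h0 : k0 ∈ H) (h1 : k1 ∈ H) (hX0 : X0 ≤ H) (hX1 : X1 ≤ H) (hX01 : X01 ≤ H) :
    Dat (T.subgroupOf H) (X0.subgroupOf H) (X1.subgroupOf H) (X01.subgroupOf H) (X10.subgroupOf H) ⟨k0, h0⟩
      ⟨k1, h1⟩ := by
  have hin : ∀ {Z : Subgroup Y} {k : Y} (hk : k ∈ H), k ∈ Subgroup.centralizer (Z : Set Y) →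
      (⟨k, hk⟩ : H) ∈ Subgroup.centralizer (Z.subgroupOf H : Set H) := by
    intro Z k hk hc
    rw [Subgroup.mem_centralizer_iff] at hc ⊢
    intro x hx
    exact Subtype.ext (hc x (Subgroup.mem_subgroupOf.1 hx))
  have hout : ∀ {Z : Subgroup Y} {k : Y} (hk : k ∈ H), Z ≤ H → k ∉ Subgroup.centralizer (Z : Set Y) →
      (⟨k, hk⟩ : H) ∉ Subgroup.centralizer (Z.subgroupOf H : Set H) := by
    intro Z k hk hZ hc h
    apply hc
    rw [Subgroup.mem_centralizer_iff] at h ⊢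
    intro x hx
    exact congrArg Subtype.val (h ⟨x, hZ hx⟩ (Subgroup.mem_subgroupOf.2 hx))
  refine ⟨D.m0, D.m1, Subtype.ext D.o0, Subtype.ext D.o1, Subtype.ext D.com, ?_, hin h0 D.c0, hin h1 D.c1, ?_, ?_,
    hout h1 hX0 D.n0, hout h0 hX1 D.n1, hin (mul_mem h0 h1) D.r1, hout h0 hX01 D.r1', hin h1 D.r0⟩
  · intro t ht
    obtain ⟨a, b, h⟩ := D.gen t (Subgroup.mem_subgroupOf.1 ht)
    exact ⟨a, b, Subtype.ext h⟩
  · intro x hx y hy hx1 hy1
    obtain ⟨a, ha⟩ := D.tr0 x (Subgroup.mem_subgroupOf.1 hx) y (Subgroup.mem_subgroupOf.1 hy)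
      (fun h => hx1 (Subtype.ext h)) (fun h => hy1 (Subtype.ext h))
    exact ⟨a, Subtype.ext ha⟩
  · intro x hx y hy hx1 hy1
    obtain ⟨a, ha⟩ := D.tr1 x (Subgroup.mem_subgroupOf.1 hx) y (Subgroup.mem_subgroupOf.1 hy)
      (fun h => hx1 (Subtype.ext h)) (fun h => hy1 (Subtype.ext h))
    exact ⟨a, Subtype.ext ha⟩

/-- **`G2(4)`.** -/
theorem outSign_G24 (F : Type u) [Field F] (hF : Nat.card F = 4) : OutSign ↥(chevG2.group F) := by
  have hfin : Finite F := Nat.finite_of_card_ne_zero (by rw [hF]; norm_num)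
  have hc := charP_four hF
  obtain ⟨w, hw0, hw1, hw3, hw⟩ := exists_omega hF
  have hs : IsSimpleGroup ↥(chevG2.group F) := (Cfsg.Agent.S1055.result ⟨w, hw0, hw1⟩).1
  have hprime : Fact (Nat.Prime 2) := ⟨Nat.prime_two⟩
  have hW := finite_W hpG CoxeterMatrix.G₂.toCoxeterSystem
  have R := rgd (K := F) hpG CoxeterMatrix.G₂.toCoxeterSystem 2
  have hgen := gen (K := F) hpG CoxeterMatrix.G₂.toCoxeterSystem 2
  have hcore := Cfsg.Agent.Tits.OfBN.normalCore_eq_bot (R.bnPair hgen) ⟨_, 0, rfl⟩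
  obtain ⟨hr, s0, s1, l6, l7, l8, l10, -, -, -, -, -, -, -, -, t8, t10⟩ := tabs
  have e0 : XV chevG2 2 F (sr 0) = chevG2.rootSubgroup F 7 := by
    rw [XV_sr hpG 0]
    exact congrArg _ s0
  have e1 : XV chevG2 2 F (sr 1) = chevG2.rootSubgroup F 6 := by
    rw [XV_sr hpG 1]
    exact congrArg _ s1
  have v0 : vec chevG2 2 7 = sr 0 := by rw [← vec_simple hpG 0]; exact congrArg _ s0.symm
  have v1 : vec chevG2 2 6 = sr 1 := by rw [← vec_simple hpG 1]; exact congrArg _ s1.symm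
  have e01 : XV chevG2 2 F (rep CoxeterMatrix.G₂.toCoxeterSystem hpG.isCartan
      (CoxeterMatrix.G₂.toCoxeterSystem.simple 1) (sr 0)) = chevG2.rootSubgroup F 8 := by
    rw [← v0, rep_vec hpG _ 1 l7]
    have : chevG2.reflectRoot ((1 : Fin 2) : ℕ) 7 = 8 := t8
    rw [this, XV_vec hpG F l8]
  have e10 : XV chevG2 2 F (rep CoxeterMatrix.G₂.toCoxeterSystem hpG.isCartan
      (CoxeterMatrix.G₂.toCoxeterSystem.simple 0) (sr 1)) = chevG2.rootSubgroup F 10 := by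
    rw [← v1, rep_vec hpG _ 0 l6]
    have : chevG2.reflectRoot ((0 : Fin 2) : ℕ) 6 = 10 := t10
    rw [this, XV_vec hpG F l10]
  have hle : ∀ r, chevG2.rootSubgroup F r ≤ chevG2.group F := by
    intro r g hg
    obtain ⟨t, rfl⟩ := (mem_rootSubgroup_iff hpG.inList r g).1 hg
    exact xG_mem_group hpG.inList r t
  have hgm : ∀ i, hG hpG.inList (chevG2.simple i) w ∈ chevG2.group F := fun i => hG_mem_group hpG.inList _ _
  have D := dat_restrict (dat_GL hw0 hw1 hw3 hw) (chevG2.group F) (mul_mem (hgm 0) (mul_mem (hgm 1) (hgm 1))) (hgm 0)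
    (hle _) (hle _) (hle _)
  rw [← e0, ← e1, ← e01, ← e10] at D
  exact outSign_of_dat R hgen hcore D

end Cfsg.Agent.OddHalf.Table.OutGTwoFour

end
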