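import Cfsg.Agent.Schreier.SuzT
import Cfsg.Agent.OddHalf.Table.SuzGraph
import Cfsg.Agent.OddHalf.Table.CycNorm
import Cfsg.Agent.U62.SgnTwo

-- merged: Cfsg.Agent.OddHalf.Table.SuzRep
section

/-!
The presented Suzuki group acts on the Suzuki graph: the homomorphism `ψ` to the permutations of `Fin 1782`, words in
`x, f, y, w, r` (given by the networks of `SuzNets`), relations, generation.
-/

set_option autoImplicit false
set_option maxRecDepth 100000
set_option exponentiation.threshold 5000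

namespace Cfsg.Agent.OddHalf.Table.SuzRep

open Cfsg.Spor Cfsg.Agent.Lib.BitNet Cfsg.Agent.Lib.BitNetSimple Cfsg.Agent.SporadicRecognition.SuzPhi
  Cfsg.Agent.SporadicRecognition.SuzOrder Cfsg.Agent.Schreier.SuzT Cfsg.Agent.OddHalf.Table.SuzNets
  Cfsg.Agent.OddHalf.Table.SuzGraph
open Cfsg.Agent.Lib.PermNet (Net stage WOk wperm ptWord ptWord_eq checkEq testBit_app wperm_eq_of_checkEq wperm_cons
  wperm_nil)

/-! ### networks in the other format -/

noncomputable def toNet (l : List (ℕ × ℕ)) : Net :=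
  List.rec (motive := fun _ => Net) .nil (fun p _ ih => .cons p.2 p.1 ih) l

theorem stage_eq (d m x : ℕ) : stage m d x = dsw d m x := by
  unfold stage dsw
  exact Nat.xor_assoc _ _ _

theorem toNet_app : ∀ (l : List (ℕ × ℕ)) (P : ℕ), (toNet l).app P = appM l P
  | [], _ => rfl
  | p :: l, P => by
    have e : toNet (p :: l) = .cons p.2 p.1 (toNet l) := rfl
    rw [e, Cfsg.Agent.Lib.PermNet.Net.app_cons, toNet_app l, stage_eq]
    rfl

theorem toNet_perm {l : List (ℕ × ℕ)} (hv : Valid l) (ok : (toNet l).ok (2 ^ 11) = true) (p : ℕ) :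
    (toNet l).perm p = appInv l p := by
  have h1 := testBit_app ok (2 ^ (toNet l).perm p) p
  rw [toNet_app, testBit_appM' hv, Nat.testBit_two_pow_self, Nat.testBit_two_pow] at h1
  simpa using h1

/-- the network with the point map `app l` -/
noncomputable def pn (l : List (ℕ × ℕ)) : Net := toNet l.reverse

theorem pn_perm {l : List (ℕ × ℕ)} (h : OkNet 1782 l) (ok : (pn l).ok (2 ^ 11) = true) (p : ℕ) :
    (pn l).perm p = app l p := by
  rw [pn, toNet_perm (okNet_reverse h).valid ok, ← app_reverse, List.reverse_reverse]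

theorem oX : (pn nX).ok (2 ^ 11) = true := by decide +kernel
theorem oF : (pn nF).ok (2 ^ 11) = true := by decide +kernel
theorem oY : (pn nY).ok (2 ^ 11) = true := by decide +kernel
theorem oW : (pn nW).ok (2 ^ 11) = true := by decide +kernel
theorem oR : (pn nR).ok (2 ^ 11) = true := by decide +kernel
theorem oT : (pn nT).ok (2 ^ 11) = true := by decide +kernel
theorem oX' : (toNet nX).ok (2 ^ 11) = true := by decide +kernel
theorem oF' : (toNet nF).ok (2 ^ 11) = true := by decide +kernel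

/-! ### the action on the points -/

theorem φ_lt (g : Suz) {p : ℕ} (hp : p < 1782) : φ g p < 1782 := by
  have key : ∀ q : ℕ, (∃ x ∈ Subgroup.closure S7, φ x 0 = q) ↔ q < 1782 := by
    intro q
    have h1 : q ∈ {p : ℕ | ∃ x ∈ Subgroup.closure S7, φ x 0 = p} ↔ q ∈ {p | U0.testBit p = true} := by rw [orb0]
    rw [Set.mem_ofPred_eq, Set.mem_ofPred_eq, U0_bits, decide_eq_true_eq] at h1
    exact h1
  obtain ⟨x, -, hx⟩ := (key p).2 hp
  refine (key _).1 ⟨g * x, ?_, ?_⟩
  · rw [closure_S7]; exact Subgroup.mem_top _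
  · rw [map_mul, Equiv.Perm.mul_apply, hx]

/-- the action on the points -/
noncomputable def ψ : Suz →* Equiv.Perm (Fin 1782) where
  toFun g :=
    { toFun := fun i => ⟨φ g i, φ_lt g i.2⟩
      invFun := fun i => ⟨φ g⁻¹ i, φ_lt g⁻¹ i.2⟩
      left_inv := fun i => Fin.ext (by
        change φ g⁻¹ (φ g i) = i
        rw [map_inv]
        exact (φ g).symm_apply_apply _)
      right_inv := fun i => Fin.ext (by
        change φ g (φ g⁻¹ i) = i
        rw [map_inv]
        exact (φ g).apply_symm_apply _) }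
  map_one' := by
    ext i
    change φ 1 i = i
    rw [map_one]
    rfl
  map_mul' g h := by
    ext i
    change φ (g * h) i = φ g (φ h i)
    rw [map_mul]
    rfl

theorem ψ_val (g : Suz) (i : Fin 1782) : ((ψ g i : Fin 1782) : ℕ) = φ g i := rfl

theorem ψ_injective : Function.Injective ψ := by
  rw [injective_iff_map_eq_one]
  intro g hg
  apply eq_one_of_fix
  intro q hq
  have hq' : q < 1782 := by
    simp only [List.mem_cons, List.not_mem_nil, or_false] at hq
    rcases hq with rfl | rfl | rfl | rfl | rfl <;> norm_num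
  have h1 := ψ_val g ⟨q, hq'⟩
  rw [hg] at h1
  exact h1.symm

theorem ψ_eq {g : Suz} {l : List (ℕ × ℕ)} (ok : OkNet 1782 l) (h : Rep g (pn l)) : ψ g = perm ok := by
  ext i
  rw [ψ_val, h.1, pn_perm ok h.2]
  rfl

/-! ### elements -/

theorem rep_el {w : List Suz.Gen} {n : Net} (h : n.ok (2 ^ 11) = true) (hw : checkEq 11 (wd w) [n] = true) :
    Rep (el w) n := ⟨by
  rw [φ_el, wperm_eq_of_checkEq (wd_ok _) (WOk.cons h (WOk.nil _)) hw]; simp, h⟩

noncomputable def x : Suz := el [.g, .f, .e, .d, .c, .b]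
noncomputable def f : Suz := el [.a, .b, .f, .g, .b, .c, .d, .e, .a, .b, .c, .d, .c, .d, .b, .a, .b, .c, .e, .f, .g, .b,
  .c, .d, .c, .e, .d, .c, .f, .b, .a, .b, .c, .d, .e, .f, .g]
noncomputable def y : Suz := el [.g, .c, .d, .c, .b, .f, .e, .d, .c, .b, .g, .d, .e, .d, .a, .b, .c, .d, .e, .f, .b, .c,
  .d, .c, .g]
noncomputable def w : Suz := el [.b, .g, .c, .d, .b, .c, .d, .e, .d, .b, .c, .d, .c, .b, .f, .b, .c, .b, .d, .c, .b, .d,
  .e, .d, .c, .b, .d, .c, .g, .b]
noncomputable def r : Suz := f ^ 3 * (y * x)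

theorem rX : Rep x (pn nX) := rep_el oX (by decide +kernel)
theorem rF : Rep f (pn nF) := rep_el oF (by decide +kernel)
theorem rY : Rep y (pn nY) := rep_el oY (by decide +kernel)
theorem rW : Rep w (pn nW) := rep_el oW (by decide +kernel)

theorem rep_inv {g : Suz} {l : List (ℕ × ℕ)} (ok : OkNet 1782 l) (h : Rep g (pn l))
    (h' : (toNet l).ok (2 ^ 11) = true) : Rep g⁻¹ (toNet l) := by
  refine ⟨?_, h'⟩
  rw [map_inv, inv_eq_iff_mul_eq_one]
  ext p
  rw [Equiv.Perm.mul_apply, toNet_perm ok.valid h', h.1, pn_perm ok h.2, app_appInv ok.valid]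
  rfl

theorem rX' : Rep x⁻¹ (toNet nX) := rep_inv okX rX oX'
theorem rF' : Rep f⁻¹ (toNet nF) := rep_inv okF rF oF'

/-- the letters -/
noncomputable def letter : ℕ → Suz
  | 0 => x
  | 1 => x⁻¹
  | 2 => f
  | 3 => f⁻¹
  | 4 => y
  | 5 => w
  | 6 => r
  | 7 => el [.a]
  | 8 => el [.b]
  | 9 => el [.c]
  | 10 => el [.d]
  | 11 => el [.e]
  | 12 => el [.f]
  | _ => el [.g]

/-- the networks of the letters -/
noncomputable def lnet : ℕ → Net
  | 0 => pn nX
  | 1 => toNet nX
  | 2 => pn nF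
  | 3 => toNet nF
  | 4 => pn nY
  | 5 => pn nW
  | 6 => pn nR
  | 7 => net .a
  | 8 => net .b
  | 9 => net .c
  | 10 => net .d
  | 11 => net .e
  | 12 => net .f
  | _ => net .g

theorem rR : Rep r (pn nR) := by
  refine ⟨?_, oR⟩
  have h : checkEq 11 [pn nF, pn nF, pn nF, pn nY, pn nX] [pn nR] = true := by decide +kernel
  have h1 := wperm_eq_of_checkEq (WOk.cons oF (WOk.cons oF (WOk.cons oF (WOk.cons oY (WOk.cons oX (WOk.nil _))))))
    (WOk.cons oR (WOk.nil _)) h
  simp only [wperm_cons, wperm_nil, mul_one] at h1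
  rw [← h1, r, map_mul, map_mul, map_pow, rF.1, rY.1, rX.1]
  simp only [pow_succ, pow_zero, one_mul, mul_assoc]

theorem rep_gen (s : Suz.Gen) : Rep (el [s]) (net s) := ⟨by rw [φ_el]; simp [wd], net_ok s⟩

theorem rep_letter : ∀ l, Rep (letter l) (lnet l)
  | 0 => rX
  | 1 => rX'
  | 2 => rF
  | 3 => rF'
  | 4 => rY
  | 5 => rW
  | 6 => rR
  | 7 => rep_gen .a
  | 8 => rep_gen .b
  | 9 => rep_gen .c
  | 10 => rep_gen .d
  | 11 => rep_gen .e
  | 12 => rep_gen .f
  | _ + 13 => rep_gen .g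

noncomputable def Wd (u : List ℕ) : Suz := (u.map letter).prod

theorem forall₂_map : ∀ u : List ℕ, List.Forall₂ Rep (u.map letter) (u.map lnet)
  | [] => List.Forall₂.nil
  | l :: u => List.Forall₂.cons (rep_letter l) (forall₂_map u)

theorem eqw {u v : List ℕ} (h : checkEq 11 (u.map lnet) (v.map lnet) = true) : Wd u = Wd v :=
  prod_eq (forall₂_map u) (forall₂_map v) h

theorem Wd_cons (l : ℕ) (u : List ℕ) : Wd (l :: u) = letter l * Wd u := by
  unfold Wd; rw [List.map_cons, List.prod_cons]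

theorem Wd_nil : Wd [] = 1 := rfl

theorem Wd_append (u v : List ℕ) : Wd (u ++ v) = Wd u * Wd v := by
  unfold Wd; rw [List.map_append, List.prod_append]

/-- repeat a word -/
def rep (n : ℕ) (u : List ℕ) : List ℕ := (List.replicate n u).flatten

theorem Wd_rep (u : List ℕ) : ∀ n, Wd (rep n u) = Wd u ^ n
  | 0 => by rw [pow_zero]; rfl
  | n + 1 => by
    have e : rep (n + 1) u = u ++ rep n u := by rw [rep, List.replicate_succ, List.flatten_cons]; rfl
    rw [e, Wd_append, Wd_rep u n, pow_succ']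

theorem Wd_one (l : ℕ) : Wd [l] = letter l := by rw [Wd_cons, Wd_nil, mul_one]

/-- image of a point -/
noncomputable def ev (u : List ℕ) (p : ℕ) : ℕ := ptWord (u.map lnet) p

theorem ev_eq (u : List ℕ) (p : ℕ) : ev u p = φ (Wd u) p := by
  rw [ev, ptWord_eq (rep_wok (forall₂_map u)), Wd, rep_prod (forall₂_map u)]

theorem ne_of_ev {u v : List ℕ} {p : ℕ} (h : Nat.beq (ev u p) (ev v p) = false) : Wd u ≠ Wd v := by
  intro e
  rw [ev_eq, ev_eq, e] at h
  have h3 : Nat.beq (φ (Wd v) p) (φ (Wd v) p) = true := by simp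
  rw [h3] at h
  exact Bool.false_ne_true h.symm

/-! ### relations -/

theorem x11 : x ^ 11 = 1 := by
  have h := eqw (u := rep 11 [0]) (v := []) (by decide +kernel)
  rwa [Wd_rep, Wd_one] at h

theorem f10 : f ^ 10 = 1 := by
  have h := eqw (u := rep 10 [2]) (v := []) (by decide +kernel)
  rwa [Wd_rep, Wd_one] at h

theorem r12 : r ^ 12 = 1 := by
  have h := eqw (u := rep 12 [6]) (v := []) (by decide +kernel)
  rwa [Wd_rep, Wd_one] at h

theorem y2 : y * y = 1 := by
  have h := eqw (u := [4, 4]) (v := []) (by decide +kernel)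
  rwa [Wd_cons, Wd_one] at h

theorem w2 : w * w = 1 := by
  have h := eqw (u := [5, 5]) (v := []) (by decide +kernel)
  rwa [Wd_cons, Wd_one] at h

theorem yf : y * f = f * y := by
  have h := eqw (u := [4, 2]) (v := [2, 4]) (by decide +kernel)
  rwa [Wd_cons, Wd_one, Wd_cons, Wd_one] at h

theorem wr : w * r = r * w := by
  have h := eqw (u := [5, 6]) (v := [6, 5]) (by decide +kernel)
  rwa [Wd_cons, Wd_one, Wd_cons, Wd_one] at h

theorem fx : f * x * f⁻¹ = x ^ 2 := by
  have h := eqw (u := [2, 0]) (v := [0, 0, 2]) (by decide +kernel)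
  rw [Wd_cons, Wd_one, Wd_cons, Wd_cons, Wd_one, ← mul_assoc] at h
  rw [mul_inv_eq_iff_eq_mul, pow_two]
  exact h

theorem W_xxy : Wd [0, 0, 4] = x * (x * y) := by rw [Wd_cons, Wd_cons, Wd_one]; rfl

theorem xxy : (x * (x * y)) ^ 11 = 1 := by
  have h := eqw (u := rep 11 [0, 0, 4]) (v := []) (by decide +kernel)
  rwa [Wd_rep, W_xxy] at h

theorem x_ne : x ≠ 1 := by
  have h := ne_of_ev (u := [0]) (v := []) (p := 14) (by decide +kernel)
  rwa [Wd_one] at h

theorem f2_ne : f ^ 2 ≠ 1 := by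
  have h := ne_of_ev (u := rep 2 [2]) (v := []) (p := 2) (by decide +kernel)
  rwa [Wd_rep, Wd_one] at h

theorem f5_ne : f ^ 5 ≠ 1 := by
  have h := ne_of_ev (u := rep 5 [2]) (v := []) (p := 2) (by decide +kernel)
  rwa [Wd_rep, Wd_one] at h

theorem r4_ne : r ^ 4 ≠ 1 := by
  have h := ne_of_ev (u := rep 4 [6]) (v := []) (p := 5) (by decide +kernel)
  rwa [Wd_rep, Wd_one] at h

theorem r6_ne : r ^ 6 ≠ 1 := by
  have h := ne_of_ev (u := rep 6 [6]) (v := []) (p := 5) (by decide +kernel)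
  rwa [Wd_rep, Wd_one] at h

theorem xxfy : (x * (x * (f ^ 5 * y))) ^ 11 ≠ 1 := by
  have h := ne_of_ev (u := rep 11 ([0, 0] ++ (rep 5 [2] ++ [4]))) (v := []) (p := 0) (by decide +kernel)
  rw [Wd_rep, Wd_append, Wd_append, Wd_rep, Wd_one, Wd_one, Wd_cons, Wd_one, mul_assoc] at h
  exact h

end Cfsg.Agent.OddHalf.Table.SuzRep

end

-- merged: Cfsg.Agent.OddHalf.Table.OutSuz
section

/-!
# The outer automorphisms of the Suzuki sporadic group

`x` of order 11 generates its own centraliser, `f` of order 10 with `f x f⁻¹ = x ^ 2`, `C(f) = ⟨f⟩ × ⟨y⟩`, and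
`r = f ^ 3 y x` of order 12 with `C(r) = ⟨r⟩ × ⟨w⟩`. Up to inner automorphisms an automorphism fixes `x`, `f`, `y` and maps
`w` to `w` or `r ^ 6 w`. The centralisers are computed in the automorphism group of the graph, which contains the odd
involution `T` besides the Suzuki group.
-/

set_option autoImplicit false
set_option maxRecDepth 100000
set_option exponentiation.threshold 5000

namespace Cfsg.Agent.OddHalf.Table.OutSuz

open Cfsg.Spor Cfsg.Agent.Lib Cfsg.Agent.Lib.BitNet Cfsg.Agent.Lib.BitNetSimple Cfsg.Agent.SporRec.R3.Kernel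
  Cfsg.Agent.SporadicRecognition.SuzOrder Cfsg.Agent.OddHalf.Table.SuzNets Cfsg.Agent.OddHalf.Table.SuzGraph
  Cfsg.Agent.OddHalf.Table.SuzRep Cfsg.Agent.OddHalf.Table.NetCent Cfsg.Agent.OddHalf.Table.NetChain
open Cfsg.Agent.Lib.PermNet (Net WOk wperm checkEq testBit_app wperm_eq_of_checkEq wperm_cons wperm_nil plane)
open Cfsg.Agent.SporadicRecognition.SuzPhi (net)

/-! ### generation -/

theorem c_a : Wd [7] = Wd [3, 0, 5, 1, 5, 3, 3, 1, 5, 0, 2, 2, 5, 0, 5, 1, 2] := eqw (by decide +kernel)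
theorem c_b : Wd [8] = Wd [4, 1, 1, 5, 1, 3, 5, 3, 5, 0, 0, 4, 5, 2, 5, 1, 2, 4] := eqw (by decide +kernel)
theorem c_c : Wd [9] = Wd [2, 1, 2, 5, 2, 5, 2, 5, 3, 5, 3, 5, 3, 0, 3] := eqw (by decide +kernel)
theorem c_d : Wd [10] = Wd [5, 2, 0, 4, 2, 5, 4, 3, 5, 0, 3, 5, 0, 5, 2, 2, 2, 4] := eqw (by decide +kernel)
theorem c_e : Wd [11] = Wd [4, 1, 1, 3, 5, 3, 1, 4, 1, 3, 3, 3, 3, 5, 2, 0, 0, 4] := eqw (by decide +kernel)
theorem c_f : Wd [12] = Wd [4, 1, 1, 4, 5, 1, 3, 5, 2, 0, 5, 4, 0, 0, 4] := eqw (by decide +kernel)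
theorem c_g : Wd [13] = Wd [3, 5, 4, 2, 2, 5, 0, 0, 5, 1, 1, 5, 3, 3, 4, 5, 2] := eqw (by decide +kernel)

/-- the group generated by `x`, `f`, `y`, `w` -/
def K : Subgroup Suz := Subgroup.closure (insert w {x, f, y})

theorem letter_mem : ∀ l < 6, letter l ∈ K := by
  have hx : x ∈ K := Subgroup.subset_closure (by simp)
  have hf : f ∈ K := Subgroup.subset_closure (by simp)
  have hy : y ∈ K := Subgroup.subset_closure (by simp)
  have hw : w ∈ K := Subgroup.subset_closure (by simp)
  intro l hl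
  interval_cases l
  · exact hx
  · exact inv_mem hx
  · exact hf
  · exact inv_mem hf
  · exact hy
  · exact hw

theorem Wd_mem : ∀ u : List ℕ, (u.all fun l => Nat.blt l 6) = true → Wd u ∈ K
  | [], _ => one_mem _
  | l :: u, h => by
    rw [List.all_cons, Bool.and_eq_true] at h
    rw [Wd_cons]
    refine mul_mem (letter_mem l ?_) (Wd_mem u h.2)
    have h1 := h.1
    rw [Nat.blt_eq] at h1
    exact h1

theorem mem_of_eq {l : ℕ} {u : List ℕ} (h : Wd [l] = Wd u) (hu : (u.all fun l => Nat.blt l 6) = true) :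
    letter l ∈ K := by
  rw [← Wd_one, h]
  exact Wd_mem u hu

theorem K_eq_top : K = ⊤ := by
  rw [eq_top_iff, ← closure_S7, Subgroup.closure_le]
  rintro g ⟨v, hv, rfl⟩
  simp only [List.mem_cons, List.not_mem_nil, or_false] at hv
  rcases hv with rfl | rfl | rfl | rfl | rfl | rfl | rfl
  · exact mem_of_eq c_a rfl
  · exact mem_of_eq c_b rfl
  · exact mem_of_eq c_c rfl
  · exact mem_of_eq c_d rfl
  · exact mem_of_eq c_e rfl
  · exact mem_of_eq c_f rfl
  · exact mem_of_eq c_g rfl

/-! ### the action on the graph -/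

theorem ψ_x : ψ x = X := ψ_eq okX rX
theorem ψ_f : ψ f = F := ψ_eq okF rF
theorem ψ_y : ψ y = Y := ψ_eq okY rY
theorem ψ_w : ψ w = W := ψ_eq okW rW
theorem ψ_r : ψ r = R := ψ_eq okR rR

theorem ψ_mem (g : Suz) : ψ g ∈ Aut 1782 row := by
  have h : K ≤ (Aut 1782 row).comap ψ := by
    unfold K
    rw [Subgroup.closure_le]
    rintro s (rfl | rfl | rfl | rfl)
    · change ψ w ∈ Aut 1782 row; rw [ψ_w]; exact memW
    · change ψ x ∈ Aut 1782 row; rw [ψ_x]; exact memX
    · change ψ f ∈ Aut 1782 row; rw [ψ_f]; exact memF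
    · change ψ y ∈ Aut 1782 row; rw [ψ_y]; exact memY
  exact h (K_eq_top ▸ Subgroup.mem_top g)

theorem sign_ψ (g : Suz) : Equiv.Perm.sign (ψ g) = 1 := by
  have hs : IsSimpleGroup Suz := simple
  rcases hs.eq_bot_or_eq_top_of_normal (Equiv.Perm.sign.comp ψ).ker inferInstance with h | h
  · exfalso
    have hinj : Function.Injective (Equiv.Perm.sign.comp ψ) := (MonoidHom.ker_eq_bot_iff _).1 h
    have h1 := Nat.card_le_card_of_injective _ hinj
    rw [card_Suz, Nat.card_eq_fintype_card] at h1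
    have h2 : Fintype.card ℤˣ = 2 := by decide
    omega
  · have h1 : g ∈ (Equiv.Perm.sign.comp ψ).ker := h ▸ Subgroup.mem_top g
    exact h1

/-! ### the odd involution -/

theorem comm_of_check {l m : List (ℕ × ℕ)} (okl : OkNet 1782 l) (okm : OkNet 1782 m)
    (hl : (pn l).ok (2 ^ 11) = true) (hm : (pn m).ok (2 ^ 11) = true)
    (h : checkEq 11 [pn l, pn m] [pn m, pn l] = true) : perm okl * perm okm = perm okm * perm okl := by
  have h1 := wperm_eq_of_checkEq (WOk.cons hl (WOk.cons hm (WOk.nil _))) (WOk.cons hm (WOk.cons hl (WOk.nil _))) h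
  simp only [wperm_cons, wperm_nil, mul_one] at h1
  ext i
  have h2 : ((pn l).perm * (pn m).perm) i = ((pn m).perm * (pn l).perm) i := by rw [h1]
  rw [Equiv.Perm.mul_apply, Equiv.Perm.mul_apply, pn_perm okl hl, pn_perm okm hm, pn_perm okm hm,
    pn_perm okl hl] at h2
  exact h2

theorem TX : T * X = X * T := comm_of_check okT okX oT oX (by decide +kernel)
theorem TF : T * F = F * T := comm_of_check okT okF oT oF (by decide +kernel)
theorem TR : T * R = R * T := comm_of_check okT okR oT oR (by decide +kernel)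

theorem T_sq : T ^ 2 = 1 := by
  have h : checkEq 11 [pn nT, pn nT] [] = true := by decide +kernel
  have h1 := wperm_eq_of_checkEq (WOk.cons oT (WOk.cons oT (WOk.nil _))) (WOk.nil _) h
  simp only [wperm_cons, wperm_nil, mul_one] at h1
  ext i
  have h2 : ((pn nT).perm * (pn nT).perm) i = i := by rw [h1]; rfl
  rw [Equiv.Perm.mul_apply, pn_perm okT oT, pn_perm okT oT] at h2
  rw [pow_two]
  exact h2

/-- the points which are moved -/
noncomputable def moved (k : ℕ) : ℕ :=
  Nat.rec (motive := fun _ => ℕ) 0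
    (fun b ih => Nat.lor ih (Nat.xor ((pn nT).app (plane 11 b)) (plane 11 b))) k

theorem moved_sound {p : ℕ} (hp : (pn nT).perm p = p) : ∀ k, (moved k).testBit p = false
  | 0 => by
    have e : moved 0 = 0 := rfl
    rw [e, Nat.zero_testBit]
  | k + 1 => by
    have e : moved (k + 1) = moved k ||| ((pn nT).app (plane 11 k) ^^^ plane 11 k) := rfl
    rw [e, Nat.testBit_or, moved_sound hp k, Nat.testBit_xor, testBit_app oT, hp, Bool.xor_self, Bool.or_false]

theorem moved_eq : Nat.beq (moved 11) (Nat.sub (Nat.pow 2 1782) 1) = true := by decide +kernel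

theorem T_ne (i : Fin 1782) : T i ≠ i := by
  intro h
  have h1 : (pn nT).perm i = i := by
    rw [pn_perm okT oT]
    exact congrArg Fin.val h
  have h2 := moved_sound h1 11
  have h3 : moved 11 = 2 ^ 1782 - 1 := Nat.eq_of_beq_eq_true moved_eq
  rw [h3, Nat.testBit_two_pow_sub_one] at h2
  simp at h2

theorem sign_T : Equiv.Perm.sign T = -1 := by
  rw [U62.SgnTwo.sign_invol T T_sq T_ne, Fintype.card_fin]
  norm_num

theorem sign_ne {g : Suz} {s : Equiv.Perm (Fin 1782)} (h : ψ g = s) (hs : Equiv.Perm.sign s = -1) : False := by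
  have h1 := sign_ψ g
  rw [h, hs] at h1
  exact absurd h1 (by decide)

/-! ### centralisers -/

theorem ap {l : List (ℕ × ℕ)} (ok : OkNet 1782 l) {p q : ℕ} (hp : p < 1782) (h : Nat.beq (appF l p) q = true) :
    ((perm ok ⟨p, hp⟩ : Fin 1782) : ℕ) = q := by
  have h1 := Nat.eq_of_beq_eq_true h
  rw [appF_eq] at h1
  exact h1

theorem commT {E : Equiv.Perm (Fin 1782)} {V : Equiv.Perm (Fin 1782)} (h : T * E = E * T) (h' : V * E = E * V) :
    T * V * E = E * (T * V) := by
  have h1 : Commute T E := h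
  have h2 : Commute V E := h'
  exact (h1.mul_left h2)

theorem cent_x (c : Suz) (h : c * x = x * c) : ∃ i : ℕ, c = x ^ i := by
  obtain ⟨i, s, hs, e⟩ := cent_list (n := 1782) (row := row) (e := appF nX) (E := X) (net := nX) okX (acts okX)
    (actsF okX) memX (seeds := [1, T]) (l0 := [14, 867]) (l := repsX) (m := 10) (k := 11)
    (p := ⟨14, by norm_num⟩) (w := ⟨456, by norm_num⟩)
    (by
      intro s hs
      simp only [List.mem_cons, List.not_mem_nil, or_false] at hs
      rcases hs with rfl | rfl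
      · exact ⟨one_mem _, by rw [one_mul, mul_one]⟩
      · exact ⟨memT, TX⟩)
    (by
      intro q hq
      simp only [List.mem_cons, List.not_mem_nil, or_false] at hq
      rcases hq with rfl | rfl
      · exact ⟨1, by simp, rfl⟩
      · exact ⟨T, by simp, ap okT (by norm_num) (by decide +kernel)⟩)
    (by decide +kernel) covX killX
    (fun g hg hc hp => triv_of_chain hg (actsF okX) hc hp (by decide +kernel) trivX)
    (ψ_mem c) (by rw [← ψ_x, ← map_mul, h, map_mul])
  have hX : ψ (x ^ i) = X ^ i := by rw [map_pow, ψ_x]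
  simp only [List.mem_cons, List.not_mem_nil, or_false] at hs
  rcases hs with rfl | rfl
  · refine ⟨i, ψ_injective ?_⟩
    rw [e, hX, mul_one]
  · exfalso
    refine sign_ne (g := c) e ?_
    rw [map_mul, ← hX, sign_ψ, sign_T, one_mul]

theorem cent_two {E V : Equiv.Perm (Fin 1782)} {g v : Suz} (hg : ψ g = E) (hv : ψ v = V) {c : Suz} {i : ℕ}
    {s : Equiv.Perm (Fin 1782)} (hs : s ∈ [1, V, T, T * V]) (e : ψ c = E ^ i * s) : c = g ^ i ∨ c = g ^ i * v := by
  have hE : ψ (g ^ i) = E ^ i := by rw [map_pow, hg]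
  simp only [List.mem_cons, List.not_mem_nil, or_false] at hs
  rcases hs with rfl | rfl | rfl | rfl
  · left
    apply ψ_injective
    rw [e, hE, mul_one]
  · right
    apply ψ_injective
    rw [e, map_mul, hE, hv]
  · exfalso
    refine sign_ne (g := c) e ?_
    rw [map_mul, ← hE, sign_ψ, sign_T, one_mul]
  · exfalso
    refine sign_ne (g := c) e ?_
    rw [map_mul, map_mul, ← hE, sign_ψ, sign_T, ← hv, sign_ψ, one_mul, mul_one]

theorem ap2 {l : List (ℕ × ℕ)} (ok : OkNet 1782 l) {p q : ℕ} (hp : p < 1782)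
    (h : Nat.beq (appF nT (appF l p)) q = true) : (((T * perm ok) ⟨p, hp⟩ : Fin 1782) : ℕ) = q := by
  have h1 := Nat.eq_of_beq_eq_true h
  rw [appF_eq, appF_eq] at h1
  exact h1

theorem YF : Y * F = F * Y := by rw [← ψ_y, ← ψ_f, ← map_mul, yf, map_mul]
theorem WR : W * R = R * W := by rw [← ψ_w, ← ψ_r, ← map_mul, wr, map_mul]

theorem cent_f (c : Suz) (h : c * f = f * c) : ∃ i : ℕ, c = f ^ i ∨ c = f ^ i * y := by
  obtain ⟨i, s, hs, e⟩ := cent_list (n := 1782) (row := row) (e := appF nF) (E := F) (net := nF) okF (acts okF)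
    (actsF okF) memF (seeds := [1, Y, T, T * Y]) (l0 := [2, 1022, 816, 683]) (l := repsF) (m := 9) (k := 10)
    (p := ⟨2, by norm_num⟩) (w := ⟨161, by norm_num⟩)
    (by
      intro s hs
      simp only [List.mem_cons, List.not_mem_nil, or_false] at hs
      rcases hs with rfl | rfl | rfl | rfl
      · exact ⟨one_mem _, by rw [one_mul, mul_one]⟩
      · exact ⟨memY, YF⟩
      · exact ⟨memT, TF⟩
      · exact ⟨mul_mem memT memY, commT TF YF⟩)
    (by
      intro q hq
      simp only [List.mem_cons, List.not_mem_nil, or_false] at hq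
      rcases hq with rfl | rfl | rfl | rfl
      · exact ⟨1, by simp, rfl⟩
      · exact ⟨Y, by simp, ap okY (by norm_num) (by decide +kernel)⟩
      · exact ⟨T, by simp, ap okT (by norm_num) (by decide +kernel)⟩
      · exact ⟨T * Y, by simp, ap2 okY (by norm_num) (by decide +kernel)⟩)
    (by decide +kernel) covF killF
    (fun g hg hc hp => triv_of_chain hg (actsF okF) hc hp (by decide +kernel) trivF)
    (ψ_mem c) (by rw [← ψ_f, ← map_mul, h, map_mul])
  exact ⟨i, cent_two ψ_f ψ_y hs e⟩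

theorem cent_r (c : Suz) (h : c * r = r * c) : ∃ i : ℕ, c = r ^ i ∨ c = r ^ i * w := by
  obtain ⟨i, s, hs, e⟩ := cent_list (n := 1782) (row := row) (e := appF nR) (E := R) (net := nR) okR (acts okR)
    (actsF okR) memR (seeds := [1, W, T, T * W]) (l0 := [5, 1365, 191, 843]) (l := repsR) (m := 11) (k := 12)
    (p := ⟨5, by norm_num⟩) (w := ⟨68, by norm_num⟩)
    (by
      intro s hs
      simp only [List.mem_cons, List.not_mem_nil, or_false] at hs
      rcases hs with rfl | rfl | rfl | rfl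
      · exact ⟨one_mem _, by rw [one_mul, mul_one]⟩
      · exact ⟨memW, WR⟩
      · exact ⟨memT, TR⟩
      · exact ⟨mul_mem memT memW, commT TR WR⟩)
    (by
      intro q hq
      simp only [List.mem_cons, List.not_mem_nil, or_false] at hq
      rcases hq with rfl | rfl | rfl | rfl
      · exact ⟨1, by simp, rfl⟩
      · exact ⟨W, by simp, ap okW (by norm_num) (by decide +kernel)⟩
      · exact ⟨T, by simp, ap okT (by norm_num) (by decide +kernel)⟩
      · exact ⟨T * W, by simp, ap2 okW (by norm_num) (by decide +kernel)⟩)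
    (by decide +kernel) covR killR
    (fun g hg hc hp => triv_of_chain hg (actsF okR) hc hp (by decide +kernel) trivR)
    (ψ_mem c) (by rw [← ψ_r, ← map_mul, h, map_mul])
  exact ⟨i, cent_two ψ_r ψ_w hs e⟩

/-! ### orders -/

theorem order_x : orderOf x = 11 := by
  have : Fact (Nat.Prime 11) := ⟨by norm_num⟩
  exact orderOf_eq_prime x11 x_ne

theorem order_f : orderOf f = 10 := by
  refine orderOf_eq_of_pow_and_pow_div_prime (by norm_num) f10 ?_
  intro p hp hd
  have h : p ∣ 2 * 5 := hd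
  rcases (Nat.Prime.dvd_mul hp).1 h with h1 | h1
  · rw [(Nat.prime_dvd_prime_iff_eq hp Nat.prime_two).1 h1]
    exact f5_ne
  · rw [(Nat.prime_dvd_prime_iff_eq hp Nat.prime_five).1 h1]
    exact f2_ne

theorem order_r : orderOf r = 12 := by
  refine orderOf_eq_of_pow_and_pow_div_prime (by norm_num) r12 ?_
  intro p hp hd
  have h : p ∣ 2 ^ 2 * 3 := hd
  rcases (Nat.Prime.dvd_mul hp).1 h with h1 | h1
  · rw [(Nat.prime_dvd_prime_iff_eq hp Nat.prime_two).1 (hp.dvd_of_dvd_pow h1)]
    exact r6_ne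
  · rw [(Nat.prime_dvd_prime_iff_eq hp Nat.prime_three).1 h1]
    exact r4_ne

/-- a letter which is not a power of another one -/
theorem ne_pow {k l m p : ℕ} (hm : 0 < m) (ho : letter l ^ m = 1)
    (h : allB (fun i => Bool.not (Nat.beq (ev [k] p) (ev (rep i [l]) p))) m = true) (i : ℕ) :
    letter k ≠ letter l ^ i := by
  have h1 : letter l ^ i = letter l ^ (i % m) := by
    conv_lhs => rw [← Nat.div_add_mod i m, pow_add, pow_mul, ho, one_pow, one_mul]
  have h2 := (allB_iff _ _).1 h (i % m) (Nat.mod_lt _ hm)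
  rw [h1, ← Wd_one k, ← Wd_one l, ← Wd_rep]
  refine ne_of_ev (p := p) ?_
  cases h3 : Nat.beq (ev [k] p) (ev (rep (i % m) [l]) p)
  · rfl
  · rw [h3] at h2
    exact absurd h2 (by decide)

theorem y_ne_pow (i : ℕ) : y ≠ f ^ i :=
  ne_pow (k := 4) (l := 2) (m := 10) (p := 2) (by norm_num) f10 (by decide +kernel) i

theorem w_ne_pow (i : ℕ) : w ≠ r ^ i :=
  ne_pow (k := 5) (l := 6) (m := 12) (p := 5) (by norm_num) r12 (by decide +kernel) i

/-! ### automorphisms -/

theorem outSign : OutSign Suz := by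
  have hcard : ¬ 11 ^ 2 ∣ Nat.card Suz := by rw [card_Suz]; norm_num
  refine CycNorm.outSign_of_set (S := {x, f, y}) (w := w) (w' := r ^ 6 * w) K_eq_top ?_
  intro α
  obtain ⟨g, k, hk, hf, hx⟩ := CycNorm.exists_normal (X := Suz) (p := 11) (m := 2) (by norm_num) order_x hcard cent_x
    fx (by decide) [1] (by decide) α
  have hk1 : k = 1 := by simpa using hk
  subst hk1
  rw [pow_one] at hx
  have hβf : (MulAut.conj g * α) f = f := hf
  have hβx : (MulAut.conj g * α) x = x := hx
  have hβy : (MulAut.conj g * α) y = y := by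
    rcases CycNorm.two_cases (f := f) (y := y) (N := 5) order_f y2 yf y_ne_pow cent_f (MulAut.conj g * α) hβf with
      h | h
    · exact h
    · exfalso
      have h1 := congrArg (MulAut.conj g * α) xxy
      rw [map_pow, map_mul, map_mul, hβx, h, map_one] at h1
      exact xxfy h1
  have hβr : (MulAut.conj g * α) r = r := by
    rw [r, map_mul, map_mul, map_pow, hβf, hβy, hβx]
  refine ⟨g, ?_, ?_⟩
  · rintro s (rfl | rfl | rfl)
    exacts [hβx, hβf, hβy]
  · exact CycNorm.two_cases (f := r) (y := w) (N := 6) order_r w2 wr w_ne_pow cent_r (MulAut.conj g * α) hβr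

/-- **The Suzuki sporadic group.** -/
theorem outSign_Suz {X : Type*} [Group X] (e : X ≃* Cfsg.Spor.Suz) : OutSign X :=
  OutSign.of_equiv e.symm outSign

end Cfsg.Agent.OddHalf.Table.OutSuz

end
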