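import Cfsg.Agent.StdG24.AutA5
import Cfsg.Agent.SporadicA.PermTab
import Mathlib
import Cfsg.Agent.J2.HundredGens
import Cfsg.Agent.Lib.AltCarmichael
import Cfsg.Agent.S1619
import Cfsg.Agent.OddHalf.Table.Iface17
import Cfsg.Agent.J2Type.SylowSeven
import Cfsg.Agent.KFacts.OutTwo
import Cfsg.Agent.BabyM.AbsFinal
import Cfsg.Prelude.Def_Spor_B
import Cfsg.Agent.BabyM.Instance
import Cfsg.Agent.BM.StageWSurj
import Cfsg.Agent.Schreier.CoTwoStab
import Cfsg.Agent.OddHalf.Table.RowsOf
import Cfsg.Agent.OddHalf.Table.OutLThreeFour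
import Cfsg.Agent.OddHalf.Table.OutUSix
import Cfsg.Agent.OddHalf.Table.OutSpSix
import Cfsg.Agent.OddHalf.Table.OutOEight
import Cfsg.Agent.OddHalf.Table.OutGTwoFour
import Cfsg.Agent.OddHalf.Table.OutChevTwo
import Cfsg.Agent.OddHalf.Table.OutTwESix
import Cfsg.Agent.OddHalf.Table.OutMTwelve
import Cfsg.Agent.OddHalf.Table.OutHS
import Cfsg.Agent.OddHalf.Table.OutSuz
import Cfsg.Agent.OddHalf.Table.OutRu
import Cfsg.Agent.OddHalf.Table.OutFi22
import Cfsg.Agent.OddHalf.Table.OutCo1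
import Cfsg.Agent.OddHalf.Table.OutMTwentyTwo
import Cfsg.Agent.KFacts.CoTwo.Main
import Cfsg.Agent.BM.KHAll

-- merged: Cfsg.Agent.OddHalf.Table.TripleAFive
section

/-!
# Generating triples `(v, x, a)` of `A₅`

`v² = x³ = (vx)³ = a² = (xa)² = (va)³ = 1`, `v ≠ 1`: two such triples are conjugate under `A₅` up to replacing `x` by
`x⁻¹`.
-/

set_option autoImplicit false

namespace Cfsg.Agent.OddHalf.Table.TripleAFive

open Equiv Cfsg.Agent.StdG24.AutA5

def x0 : P := Equiv.swap 0 1 * Equiv.swap 1 2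
def r0 : P := Equiv.swap 0 1 * Equiv.swap 3 4
def t0 : P := Equiv.swap 0 1

theorem normX : ∀ x : P, x * x * x = 1 → x ≠ 1 → a0 * x * (a0 * x) * (a0 * x) = 1 →
    ∃ s : P, s * a0 * s⁻¹ = a0 ∧ s * x * s⁻¹ = x0 := by decide +kernel

theorem normR : ∀ a : P, Perm.sign a = 1 → a * a = 1 → x0 * a * (x0 * a) = 1 →
    a0 * a * (a0 * a) * (a0 * a) = 1 → a = r0 := by decide +kernel

theorem t_facts : Perm.sign t0 = -1 ∧ t0 * a0 * t0⁻¹ = a0 ∧ t0 * x0 * t0⁻¹ = x0⁻¹ ∧ t0 * r0 * t0⁻¹ = r0 := by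
  decide +kernel

/-- the relations -/
structure Tri {A : Type*} [Group A] (v x a : A) : Prop where
  v1 : v ≠ 1
  v2 : v * v = 1
  x3 : x * x * x = 1
  vx : v * x * (v * x) * (v * x) = 1
  a2 : a * a = 1
  xa : x * a * (x * a) = 1
  va : v * a * (v * a) * (v * a) = 1

theorem Tri.map {A B : Type*} [Group A] [Group B] {v x a : A} (h : Tri v x a) (f : A →* B)
    (hf : Function.Injective f) : Tri (f v) (f x) (f a) where
  v1 := fun h1 => h.v1 (hf (by rw [h1, map_one]))
  v2 := by rw [← map_mul, h.v2, map_one]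
  x3 := by rw [← map_mul, ← map_mul, h.x3, map_one]
  vx := by simp only [← map_mul, h.vx, map_one]
  a2 := by rw [← map_mul, h.a2, map_one]
  xa := by simp only [← map_mul, h.xa, map_one]
  va := by simp only [← map_mul, h.va, map_one]

theorem Tri.of_map {A B : Type*} [Group A] [Group B] {v x a : A} (f : A →* B) (hf : Function.Injective f)
    (h : Tri (f v) (f x) (f a)) : Tri v x a where
  v1 := fun h1 => h.v1 (by rw [h1, map_one])
  v2 := hf (by rw [map_one]; simpa only [map_mul] using h.v2)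
  x3 := hf (by rw [map_one]; simpa only [map_mul] using h.x3)
  vx := hf (by rw [map_one]; simpa only [map_mul] using h.vx)
  a2 := hf (by rw [map_one]; simpa only [map_mul] using h.a2)
  xa := hf (by rw [map_one]; simpa only [map_mul] using h.xa)
  va := hf (by rw [map_one]; simpa only [map_mul] using h.va)

theorem Tri.x1 {A : Type*} [Group A] {v x a : A} (h : Tri v x a) : x ≠ 1 := by
  rintro rfl
  have h1 := h.vx
  rw [mul_one, h.v2, one_mul] at h1
  exact h.v1 h1

/-- standard form in `S₅` -/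
theorem std {v x a : P} (h : Tri v x a) (hv : Perm.sign v = 1) (ha : Perm.sign a = 1) :
    ∃ s : P, s * v * s⁻¹ = a0 ∧ s * x * s⁻¹ = x0 ∧ s * a * s⁻¹ = r0 := by
  obtain ⟨s₁, h1⟩ := normV v hv h.v1 h.v2
  have g1 := h.map (MulAut.conj s₁).toMonoidHom (MulAut.conj s₁).injective
  have e1 : ∀ y : P, (MulAut.conj s₁).toMonoidHom y = s₁ * y * s₁⁻¹ := fun _ => rfl
  rw [e1, e1, e1, h1] at g1
  obtain ⟨s₂, h2, h3⟩ := normX (s₁ * x * s₁⁻¹) g1.x3 g1.x1 g1.vx
  have g2 := g1.map (MulAut.conj s₂).toMonoidHom (MulAut.conj s₂).injective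
  have e2 : ∀ y : P, (MulAut.conj s₂).toMonoidHom y = s₂ * y * s₂⁻¹ := fun _ => rfl
  rw [e2, e2, e2, h2, h3] at g2
  have h4 := normR (s₂ * (s₁ * a * s₁⁻¹) * s₂⁻¹) (by simp [ha]) g2.a2 g2.xa g2.va
  refine ⟨s₂ * s₁, ?_, ?_, ?_⟩
  · rw [← h2, ← h1]; group
  · rw [← h3]; group
  · rw [← h4]; group

/-- Two triples are conjugate under `A₅`, up to the inverse of `x`. -/
theorem conj_triple {A : Type*} [Group A] (e : A ≃* alternatingGroup (Fin 5)) {v x a v' x' a' : A}
    (h : Tri v x a) (h' : Tri v' x' a') :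
    ∃ b : A, b * v' * b⁻¹ = v ∧ b * a' * b⁻¹ = a ∧ (b * x' * b⁻¹ = x ∨ b * x' * b⁻¹ = x⁻¹) := by
  obtain ⟨s, s1, s2, s3⟩ := std (h.map _ (emb_injective e 1)) (sign_emb _ _ _) (sign_emb _ _ _)
  obtain ⟨s', s1', s2', s3'⟩ := std (h'.map _ (emb_injective e 1)) (sign_emb _ _ _) (sign_emb _ _ _)
  obtain ⟨t1, t2, t3, t4⟩ := t_facts
  have hinj := emb_injective e 1
  rcases Int.units_eq_one_or (Perm.sign (s⁻¹ * s')) with hs | hs
  · obtain ⟨b, hb⟩ := exists_emb e 1 (s⁻¹ * s') hs
    refine ⟨b, hinj ?_, hinj ?_, Or.inl (hinj ?_)⟩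
    · rw [map_mul, map_mul, map_inv, hb]
      have : s⁻¹ * s' * (emb e 1 v') * (s⁻¹ * s')⁻¹ = s⁻¹ * (s' * emb e 1 v' * s'⁻¹) * s := by group
      rw [this, s1', ← s1]; group
    · rw [map_mul, map_mul, map_inv, hb]
      have : s⁻¹ * s' * (emb e 1 a') * (s⁻¹ * s')⁻¹ = s⁻¹ * (s' * emb e 1 a' * s'⁻¹) * s := by group
      rw [this, s3', ← s3]; group
    · rw [map_mul, map_mul, map_inv, hb]
      have : s⁻¹ * s' * (emb e 1 x') * (s⁻¹ * s')⁻¹ = s⁻¹ * (s' * emb e 1 x' * s'⁻¹) * s := by group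
      rw [this, s2', ← s2]; group
  · have hs' : Perm.sign (s⁻¹ * t0 * s') = 1 := by
      have : Perm.sign (s⁻¹ * t0 * s') = Perm.sign t0 * Perm.sign (s⁻¹ * s') := by
        simp only [map_mul, map_inv]
        rw [mul_comm (Perm.sign s)⁻¹ (Perm.sign t0), mul_assoc]
      rw [this, t1, hs]; decide
    obtain ⟨b, hb⟩ := exists_emb e 1 (s⁻¹ * t0 * s') hs'
    refine ⟨b, hinj ?_, hinj ?_, Or.inr (hinj ?_)⟩
    · rw [map_mul, map_mul, map_inv, hb]
      have : s⁻¹ * t0 * s' * (emb e 1 v') * (s⁻¹ * t0 * s')⁻¹ = s⁻¹ * (t0 * (s' * emb e 1 v' * s'⁻¹) * t0⁻¹) * s := by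
        group
      rw [this, s1', t2, ← s1]; group
    · rw [map_mul, map_mul, map_inv, hb]
      have : s⁻¹ * t0 * s' * (emb e 1 a') * (s⁻¹ * t0 * s')⁻¹ = s⁻¹ * (t0 * (s' * emb e 1 a' * s'⁻¹) * t0⁻¹) * s := by
        group
      rw [this, s3', t4, ← s3]; group
    · rw [map_mul, map_mul, map_inv, map_inv, hb]
      have : s⁻¹ * t0 * s' * (emb e 1 x') * (s⁻¹ * t0 * s')⁻¹ = s⁻¹ * (t0 * (s' * emb e 1 x' * s'⁻¹) * t0⁻¹) * s := by
        group
      rw [this, s2', t3, ← s2]; group

end Cfsg.Agent.OddHalf.Table.TripleAFive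

end

-- merged: Cfsg.Agent.StdG24.CentBound
section

/-!
# Upper bounds for centralizers in automorphism groups of graphs

`card_le_cnt`: a group of automorphisms of a graph commuting with some permutations has at most as many
elements as there are compatible assignments of images to base points.
-/

set_option autoImplicit false

namespace Cfsg.Agent.StdG24.CentBound

open Equiv Cfsg.Agent.SporadicA.PermTab

/-- `all` as a bare recursor -/
def allL {α : Type} (p : α → Bool) (L : List α) : Bool := List.rec true (fun a _ ih => band (p a) ih) L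

theorem allL_iff {α : Type} (p : α → Bool) (L : List α) : allL p L = true ↔ ∀ a ∈ L, p a = true := by
  induction L with
  | nil => simp [allL]
  | cons a L ih =>
    have : allL p (a :: L) = band (p a) (allL p L) := rfl
    rw [this, band_eq_true, ih]
    simp

/-- `any` as a bare recursor -/
def anyL {α : Type} (p : α → Bool) (L : List α) : Bool :=
  List.rec false (fun a _ ih => cond (p a) true ih) L

theorem anyL_iff {α : Type} (p : α → Bool) (L : List α) : anyL p L = true ↔ ∃ a ∈ L, p a = true := by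
  induction L with
  | nil => simp [anyL]
  | cons a L ih =>
    have : anyL p (a :: L) = cond (p a) true (anyL p L) := rfl
    rw [this]
    cases h : p a with
    | true => simp [h]
    | false =>
      rw [cond_false, ih]
      simp [h]

/-- the image `q` of `y` is compatible with the previous assignments -/
def okc (n A : ℕ) (WL : List ℕ) (prev : List (ℕ × ℕ)) (y q : ℕ) : Bool :=
  band (allL (fun w => Nat.beq (bitM n A y (lk w y)) (bitM n A q (lk w q))) WL)
    (allL (fun pr => band (Nat.beq (bitM n A pr.1 y) (bitM n A pr.2 q))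
      (band (nbeq q pr.2) (allL (fun w => Nat.beq (bitM n A pr.1 (lk w y)) (bitM n A pr.2 (lk w q))) WL))) prev)

/-- sum -/
def sumN (f : ℕ → ℕ) (n : ℕ) : ℕ := Nat.rec 0 (fun k ih => Nat.add (f k) ih) n

theorem sumN_eq (f : ℕ → ℕ) (n : ℕ) : sumN f n = ∑ k ∈ Finset.range n, f k := by
  induction n with
  | zero => rfl
  | succ n ih =>
    have h : sumN f (n + 1) = f n + sumN f n := rfl
    rw [Finset.sum_range_succ, ← ih, h, add_comm]

/-- the number of compatible assignments -/
def cntT (n A : ℕ) (WL : List ℕ) : List ℕ → List (ℕ × ℕ) → ℕ :=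
  List.rec (fun _ => 1) (fun y _ ih prev =>
    sumN (fun q => cond (okc n A WL prev y q) (ih ((y, q) :: prev)) 0) n)

theorem cntT_nil (n A : ℕ) (WL : List ℕ) (prev : List (ℕ × ℕ)) : cntT n A WL [] prev = 1 := rfl

theorem cntT_cons (n A : ℕ) (WL : List ℕ) (y : ℕ) (ys : List ℕ) (prev : List (ℕ × ℕ)) :
    cntT n A WL (y :: ys) prev =
      ∑ q ∈ Finset.range n, cond (okc n A WL prev y q) (cntT n A WL ys ((y, q) :: prev)) 0 := by
  rw [← sumN_eq]
  rfl

/-- the tables in `WL` commute with `H` -/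
def CommL {n : ℕ} (H : Subgroup (Perm (Fin n))) (WL : List ℕ) : Prop :=
  ∀ w ∈ WL, ∃ c : Perm (Fin n), (∀ i, (c i : ℕ) = lk w i) ∧ ∀ h ∈ H, h * c = c * h

/-- agreement with an assignment -/
def Agree {n : ℕ} (h : Perm (Fin n)) (prev : List (ℕ × ℕ)) : Prop :=
  ∀ pr ∈ prev, ∀ i : Fin n, (i : ℕ) = pr.1 → (h i : ℕ) = pr.2

theorem okc_of_agree {n A : ℕ} {WL : List ℕ} {H : Subgroup (Perm (Fin n))} (hH : H ≤ autG n A)
    (hW : CommL H WL) {prev : List (ℕ × ℕ)} (hprev : ∀ pr ∈ prev, pr.1 < n) {y : Fin n}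
    (hy : ∀ pr ∈ prev, (y : ℕ) ≠ pr.1) {h : Perm (Fin n)}
    (hh : h ∈ H) (hag : Agree h prev) : okc n A WL prev y (h y) = true := by
  have hcomm : ∀ w ∈ WL, ∀ i : Fin n, ∃ j : Fin n, (j : ℕ) = lk w i ∧ (h j : ℕ) = lk w (h i) := by
    intro w hw i
    obtain ⟨c, hc, hcH⟩ := hW w hw
    refine ⟨c i, hc i, ?_⟩
    have h1 := congrArg (fun p : Perm (Fin n) => p i) (hcH h hh)
    simp only [Perm.mul_apply] at h1
    rw [h1, hc]
  unfold okc
  rw [band_eq_true, allL_iff, allL_iff]
  constructor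
  · intro w hw
    obtain ⟨j, hj1, hj2⟩ := hcomm w hw y
    rw [← hj1, ← hj2, hH hh y j]
    exact Nat.beq_refl _
  · intro pr hpr
    rw [band_eq_true, band_eq_true, allL_iff, nbeq_iff]
    have h1 := hag pr hpr ⟨pr.1, hprev pr hpr⟩ rfl
    refine ⟨?_, ?_, fun w hw => ?_⟩
    · rw [← h1]
      have := hH hh ⟨pr.1, hprev pr hpr⟩ y
      rw [this]
      exact Nat.beq_refl _
    · rw [← h1]
      intro h2
      have h3 := h.injective (Fin.ext h2)
      exact hy pr hpr (congrArg Fin.val h3)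
    · obtain ⟨j, hj1, hj2⟩ := hcomm w hw y
      rw [← hj1, ← hj2, ← h1, hH hh ⟨pr.1, hprev pr hpr⟩ j]
      exact Nat.beq_refl _

theorem card_agree_le {n A : ℕ} {WL : List ℕ} {H : Subgroup (Perm (Fin n))} (hH : H ≤ autG n A)
    (hW : CommL H WL) (ys : List ℕ) : ∀ (prev : List (ℕ × ℕ)), (∀ pr ∈ prev, pr.1 < n) →
    (∀ y ∈ ys, y < n) → (ys.Nodup) → (∀ y ∈ ys, ∀ pr ∈ prev, y ≠ pr.1) →
    (∀ h ∈ H, (∀ pr ∈ prev, ∀ i : Fin n, (i : ℕ) = pr.1 → h i = i) →
      (∀ y ∈ ys, ∀ i : Fin n, (i : ℕ) = y → h i = i) → h = 1) →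
    {h : Perm (Fin n) | h ∈ H ∧ Agree h prev}.ncard ≤ cntT n A WL ys prev := by
  classical
  induction ys with
  | nil =>
    intro prev hprev _ _ _ hfin
    rw [cntT_nil]
    rw [Set.ncard_le_one_iff]
    rintro a b ⟨ha, ha'⟩ ⟨hb, hb'⟩
    have h1 := hfin (a⁻¹ * b) (mul_mem (inv_mem ha) hb) (fun pr hpr i hi => by
      rw [Perm.mul_apply, Perm.inv_eq_iff_eq]
      exact Fin.ext ((hb' pr hpr i hi).trans (ha' pr hpr i hi).symm)) (fun y hy => absurd hy List.not_mem_nil)
    rw [inv_mul_eq_one] at h1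
    exact h1
  | cons y ys ih =>
    intro prev hprev hys hnd hne hfin
    have hy : y < n := hys y List.mem_cons_self
    rw [List.nodup_cons] at hnd
    rw [cntT_cons]
    have hsub : {h : Perm (Fin n) | h ∈ H ∧ Agree h prev} ⊆
        ⋃ q ∈ Finset.range n, {h : Perm (Fin n) | h ∈ H ∧ Agree h ((y, q) :: prev) ∧ okc n A WL prev y q = true} := by
      rintro h ⟨hh, hag⟩
      simp only [Set.mem_iUnion]
      refine ⟨h ⟨y, hy⟩, Finset.mem_range.2 (h ⟨y, hy⟩).2, hh, ?_, ?_⟩
      · intro pr hpr i hi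
        rcases List.mem_cons.1 hpr with rfl | h1
        · have : i = ⟨y, hy⟩ := Fin.ext hi
          rw [this]
        · exact hag pr h1 i hi
      · exact okc_of_agree hH hW hprev (y := ⟨y, hy⟩) (fun pr hpr => hne y List.mem_cons_self pr hpr) hh hag
    refine (Set.ncard_le_ncard hsub (Set.toFinite _)).trans ?_
    refine (Finset.set_ncard_biUnion_le _ _).trans ?_
    refine Finset.sum_le_sum fun q hq => ?_
    cases hok : okc n A WL prev y q with
    | false =>
      rw [cond_false]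
      have : {h : Perm (Fin n) | h ∈ H ∧ Agree h ((y, q) :: prev) ∧ (false = true)} = ∅ := by
        ext h; simp
      rw [this, Set.ncard_empty]
    | true =>
      rw [cond_true]
      have : {h : Perm (Fin n) | h ∈ H ∧ Agree h ((y, q) :: prev) ∧ (true = true)} =
          {h : Perm (Fin n) | h ∈ H ∧ Agree h ((y, q) :: prev)} := by
        ext h; simp
      rw [this]
      refine ih ((y, q) :: prev) ?_ (fun z hz => hys z (List.mem_cons_of_mem _ hz)) hnd.2 ?_ ?_
      · intro pr hpr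
        rcases List.mem_cons.1 hpr with rfl | h1
        · exact hy
        · exact hprev pr h1
      · intro z hz pr hpr
        rcases List.mem_cons.1 hpr with rfl | h1
        · rintro rfl
          exact hnd.1 hz
        · exact hne z (List.mem_cons_of_mem _ hz) pr h1
      · intro h hh h1 h2
        refine hfin h hh (fun pr hpr => h1 pr (List.mem_cons_of_mem _ hpr)) ?_
        intro z hz i hi
        rcases List.mem_cons.1 hz with rfl | h3
        · exact h1 (z, q) List.mem_cons_self i hi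
        · exact h2 z h3 i hi

/-- each point of the list is an image of an earlier one -/
def chkF (WL : List ℕ) : List ℕ → List ℕ → Bool :=
  List.rec (fun _ => true) (fun f _ ih acc =>
    band (anyL (fun g => anyL (fun w => Nat.beq (lk w g) f) WL) acc) (ih (f :: acc)))

theorem chkF_cons (WL : List ℕ) (f : ℕ) (fs acc : List ℕ) : chkF WL (f :: fs) acc =
    band (anyL (fun g => anyL (fun w => Nat.beq (lk w g) f) WL) acc) (chkF WL fs (f :: acc)) := rfl

/-- all points in the list are less than `n` -/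
theorem fixL_of_chkF {n : ℕ} {WL : List ℕ} {H : Subgroup (Perm (Fin n))} (hW : CommL H WL)
    (fs : List ℕ) : ∀ acc : List ℕ, FixL H acc → chkF WL fs acc = true → FixL H (fs.reverse ++ acc) := by
  induction fs with
  | nil => intro acc h _; exact h
  | cons f fs ih =>
    intro acc hacc h
    rw [chkF_cons, band_eq_true, anyL_iff] at h
    obtain ⟨⟨g, hg, h1⟩, h2⟩ := h
    rw [anyL_iff] at h1
    obtain ⟨w, hw, h3⟩ := h1
    have h4 := Nat.eq_of_beq_eq_true h3
    rw [List.reverse_cons, List.append_assoc]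
    refine ih (f :: acc) ?_ h2
    intro e he
    rcases List.mem_cons.1 he with rfl | he
    · obtain ⟨hgn, hfix⟩ := hacc g hg
      obtain ⟨c, hc, hcH⟩ := hW w hw
      have h5 : (c ⟨g, hgn⟩ : ℕ) = e := by rw [hc]; exact h4
      refine ⟨h5 ▸ (c ⟨g, hgn⟩).2, fun k hk i hi => ?_⟩
      have h6 : i = c ⟨g, hgn⟩ := Fin.ext (hi.trans h5.symm)
      rw [h6]
      have h7 := congrArg (fun p : Perm (Fin n) => p ⟨g, hgn⟩) (hcH k hk)
      simp only [Perm.mul_apply] at h7
      rw [h7, hfix k hk ⟨g, hgn⟩ rfl]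
    · exact hacc e he

/-- the pointwise stabiliser -/
def psL {n : ℕ} (H : Subgroup (Perm (Fin n))) (ys : List ℕ) : Subgroup (Perm (Fin n)) where
  carrier := {h | h ∈ H ∧ ∀ y ∈ ys, ∀ i : Fin n, (i : ℕ) = y → h i = i}
  one_mem' := ⟨one_mem _, fun _ _ _ _ => rfl⟩
  mul_mem' := by
    rintro a b ⟨ha, ha'⟩ ⟨hb, hb'⟩
    refine ⟨mul_mem ha hb, fun y hy i hi => ?_⟩
    rw [Perm.mul_apply, hb' y hy i hi, ha' y hy i hi]
  inv_mem' := by
    rintro a ⟨ha, ha'⟩
    refine ⟨inv_mem ha, fun y hy i hi => ?_⟩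
    rw [Perm.inv_eq_iff_eq]
    exact (ha' y hy i hi).symm

/-- **upper bound for a centralizer** -/
theorem card_le_cnt {n A : ℕ} {WL : List ℕ} {H : Subgroup (Perm (Fin n))} (hH : H ≤ autG n A)
    (hW : CommL H WL) (ys fs : List ℕ) (bs : List (ℕ × ℕ)) (R O : ℕ)
    (hys : allL (fun y => Nat.blt y n) ys = true) (hnd : ys.Nodup)
    (hF : chkF WL fs ys = true) (hc : chainB n A (fs.reverse ++ ys) bs = true) (h1 : prodC bs ≤ 1)
    (hd : chkDist n A (maskL (lastF (fs.reverse ++ ys) bs)) R O = true) :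
    Nat.card H ≤ cntT n A WL ys [] := by
  have hlt : ∀ y ∈ ys, y < n := fun y hy => Nat.blt_eq ▸ (allL_iff _ _).1 hys y hy
  have hle : psL H ys ≤ H := fun h hh => hh.1
  have hW' : CommL (psL H ys) WL := by
    intro w hw
    obtain ⟨c, hc, hcH⟩ := hW w hw
    exact ⟨c, hc, fun h hh => hcH h (hle hh)⟩
  have hfix : FixL (psL H ys) ys := fun y hy => ⟨hlt y hy, fun h hh => hh.2 y hy⟩
  have h2 := card_le_of_chain bs (fs.reverse ++ ys) (psL H ys) (hle.trans hH) (fixL_of_chkF hW' fs ys hfix hF)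
    hc (fun g hg h => eq_one_of_dist hd g hg h)
  have h3 : psL H ys = ⊥ := by
    have : Finite (psL H ys) := inferInstance
    exact (Subgroup.card_le_one_iff_eq_bot _).1 (h2.trans h1)
  have h4 := card_agree_le hH hW ys [] (fun _ h => absurd h List.not_mem_nil) hlt hnd
    (fun _ _ _ h => absurd h List.not_mem_nil) (fun h hh _ h5 => by
      have h6 : h ∈ psL H ys := ⟨hh, h5⟩
      rw [h3] at h6
      exact Subgroup.mem_bot.1 h6)
  have h5 : {h : Perm (Fin n) | h ∈ H ∧ Agree h []} = (H : Set (Perm (Fin n))) := by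
    ext h
    simp only [Set.mem_ofPred_eq, SetLike.mem_coe, and_iff_left_iff_imp]
    intro _ pr hpr
    exact absurd hpr List.not_mem_nil
  rw [h5] at h4
  rwa [← Nat.card_coe_set_eq] at h4

end Cfsg.Agent.StdG24.CentBound

end

-- merged: Cfsg.Agent.StdG24.J2CentData
section

/-!
Data for some centralizers in the Hall–Janko group on 100 points: permutation tables (11 bits per entry), words in the
generators of `J2.HundredGens`, base points and orders of vertices. Nothing is proved here.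
-/

set_option autoImplicit false

namespace Cfsg.Agent.StdG24.J2CentData

/-- table -/
def tA0 : ℕ := 0xae1042002f03e1181e03508a09c2c02304a1540c0630c00cc2804909c1282602b0420702204b09a16c150280840f41b86207c10c1f85c0740e41c0360c20ec1a05d0ac0b81804806414c0f01504c1780b05103411c0a0590440901885f05a0802781d0b40640d8520520b00b8540100340700f0140400981200c0440280c01201c0580000200c02002

/-- word -/
def wA0 : List ℕ := [0, 1, 2, 0, 1, 1, 2, 0, 1, 0, 1, 0]

/-- table -/
def tA1 : ℕ := 0x4a0dc3103205a16c2e034054068118220280602905705e1582484409407015826062074140210981142f05107a0fc308410861081f0350720e01b03b0800e82e83c0aa14c2404b05c1801001708e118160500321342a0580481641801f03c17c2704f04e06c2d03302c0541486301804c0800a02203c0400d00e0380581200a0240300200800400003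

/-- word -/
def wA1 : List ℕ := [0, 1, 2, 0, 1, 1, 2, 0, 1, 0, 1, 0, 0, 1, 2, 0, 1, 1, 2, 0, 1, 0, 1, 0]

/-- table -/
def tA2 : ℕ := 0x281842082e03c1141a85d0bc064110240a814819825064154220280380741304706013c288310560a82305007e0f8200370840f4218340700d81d83a0c40e41e05c030180258210a60bc2f82909a16c0a849036130318230b21602402d04007c2504e0341681385605805c0b0570240200781101c028060130120400300d0160140380300001001001

/-- word -/
def wA2 : List ℕ := [0, 1, 2, 0, 1, 1, 2, 0, 1, 0, 1, 0, 0, 1, 2, 0, 1, 1, 2, 0, 1, 0, 1, 0, 0, 1, 2, 0, 1, 1, 2, 0, 1, 0, 1, 0]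

/-- table -/
def tA3 : ℕ := 0xa81001b8530400a81a03c08c06c120590c60cc2b01405c0601405103a13c2384d0901382803004c1782d84907c10c3106107a0fc2105d06c0ec1d0390820e02e0350a40bc108310c00c80f8160981140b8440b40ac2b8220b008c2581e0be0b40e04a03209c0d05502a0a41602501a0300500e0200440900800a03c0381300c02c0480100400001804

/-- word -/
def wA3 : List ℕ := [0, 1, 2, 0, 1, 1, 2, 0, 1, 0, 1, 0, 0, 1, 2, 0, 1, 1, 2, 0, 1, 0, 1, 0, 0, 1, 2, 0, 1, 1, 2, 0, 1, 0, 1, 0, 0, 1, 2, 0, 1, 1, 2, 0, 1, 0, 1, 0]

/-- tables -/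
def tsA : List ℕ := [tA0, tA1, tA2, tA3]

/-- points -/
def fsA : List ℕ := [2, 3, 1, 4, 17, 14, 16, 15]

/-- points -/
def ysA : List ℕ := [0, 10]

/-- points -/
def bsA : List (ℕ × ℕ) := [(20, 1), (22, 1)]

/-- ranks -/
def rkA : ℕ := 0x4e1181603005e0282182d03a0202680c0920d81c04a02405c238240a40b82600d0740f0078560be1140305d0321382e01c0c40f4110600400981a81801218c0804801606c1f05b0880140d03f06e04c1d8530a81442a81503c1842581100601c0a00e0721681985e04a058188230020081504105216000040008108158280b20c82801f06813c10857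

/-- order -/
def odA : ℕ := 0x6c0fc1103c08e060220410600680380e0001201282705013c130050041082c84d0421502b8340a21882302f0ba0280800c0580c41f04a05212c0d8550561581c8030320180a8600be1382e061012044078080c60e80b8500280f40083b00808c2d8400640b4218380a40581201d05414c10035092070260580661781b85a03c1141700b03e0480980d

/-- table -/
def tV0 : ℕ := 0xb61702e855032050308620c60b41601508a14c300460ac0c81883008e1342704a0881302404909e1502b84b0720e01a83c0760e81b04007e0f8218420680f42083705c148288500300cc2d0590380941102103c0741501602e0a41401a03609c1302b03e0802f82f0460902c05e00c014020020060000580901a0040600701004c0901101e0400500e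

/-- word -/
def wV0 : List ℕ := [4]

/-- table -/
def tV1 : ℕ := 0x9a0340604b0440740480b09c0b01681e098124220470901442903308c16c318570c01142b0530a813c2505502003c098120220380500500800001003010004030070a00c41902e0420c02c85a04a0700c81802a0501581f04017c178230481602f02a02c05c1482803406c138260821001f8430840f8310610b80f42e8370680d41e03b0700e41b03a

/-- word -/
def wV1 : List ℕ := [3, 2, 3, 1, 2, 3, 2, 1, 0, 1, 2, 3, 0, 1, 2, 1, 0, 1, 0, 4, 0, 1, 0, 1, 2, 1, 0, 3, 2, 1, 0, 1, 2, 3, 2, 1, 3, 2, 3]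

/-- table -/
def tV2 : ℕ := 0x9c02c048440520980600d09a1642d0270941202584f0920c41902e0a818c2d8450aa15c2985608c11c2606000400c03005008000008120220380800f00e02809808060144290330501401602d0540ac2f82f0b01780e01b0340640c01702c0540a02504808c1102104007c0f01d06a0f01d8390700e82e05d0c40d83083406e1042003f08410c1e83e

/-- word -/
def wV2 : List ℕ := [4, 3, 2, 3, 1, 2, 3, 2, 1, 0, 1, 2, 3, 0, 1, 2, 1, 0, 1, 0, 4, 0, 1, 0, 1, 2, 1, 0, 3, 2, 1, 0, 1, 2, 3, 2, 1, 3, 2, 3]

/-- tables -/
def tsV : List ℕ := [tV0, tV1, tV2]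

/-- points -/
def fsV : List ℕ := [14, 58, 62, 16, 57, 67, 94, 38, 29]

/-- points -/
def ysV : List ℕ := [0, 2, 20]

/-- points -/
def bsV : List (ℕ × ℕ) := [(23, 1), (10, 1)]

/-- ranks -/
def rkV : ℕ := 0x6c120030510a80c82281d0460c42485001c0842f83b0bc0882b04a0980302b8520960980802b07005c1604f09a044078420280642000009c1841c82d0140042c00b0680dc0681a0c00901781b05c0782c83a03e0700a80306a11c0c0460c404c0905c0780a82a81604a020198200ba0081483d0b40fc13844050014020410860c0038530b60f804863

/-- order -/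
def odV : ℕ := 0x7c1d02f0aa14c0981c00603c1483509a1440c85f008130300580880ec2184f0961402c8620440802e80c00e1000403d01c0080801b0a80a01c84706418c1183302a1782d00605a0ac1c0450900680880b01a1280b82e0b61482b01404e0a82e0260580c01f02108c0601283f03c0742104908215c1884e0680dc0081600a184050090480481b03c

/-- table -/
def tB0 : ℕ := 0x7e0540b01d0440dc2a0570800ec1e05c07c0080183d0380100280b0501442903304c1400302b0301843100704017c0b82c05a0780f8630b61141505e052118128140001382684c09e1282c85a0ac1040c8090741542185d06a0d0238230481602204906c0e41c00103406c138420900c4190530c00b81802101c0bc0504b01e0400881201004c0600d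

/-- word -/
def wB0 : List ℕ := [4, 3, 2, 3, 1, 2, 3, 2, 1, 0, 1, 2, 3, 0, 1, 2, 1, 0, 1, 0, 3]

/-- table -/
def tB1 : ℕ := 0x5a09c0d8440680a41e83e05816c3185703c04c0401f0920480880e012014020000aa02c080560020580a80f0460880d05a0b21601203f080188208370321842184201a144290330501401e03b00405c1c00a08a00c1005404a0500c0350ba1700380608c0a82f00c0720d81d05f0561342701c03a1282604705c13c178260c014c1903109612010830

/-- word -/
def wB1 : List ℕ := [4, 3, 2, 3, 1, 2, 3, 2, 1, 0, 1, 2, 3, 0, 1, 2, 1, 0, 1, 0, 3, 4, 3, 2, 3, 1, 2, 3, 2, 1, 0, 1, 2, 3, 0, 1, 2, 1, 0, 1, 0, 3]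

/-- table -/
def tB2 : ℕ := 0xb20e81b0070280640f81e0b41001f83e0b01202582400c0c41902e0140440900d0060382980201806c1386006a0d01c83b0781702e82d0580540b8290700581005f0600140200001202c3185b0260682f02f0c40201183d086108008250a815c078100c21041b821054118228220ac14828849088140198180940a02785503a0702704d04c0ac2384c

/-- word -/
def wB2 : List ℕ := [4, 3, 2, 3, 1, 2, 3, 2, 1, 0, 1, 2, 3, 0, 1, 2, 1, 0, 1, 0, 3, 4, 3, 2, 3, 1, 2, 3, 2, 1, 0, 1, 2, 3, 0, 1, 2, 1, 0, 1, 0, 3, 4, 3, 2, 3, 1, 2, 3, 2, 1, 0, 1, 2, 3, 0, 1, 2, 1, 0, 1, 0, 3]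

/-- table -/
def tB3 : ℕ := 0x781142300f0840e0120580760b01681e0b80ac1305d0201342704a05e0c8188300100b80e0130420d81d01d04a0501505b0c615c2a0590b409c0d0190bc06c118220980440900d0140381f8400900e41b84f02a12c1a81f04017c0604307a0f83005302c05c14847082184310340040100280600e02c000010a002414003088124288520aa1580c033

/-- word -/
def wB3 : List ℕ := [4, 3, 2, 3, 1, 2, 3, 2, 1, 0, 1, 2, 3, 0, 1, 2, 1, 0, 1, 0, 3, 4, 3, 2, 3, 1, 2, 3, 2, 1, 0, 1, 2, 3, 0, 1, 2, 1, 0, 1, 0, 3, 4, 3, 2, 3, 1, 2, 3, 2, 1, 0, 1, 2, 3, 0, 1, 2, 1, 0, 1, 0, 3, 4, 3, 2, 3, 1, 2, 3, 2, 1, 0, 1, 2, 3, 0, 1, 2, 1, 0, 1, 0, 3]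

/-- tables -/
def tsB : List ℕ := [tB0, tB1, tB2, tB3]

/-- points -/
def fsB : List ℕ := [13, 48, 76, 51, 14, 46, 74, 80, 19, 72, 43, 86]

/-- points -/
def ysB : List ℕ := [0, 11, 2]

/-- points -/
def bsB : List (ℕ × ℕ) := []

/-- ranks -/
def rkB : ℕ := 0x4409c2281d0280d80083e0220240903f0b60140b81805600c100250881081402c0b00c00d0150000dc1680401e1801a85e01015c1c03908c0ec2081601c13c3080a04c164098560a60902003a0b81340300c0c60082a02909c0b8150470960f006848036124280100c402c1e84a0460782f83303e01c218310b41541085d0a21300c81c0681481902f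

/-- order -/
def odB : ℕ := 0x4e05c1a8420221000402b0ae02c1904b07c0c00502505e0080381906c08c1500603e0500d01c0400ec3084f01a1381c82d0b01700a81e0740b01e03d08c178208030200040604a0000882284c0a60841204d0c40cc2802e02618c0485101e04830004036124028540aa0e02405f0621642d8180860dc0e82802c0d02d03f01c0a42b0440a40982e847

/-- table -/
def tZ0 : ℕ := 0xc6184310530400a82e05d0b61682c8240a81542b0570c0148288280941382684709013c2204b0981142304908410c1b84007e0f41f03c0760d81c0390820e81a0350300c81882105c0bc1682c04c1780b8500360ac0a05804408c1805f03c07c0e01d04e0640d0330520540b0250100480880f0200280600d0120380581300c01c0280400400c00001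

/-- word -/
def wZ0 : List ℕ := [0]

/-- table -/
def tZ1 : ℕ := 0xb20fc2002e03c1141e03b058144190530460a41982f04416c2701c050168168200600680c85f0420600b8500c2188208430840f41b8390700d82e85c07c0d01a83a05418c2682b048094188520961540a81b092130300540281600f82608e1202504409e074138160bc1182b0570260400780c01a028088120080200280e0000180100301602403801

/-- word -/
def wZ1 : List ℕ := [1, 2, 0, 1, 0, 1, 0]

/-- table -/
def tZ2 : ℕ := 0x5e0f82182509005c1c83a03013c2a0580ae0a4150590440580d8500b40a01084c0561280c85f05a0b02281c0c20f42084006e1882103c0681702e83607e0e01a83b0660900f8300c60b8238460961542b04e04e0803003202814c268260620780d0440a20742485b0bc1480a8230260480400c0140340701000003c01011008018028070020240180b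

/-- word -/
def wZ2 : List ℕ := [1, 2, 0, 1]

/-- table -/
def tZ3 : ℕ := 0xb20fc2002f03e1181e03b0581441906004405c0c02e04616c2701d0a01681685f0420640d0200600cc148280c41841b8420860f8208380720e82e05d07a0d41a0360bc18c268260b0050188520901580b02708811c2985704a0900f02b09812c278490940700d8150541142a85401003c0800d0180380881200804c0280a00201c0180201202c03000

/-- word -/
def wZ3 : List ℕ := [0, 1, 2, 0, 1, 0, 1, 0]

/-- tables -/
def tsZ : List ℕ := [tZ0, tZ1, tZ2, tZ3]

/-- points -/
def fsZ : List ℕ := [99, 36, 88, 84, 87, 89, 47, 46, 35, 34, 83, 96, 37, 20]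

/-- points -/
def ysZ : List ℕ := [50]

/-- points -/
def bsZ : List (ℕ × ℕ) := []

/-- ranks -/
def rkZ : ℕ := 0x341582780007c0fc0b02d0381742000a02202c038020021882801703a0881e85e08e0941c04a0860c40902408c1700a8270760cc0602a0321441b009058180290570be1382a82600a0502104801c0e42c8340b60bc018060080a00f83a06a0342d04b08a03c1704409808410029064124208530c60400f03c09a0602c02b0100c02a06104606c09837

/-- order -/
def odZ : ℕ := 0x1e148020360661302d04204e07414809068188188050200d41d0510c20c8058170381200902c09610c0d81808e0b4088590bc17c2680c07e080150490000e40f82807c04c2300604c0642e0370100f00a0220800c0250440061380b0150420342785b00418c1d80a0a01742082e0021142b80e0340ac0f03d0ac1601c0070aa0901782304a15029860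

end Cfsg.Agent.StdG24.J2CentData

end

-- merged: Cfsg.Agent.StdG24.J2Cent
section

/-!
# Some centralizers in the Hall–Janko group on 100 points
-/

set_option autoImplicit false

namespace Cfsg.Agent.StdG24.J2Cent

open Equiv Cfsg.Agent.SporadicA.PermTab Cfsg.Agent.SporadicA.J2Data Cfsg.Agent.SporadicA.J2Hundred
  Cfsg.Agent.J2.HundredGens Cfsg.Agent.StdG24.CentBound Cfsg.Agent.StdG24.J2CentData

/-- the word `L` has the table `T` -/
def tabOK (T : ℕ) (L : List ℕ) : Bool := allB (fun i => Nat.beq (lk T i) (run L i)) 100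

theorem pw_tab {T : ℕ} {L : List ℕ} (h : tabOK T L = true) (i : Fin 100) : ((pw L i : Fin 100) : ℕ) = lk T i := by
  rw [pw_val]
  exact (Nat.eq_of_beq_eq_true ((allB_iff _ _).1 h i i.2)).symm

/-- the centralizer in `G` of a set of permutations -/
def CG (S : Set (Perm (Fin 100))) : Subgroup (Perm (Fin 100)) := G ⊓ Subgroup.centralizer S

theorem mem_CG {S : Set (Perm (Fin 100))} {g : Perm (Fin 100)} : g ∈ CG S ↔ g ∈ G ∧ ∀ s ∈ S, g * s = s * g := by
  rw [CG, Subgroup.mem_inf, Subgroup.mem_centralizer_iff]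
  exact and_congr_right fun _ => ⟨fun h s hs => (h s hs).symm, fun h s hs => (h s hs).symm⟩

theorem CG_le (S : Set (Perm (Fin 100))) : CG S ≤ autG 100 adj := inf_le_left.trans aut_le

theorem comm_closure {S : Set (Perm (Fin 100))} {g s : Perm (Fin 100)} (hg : g ∈ CG S)
    (hs : s ∈ Subgroup.closure S) : g * s = s * g := by
  obtain ⟨-, h⟩ := mem_CG.1 hg
  have h1 : S ⊆ (Subgroup.centralizer {g} : Subgroup (Perm (Fin 100))) := by
    intro t ht
    exact Subgroup.mem_centralizer_singleton_iff.2 (h t ht).symm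
  have h2 := (Subgroup.closure_le _).2 h1 hs
  exact (Subgroup.mem_centralizer_singleton_iff.1 h2).symm

theorem commL_of {S : Set (Perm (Fin 100))} {ts : List ℕ}
    (h : ∀ t ∈ ts, ∃ L : List ℕ, tabOK t L = true ∧ pw L ∈ Subgroup.closure S) : CommL (CG S) ts := by
  intro t ht
  obtain ⟨L, h1, h2⟩ := h t ht
  exact ⟨pw L, pw_tab h1, fun g hg => comm_closure hg h2⟩

/-- `a₀`, of order 5 -/
def wA0 : List ℕ := wZ ++ (wL ++ wY)
/-- `v' = x v x⁻¹` -/
def wVp : List ℕ := wX ++ wV ++ wX.reverse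
/-- `b₀ = v x a`, of order 5 -/
def wB0 : List ℕ := wV ++ wX ++ wA

theorem pw_wB1 : pw wB1 = pw wB0 * pw wB0 := by
  rw [pw_mul]; rfl

theorem card_CA : Nat.card (CG {pw wA0}) ≤ 300 := by
  have hW : CommL (CG {pw wA0}) tsA := by
    refine commL_of fun t ht => ?_
    have h0 : pw wA0 ∈ Subgroup.closure ({pw wA0} : Set (Perm (Fin 100))) := Subgroup.subset_closure rfl
    simp only [tsA, List.mem_cons, List.not_mem_nil, or_false] at ht
    rcases ht with rfl | rfl | rfl | rfl
    · exact ⟨J2CentData.wA0, by decide +kernel, h0⟩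
    · exact ⟨wA1, by decide +kernel, by
        have : pw wA1 = pw wA0 * pw wA0 := by rw [pw_mul]; rfl
        rw [this]; exact mul_mem h0 h0⟩
    · exact ⟨wA2, by decide +kernel, by
        have : pw wA2 = pw wA0 * pw wA0 * pw wA0 := by rw [pw_mul, pw_mul]; rfl
        rw [this]; exact mul_mem (mul_mem h0 h0) h0⟩
    · exact ⟨wA3, by decide +kernel, by
        have : pw wA3 = pw wA0 * pw wA0 * pw wA0 * pw wA0 := by rw [pw_mul, pw_mul, pw_mul]; rfl
        rw [this]; exact mul_mem (mul_mem (mul_mem h0 h0) h0) h0⟩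
  have h := card_le_cnt (CG_le _) hW ysA fsA bsA rkA odA (by decide +kernel) (by decide) (by decide +kernel)
    (by decide +kernel) (by decide +kernel) (by decide +kernel)
  refine h.trans ?_
  have : Nat.ble (cntT 100 adj tsA ysA []) 300 = true := by decide +kernel
  exact Nat.le_of_ble_eq_true this

theorem card_CV : Nat.card (CG {pw wV, pw wVp}) ≤ 240 := by
  have hW : CommL (CG {pw wV, pw wVp}) tsV := by
    refine commL_of fun t ht => ?_
    have h0 : pw wV ∈ Subgroup.closure ({pw wV, pw wVp} : Set (Perm (Fin 100))) :=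
      Subgroup.subset_closure (Or.inl rfl)
    have h1 : pw wVp ∈ Subgroup.closure ({pw wV, pw wVp} : Set (Perm (Fin 100))) :=
      Subgroup.subset_closure (Or.inr rfl)
    simp only [tsV, List.mem_cons, List.not_mem_nil, or_false] at ht
    rcases ht with rfl | rfl | rfl
    · exact ⟨wV0, by decide +kernel, h0⟩
    · exact ⟨wV1, by decide +kernel, h1⟩
    · exact ⟨wV2, by decide +kernel, by
        have : pw wV2 = pw wV * pw wVp := by rw [pw_mul]; rfl
        rw [this]; exact mul_mem h0 h1⟩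
  have h := card_le_cnt (CG_le _) hW ysV fsV bsV rkV odV (by decide +kernel) (by decide) (by decide +kernel)
    (by decide +kernel) (by decide +kernel) (by decide +kernel)
  refine h.trans ?_
  have : Nat.ble (cntT 100 adj tsV ysV []) 240 = true := by decide +kernel
  exact Nat.le_of_ble_eq_true this

theorem card_CB : Nat.card (CG {pw wB0}) ≤ 50 := by
  have hW : CommL (CG {pw wB0}) tsB := by
    refine commL_of fun t ht => ?_
    have h0 : pw wB0 ∈ Subgroup.closure ({pw wB0} : Set (Perm (Fin 100))) := Subgroup.subset_closure rfl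
    simp only [tsB, List.mem_cons, List.not_mem_nil, or_false] at ht
    rcases ht with rfl | rfl | rfl | rfl
    · exact ⟨J2CentData.wB0, by decide +kernel, h0⟩
    · exact ⟨wB1, by decide +kernel, by
        have : pw wB1 = pw wB0 * pw wB0 := by rw [pw_mul]; rfl
        rw [this]; exact mul_mem h0 h0⟩
    · exact ⟨wB2, by decide +kernel, by
        have : pw wB2 = pw wB0 * pw wB0 * pw wB0 := by rw [pw_mul, pw_mul]; rfl
        rw [this]; exact mul_mem (mul_mem h0 h0) h0⟩
    · exact ⟨wB3, by decide +kernel, by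
        have : pw wB3 = pw wB0 * pw wB0 * pw wB0 * pw wB0 := by rw [pw_mul, pw_mul, pw_mul]; rfl
        rw [this]; exact mul_mem (mul_mem (mul_mem h0 h0) h0) h0⟩
  have h := card_le_cnt (CG_le _) hW ysB fsB bsB rkB odB (by decide +kernel) (by decide) (by decide +kernel)
    (by decide +kernel) (by decide +kernel) (by decide +kernel)
  refine h.trans ?_
  have : Nat.ble (cntT 100 adj tsB ysB []) 50 = true := by decide +kernel
  exact Nat.le_of_ble_eq_true this

theorem card_CZ : Nat.card (CG {pw wZ, pw wY, pw wL}) ≤ 12 := by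
  have hW : CommL (CG {pw wZ, pw wY, pw wL}) tsZ := by
    refine commL_of fun t ht => ?_
    have h0 : pw wZ ∈ Subgroup.closure ({pw wZ, pw wY, pw wL} : Set (Perm (Fin 100))) :=
      Subgroup.subset_closure (Or.inl rfl)
    have h1 : pw wY ∈ Subgroup.closure ({pw wZ, pw wY, pw wL} : Set (Perm (Fin 100))) :=
      Subgroup.subset_closure (Or.inr (Or.inl rfl))
    have h2 : pw wL ∈ Subgroup.closure ({pw wZ, pw wY, pw wL} : Set (Perm (Fin 100))) :=
      Subgroup.subset_closure (Or.inr (Or.inr rfl))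
    simp only [tsZ, List.mem_cons, List.not_mem_nil, or_false] at ht
    rcases ht with rfl | rfl | rfl | rfl
    · exact ⟨wZ0, by decide +kernel, h0⟩
    · exact ⟨wZ1, by decide +kernel, h1⟩
    · exact ⟨wZ2, by decide +kernel, h2⟩
    · exact ⟨wZ3, by decide +kernel, by
        have : pw wZ3 = pw wZ * pw wY := by rw [pw_mul]; rfl
        rw [this]; exact mul_mem h0 h1⟩
  have h := card_le_cnt (CG_le _) hW ysZ fsZ bsZ rkZ odZ (by decide +kernel) (by decide) (by decide +kernel)
    (by decide +kernel) (by decide +kernel) (by decide +kernel)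
  refine h.trans ?_
  have : Nat.ble (cntT 100 adj tsZ ysZ []) 12 = true := by decide +kernel
  exact Nat.le_of_ble_eq_true this

end Cfsg.Agent.StdG24.J2Cent

end

-- merged: Cfsg.Agent.StdG24.J2Inst
section

/-!
# The configuration `A₄ × A₅`, `⟨a₀⟩ × A₅` in the Hall–Janko group
-/

set_option autoImplicit false

namespace Cfsg.Agent.StdG24

open Subgroup Cfsg.Agent.J2Type.Pres

/-- six generators of `J₂` and the centralizers of some elements -/
structure HJ {J : Type*} [Group J] (v x a z y l : J) : Prop where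
  rels : Rels v x a z y l
  z1 : z ≠ 1
  v1 : v ≠ 1
  a1 : a ≠ 1
  a5 : (z * (l * y)) ^ 5 = 1
  ane : z * (l * y) ≠ 1
  b5 : (v * x * a) ^ 5 = 1
  bne : v * x * a ≠ 1
  vv : v * (x * v * x⁻¹) = (x * v * x⁻¹) * v
  vpx : x * v * x⁻¹ ≠ v
  azl : a * (z * (l * y)) = (z * (l * y)) * a
  card : Nat.card J = 604800
  gen : closure {v, x, a, z, y, l} = (⊤ : Subgroup J)
  centA : Nat.card (centralizer ({z * (l * y)} : Set J)) ≤ 300
  centV : Nat.card (centralizer ({v, x * v * x⁻¹} : Set J)) ≤ 240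
  centB : Nat.card (centralizer ({v * x * a} : Set J)) ≤ 50
  centZ : Nat.card (centralizer ({z, y, l} : Set J)) ≤ 12
  isoA : Nonempty (closure ({z, y, l} : Set J) ≃* alternatingGroup (Fin 5))
  isoB : Nonempty (closure ({v, x, a} : Set J) ≃* alternatingGroup (Fin 5))
  cj1 : ∃ g : J, g * (z * (l * y)) ^ 2 * g⁻¹ = (z * (l * y)) * (v * x * a)
  cj2 : ∃ g : J, g * (v * x * a) * g⁻¹ = (z * (l * y)) * (v * x * a) ^ 2
  cj3 : ∃ g : J, g * (v * x * a) * g⁻¹ = (z * (l * y)) * (v * x * a) ^ 3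
  cj4 : ∃ g : J, g * (z * (l * y)) ^ 2 * g⁻¹ = (z * (l * y)) * (v * x * a) ^ 4
  fus : ∃ g : J, g * v * g⁻¹ = v * z ∧ g * (x * v * x⁻¹) * g⁻¹ = (x * v * x⁻¹) * (y⁻¹ * z * y)

namespace J2Inst

open Equiv Cfsg.Agent.SporadicA.PermTab Cfsg.Agent.SporadicA.J2Data Cfsg.Agent.SporadicA.J2Hundred
  Cfsg.Agent.J2.HundredGens Cfsg.Agent.StdG24.J2Cent

theorem card_centralizer (S : Set G) : Nat.card (centralizer S) = Nat.card (CG ((fun g : G => (g : Perm (Fin 100))) '' S)) := by
  refine Nat.card_congr ?_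
  exact
    { toFun := fun g => ⟨g.1.1, mem_CG.2 ⟨g.1.2, by
        rintro _ ⟨s, hs, rfl⟩
        exact (congrArg Subtype.val (mem_centralizer_iff.1 g.2 s hs)).symm⟩⟩
      invFun := fun g => ⟨⟨g.1, (mem_CG.1 g.2).1⟩, mem_centralizer_iff.2 fun s hs =>
        Subtype.ext ((mem_CG.1 g.2).2 _ ⟨s, hs, rfl⟩).symm⟩
      left_inv := fun g => rfl
      right_inv := fun g => rfl }

theorem gw_mul (L M : List ℕ) : gw L * gw M = gw (L ++ M) := Subtype.ext (pw_mul L M)
theorem gw_inv (L : List ℕ) : (gw L)⁻¹ = gw L.reverse := Subtype.ext (pw_inv L)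
theorem gw_eq {L M : List ℕ} (h : chk L M = true) : gw L = gw M := Subtype.ext (pw_eq h)
theorem gw_nil : gw [] = 1 := Subtype.ext pw_nil

theorem gw_ne {L M : List ℕ} {i : ℕ} (hi : i < 100) (h : nbeq (run L i) (run M i) = true) : gw L ≠ gw M := by
  intro h1
  rw [nbeq_iff] at h
  apply h
  have h2 : pw L = pw M := congrArg Subtype.val h1
  rw [← pw_val L ⟨i, hi⟩, ← pw_val M ⟨i, hi⟩, h2]

/-- the power of a word -/
def wpow (L : List ℕ) (k : ℕ) : List ℕ := Nat.rec [] (fun _ ih => ih ++ L) k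

theorem gw_pow (L : List ℕ) (k : ℕ) : (gw L) ^ k = gw (wpow L k) := by
  induction k with
  | zero => rw [pow_zero]; exact gw_nil.symm
  | succ k ih =>
    rw [pow_succ, ih, gw_mul]
    rfl

/-- closure of three elements satisfying the relations of `A₅` -/
theorem iso_of_words {J : Type*} [Group J] {v x a : J} (h1 : (v * x) ^ 3 = 1) (h2 : (a * v) ^ 3 = 1)
    (h3 : (v * x * x) ^ 3 = 1) (h4 : (v * x * (a * v)) ^ 2 = 1) (h5 : (v * x * (v * x * x)) ^ 2 = 1)
    (h6 : (a * v * (v * x * x)) ^ 2 = 1)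
    (h4' : (a * v * (v * x)) ^ 2 = 1) (h5' : (v * x * x * (v * x)) ^ 2 = 1)
    (h6' : (v * x * x * (a * v)) ^ 2 = 1)
    (hv : v = v * x * (v * x * x) * (v * x * x) * (v * x)) (hx : x = v * x * (v * x) * (v * x * x))
    (ha : a = v * x * (v * x) * (v * x * x) * (a * v) * (v * x)) (hne : v * x ≠ 1) :
    Nonempty (closure ({v, x, a} : Set J) ≃* alternatingGroup (Fin 5)) := by
  let f : ℕ → J := fun i => if i = 0 then v * x else if i = 1 then a * v else v * x * x
  have hf0 : f 0 = v * x := rfl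
  have hf1 : f 1 = a * v := rfl
  have hf2 : f 2 = v * x * x := rfl
  have hrel : Cfsg.Agent.Lib.AltCarmichael.Rel 3 f := by
    refine ⟨fun i hi => ?_, fun i hi j hj hij => ?_⟩
    · interval_cases i
      · exact h1
      · exact h2
      · exact h3
    · interval_cases i <;> interval_cases j
      · exact absurd rfl hij
      · exact h4
      · exact h5
      · exact h4'
      · exact absurd rfl hij
      · exact h6
      · exact h5'
      · exact h6'
      · exact absurd rfl hij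
  obtain ⟨φ⟩ := Cfsg.Agent.Lib.AltCarmichael.nonempty_gen_equiv (le_refl 3) hrel ⟨0, by norm_num, hne⟩
  have hcl : closure ({v, x, a} : Set J) = Cfsg.Agent.Lib.AltCarmichael.gen 3 f := by
    have m0 : v * x ∈ Cfsg.Agent.Lib.AltCarmichael.gen 3 f :=
      Cfsg.Agent.Lib.AltCarmichael.mem_gen (x := f) (by norm_num : 0 < 3)
    have m1 : a * v ∈ Cfsg.Agent.Lib.AltCarmichael.gen 3 f :=
      Cfsg.Agent.Lib.AltCarmichael.mem_gen (x := f) (by norm_num : 1 < 3)
    have m2 : v * x * x ∈ Cfsg.Agent.Lib.AltCarmichael.gen 3 f :=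
      Cfsg.Agent.Lib.AltCarmichael.mem_gen (x := f) (by norm_num : 2 < 3)
    apply le_antisymm
    · rw [closure_le]
      rintro s (rfl | rfl | rfl)
      · rw [hv]; exact mul_mem (mul_mem (mul_mem m0 m2) m2) m0
      · rw [hx]; exact mul_mem (mul_mem m0 m0) m2
      · rw [ha]; exact mul_mem (mul_mem (mul_mem (mul_mem m0 m0) m2) m1) m0
    · rw [Cfsg.Agent.Lib.AltCarmichael.gen_def, closure_le]
      have nv : v ∈ closure ({v, x, a} : Set J) := subset_closure (Or.inl rfl)
      have nx : x ∈ closure ({v, x, a} : Set J) := subset_closure (Or.inr (Or.inl rfl))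
      have na : a ∈ closure ({v, x, a} : Set J) := subset_closure (Or.inr (Or.inr rfl))
      rintro s ⟨i, hi, rfl⟩
      interval_cases i
      · exact mul_mem nv nx
      · exact mul_mem na nv
      · exact mul_mem (mul_mem nv nx) nx
  rw [hcl]
  exact ⟨φ⟩

/-- conjugating word -/
def g1 : List ℕ := [4, 3, 2, 3, 4, 3, 2, 3, 1, 2, 3, 4, 0, 1, 2, 3, 2]
/-- conjugating word -/
def g2 : List ℕ := [3, 2, 3, 4, 3, 2, 3, 1, 2, 3, 0, 1, 2, 3, 4, 3, 2, 3]
/-- conjugating word -/
def g3 : List ℕ := [4, 3, 2, 3, 4, 3, 2, 3, 1, 2, 3, 0, 1, 2, 3, 4, 3, 2, 3]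
/-- conjugating word -/
def g4 : List ℕ := [3, 2, 3, 4, 3, 2, 3, 1, 2, 3, 4, 0, 1, 2, 3, 2]
/-- conjugating word -/
def g5 : List ℕ := [3, 2, 3, 4, 3, 2, 3]

theorem eA0 : gw wZ * (gw wL * gw wY) = gw wA0 := by rw [gw_mul, gw_mul]; rfl
theorem eVp : gw wX * gw wV * (gw wX)⁻¹ = gw wVp := by rw [gw_inv, gw_mul, gw_mul]; rfl
theorem eB0 : gw wV * gw wX * gw wA = gw wB0 := by rw [gw_mul, gw_mul]; rfl
theorem eE : (gw wY)⁻¹ * gw wZ * gw wY = gw (wY.reverse ++ wZ ++ wY) := by rw [gw_inv, gw_mul, gw_mul]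

theorem hj : HJ (gw wV) (gw wX) (gw wA) (gw wZ) (gw wY) (gw wL) where
  rels := rels_G
  z1 := by rw [← gw_nil]; exact gw_ne (i := 10) (by norm_num) (by decide +kernel)
  v1 := by rw [← gw_nil]; exact gw_ne (i := 0) (by norm_num) (by decide +kernel)
  a1 := by rw [← gw_nil]; exact gw_ne (i := 0) (by norm_num) (by decide +kernel)
  a5 := by rw [eA0, gw_pow, ← gw_nil]; exact gw_eq (by decide +kernel)
  ane := by rw [eA0, ← gw_nil]; exact gw_ne (i := 0) (by norm_num) (by decide +kernel)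
  b5 := by rw [eB0, gw_pow, ← gw_nil]; exact gw_eq (by decide +kernel)
  bne := by rw [eB0, ← gw_nil]; exact gw_ne (i := 0) (by norm_num) (by decide +kernel)
  vv := by rw [eVp, gw_mul, gw_mul]; exact gw_eq (by decide +kernel)
  vpx := by rw [eVp]; exact gw_ne (i := 0) (by norm_num) (by decide +kernel)
  azl := by rw [eA0, gw_mul, gw_mul]; exact gw_eq (by decide +kernel)
  card := card_G
  gen := HG_top
  centA := by
    rw [eA0, card_centralizer, Set.image_singleton]
    exact card_CA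
  centV := by
    rw [eVp, card_centralizer, Set.image_pair]
    exact card_CV
  centB := by
    rw [eB0, card_centralizer, Set.image_singleton]
    exact card_CB
  centZ := by
    rw [card_centralizer, Set.image_insert_eq, Set.image_pair]
    exact card_CZ
  isoA := by
    refine iso_of_words ?_ ?_ ?_ ?_ ?_ ?_ ?_ ?_ ?_ ?_ ?_ ?_ ?_
    · rw [gw_mul, gw_pow, ← gw_nil]; exact gw_eq (by decide +kernel)
    · rw [gw_mul, gw_pow, ← gw_nil]; exact gw_eq (by decide +kernel)
    · rw [gw_mul, gw_mul, gw_pow, ← gw_nil]; exact gw_eq (by decide +kernel)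
    · simp only [gw_mul, gw_pow, ← gw_nil]; exact gw_eq (by decide +kernel)
    · simp only [gw_mul, gw_pow, ← gw_nil]; exact gw_eq (by decide +kernel)
    · simp only [gw_mul, gw_pow, ← gw_nil]; exact gw_eq (by decide +kernel)
    · simp only [gw_mul, gw_pow, ← gw_nil]; exact gw_eq (by decide +kernel)
    · simp only [gw_mul, gw_pow, ← gw_nil]; exact gw_eq (by decide +kernel)
    · simp only [gw_mul, gw_pow, ← gw_nil]; exact gw_eq (by decide +kernel)
    · simp only [gw_mul]; exact gw_eq (by decide +kernel)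
    · simp only [gw_mul]; exact gw_eq (by decide +kernel)
    · simp only [gw_mul]; exact gw_eq (by decide +kernel)
    · rw [gw_mul, ← gw_nil]; exact gw_ne (i := 10) (by norm_num) (by decide +kernel)
  isoB := by
    refine iso_of_words ?_ ?_ ?_ ?_ ?_ ?_ ?_ ?_ ?_ ?_ ?_ ?_ ?_
    · rw [gw_mul, gw_pow, ← gw_nil]; exact gw_eq (by decide +kernel)
    · rw [gw_mul, gw_pow, ← gw_nil]; exact gw_eq (by decide +kernel)
    · rw [gw_mul, gw_mul, gw_pow, ← gw_nil]; exact gw_eq (by decide +kernel)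
    · simp only [gw_mul, gw_pow, ← gw_nil]; exact gw_eq (by decide +kernel)
    · simp only [gw_mul, gw_pow, ← gw_nil]; exact gw_eq (by decide +kernel)
    · simp only [gw_mul, gw_pow, ← gw_nil]; exact gw_eq (by decide +kernel)
    · simp only [gw_mul, gw_pow, ← gw_nil]; exact gw_eq (by decide +kernel)
    · simp only [gw_mul, gw_pow, ← gw_nil]; exact gw_eq (by decide +kernel)
    · simp only [gw_mul, gw_pow, ← gw_nil]; exact gw_eq (by decide +kernel)
    · simp only [gw_mul]; exact gw_eq (by decide +kernel)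
    · simp only [gw_mul]; exact gw_eq (by decide +kernel)
    · simp only [gw_mul]; exact gw_eq (by decide +kernel)
    · rw [gw_mul, ← gw_nil]; exact gw_ne (i := 0) (by norm_num) (by decide +kernel)
  cj1 := ⟨gw g1, by
    rw [eA0, eB0, gw_pow, gw_inv, gw_mul, gw_mul, gw_mul]; exact gw_eq (by decide +kernel)⟩
  cj2 := ⟨gw g2, by
    rw [eA0, eB0, gw_pow, gw_inv, gw_mul, gw_mul, gw_mul]; exact gw_eq (by decide +kernel)⟩
  cj3 := ⟨gw g3, by
    rw [eA0, eB0, gw_pow, gw_inv, gw_mul, gw_mul, gw_mul]; exact gw_eq (by decide +kernel)⟩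
  cj4 := ⟨gw g4, by
    rw [eA0, eB0, gw_pow, gw_pow, gw_inv, gw_mul, gw_mul, gw_mul]; exact gw_eq (by decide +kernel)⟩
  fus := ⟨gw g5, by
    rw [gw_inv, gw_mul, gw_mul, gw_mul]; exact gw_eq (by decide +kernel), by
    rw [eVp, eE, gw_inv, gw_mul, gw_mul, gw_mul]; exact gw_eq (by decide +kernel)⟩

end J2Inst

/-- every group isomorphic to `J₂` has generators as in `HJ`, up to isomorphism with the group on 100 points -/
theorem exists_equiv_hundred {J : Type*} [Group J] (h : Cfsg.Spor.IsoJ2 J) :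
    Nonempty (J ≃* Cfsg.Agent.SporadicA.J2Hundred.G) := by
  obtain ⟨φ⟩ := h
  obtain ⟨ψ⟩ := Cfsg.Agent.J2.HundredGens.J2_iso Cfsg.Agent.S1619.result.2.2.2
  exact ⟨φ.trans ψ⟩

end Cfsg.Agent.StdG24

end

-- merged: Cfsg.Agent.OddHalf.Table.OutJTwo
section

/-!
# `OutSign` for the Hall–Janko group

`J₂ = ⟨K, B⟩` with `K = ⟨z, y, l⟩ ≅ A₅`, `B = ⟨v, x, a⟩ ≅ A₅`, `d = z l y` of order 5 in `K`, `C(d) = ⟨d⟩ × B`,
`C(v, v^x) = ⟨v, v^x⟩ × K`.
* an automorphism fixing `d` is inner (`inner_of_fix`);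
* every automorphism maps `d` to a conjugate of `d` or `d²` (`cases_d`).
So the product of two outer automorphisms is inner.
-/

set_option autoImplicit false
set_option linter.style.haveILetI false

open scoped commutatorElement

namespace Cfsg.Agent.OddHalf.Table.OutJTwo

open Subgroup Cfsg.Agent.StdG24 Cfsg.Agent.OddHalf.Table.TripleAFive

/-! ### `A₅` -/

theorem simple_A5 : IsSimpleGroup (alternatingGroup (Fin 5)) := alternatingGroup.isSimpleGroup (by simp)

theorem noncomm_A5 : ¬ ∀ a b : alternatingGroup (Fin 5), a * b = b * a := by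
  intro h
  have h1 := h ⟨Equiv.swap 0 1 * Equiv.swap 1 2, Equiv.Perm.mem_alternatingGroup.2 (by decide)⟩
    ⟨Equiv.swap 1 2 * Equiv.swap 2 3, Equiv.Perm.mem_alternatingGroup.2 (by decide)⟩
  have h2 := congrArg Subtype.val h1
  revert h2
  decide

theorem commutator_A5 : commutator (alternatingGroup (Fin 5)) = ⊤ := by
  haveI := simple_A5
  rcases (inferInstance : (commutator (alternatingGroup (Fin 5))).Normal).eq_bot_or_eq_top with h | h
  · exfalso
    apply noncomm_A5
    intro a b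
    have h1 : ⁅a, b⁆ ∈ commutator (alternatingGroup (Fin 5)) :=
      Subgroup.commutator_mem_commutator (Subgroup.mem_top a) (Subgroup.mem_top b)
    rw [h, Subgroup.mem_bot] at h1
    exact commutatorElement_eq_one_iff_mul_comm.mp h1
  · exact h

theorem center_A5 (x : alternatingGroup (Fin 5)) (hx : ∀ y, x * y = y * x) : x = 1 := by
  haveI := simple_A5
  have h1 : x ∈ Subgroup.center (alternatingGroup (Fin 5)) := Subgroup.mem_center_iff.mpr fun y => (hx y).symm
  rcases (inferInstance : (Subgroup.center (alternatingGroup (Fin 5))).Normal).eq_bot_or_eq_top with h | h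
  · rw [h, Subgroup.mem_bot] at h1; exact h1
  · exfalso
    apply noncomm_A5
    intro a b
    have : b ∈ Subgroup.center (alternatingGroup (Fin 5)) := by rw [h]; trivial
    exact Subgroup.mem_center_iff.mp this a

theorem card_A5 : Nat.card (alternatingGroup (Fin 5)) = 60 := by
  rw [Nat.card_eq_fintype_card]
  decide +kernel

variable {J : Type*} [Group J]

theorem perfect_of_iso {B : Subgroup J} (e : B ≃* alternatingGroup (Fin 5)) : ⁅B, B⁆ = B := by
  have h1 : commutator B = ⊤ := by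
    have h2 : (commutator (alternatingGroup (Fin 5))).map e.symm.toMonoidHom = commutator B := by
      rw [commutator_def, Subgroup.map_commutator, commutator_def,
        Subgroup.map_top_of_surjective _ e.symm.surjective]
    rw [← h2, commutator_A5, Subgroup.map_top_of_surjective _ e.symm.surjective]
  have h3 : (commutator B).map B.subtype = ⁅B, B⁆ := by
    rw [commutator_def, Subgroup.map_commutator, ← MonoidHom.range_eq_map, Subgroup.range_subtype]
  rw [← h3, h1, ← MonoidHom.range_eq_map, Subgroup.range_subtype]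

theorem central_trivial {B : Subgroup J} (e : B ≃* alternatingGroup (Fin 5)) {w : J} (hw : w ∈ B)
    (hc : ∀ b ∈ B, w * b = b * w) : w = 1 := by
  have h1 : e ⟨w, hw⟩ = 1 := by
    apply center_A5
    intro y
    obtain ⟨b, rfl⟩ := e.surjective y
    rw [← map_mul, ← map_mul]
    congr 1
    exact Subtype.ext (hc b b.2)
  have h2 : (⟨w, hw⟩ : B) = 1 := e.injective (by rw [h1, map_one])
  exact congrArg Subtype.val h2

theorem card_of_iso {B : Subgroup J} (e : B ≃* alternatingGroup (Fin 5)) : Nat.card B = 60 := by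
  rw [Nat.card_congr e.toEquiv, card_A5]

/-! ### Products of commuting subgroups -/

theorem mem_of_card {A B C : Subgroup J} [Finite C] (hA : A ≤ C) (hB : B ≤ C)
    (hdis : ∀ x ∈ A, x ∈ B → x = 1) (hcard : Nat.card C ≤ Nat.card A * Nat.card B) :
    ∀ c ∈ C, ∃ a ∈ A, ∃ b ∈ B, c = a * b := by
  let f : A × B → C := fun p => ⟨p.1 * p.2, C.mul_mem (hA p.1.2) (hB p.2.2)⟩
  have hf : Function.Injective f := by
    rintro ⟨a, b⟩ ⟨a', b'⟩ h
    have h1 : (a : J) * b = a' * b' := congrArg Subtype.val h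
    have h2 : (a' : J)⁻¹ * a = b' * (b : J)⁻¹ := by
      rw [inv_mul_eq_iff_eq_mul, ← mul_assoc, ← h1, mul_inv_cancel_right]
    have h3 := hdis ((a' : J)⁻¹ * a) (A.mul_mem (A.inv_mem a'.2) a.2) (by rw [h2]; exact B.mul_mem b'.2 (B.inv_mem b.2))
    have h4 : (a : J) = a' := (inv_mul_eq_one.1 h3).symm
    have h5 : (b : J) = b' := by
      rw [h2] at h3
      exact (mul_inv_eq_one.1 h3).symm
    exact Prod.ext (Subtype.ext h4) (Subtype.ext h5)
  have hb := Function.Injective.bijective_of_nat_card_le hf (by rw [Nat.card_prod]; exact hcard)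
  intro c hc
  obtain ⟨⟨a, b⟩, hab⟩ := hb.2 ⟨c, hc⟩
  exact ⟨a, a.2, b, b.2, (congrArg Subtype.val hab).symm⟩

theorem commutator_eq {A B C : Subgroup J} (hB : B ≤ C) (hperf : ⁅B, B⁆ = B)
    (hC : ∀ c ∈ C, ∃ a ∈ A, ∃ b ∈ B, c = a * b) (hAA : ∀ a ∈ A, ∀ b ∈ A, a * b = b * a)
    (hAB : ∀ a ∈ A, ∀ b ∈ B, a * b = b * a) : ⁅C, C⁆ = B := by
  apply le_antisymm
  · rw [Subgroup.commutator_le]
    intro g₁ h₁ g₂ h₂
    obtain ⟨a, ha, b, hb, rfl⟩ := hC g₁ h₁
    obtain ⟨a', ha', b', hb', rfl⟩ := hC g₂ h₂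
    have e1 : Commute a b := hAB a ha b hb
    have e2 : Commute a b' := hAB a ha b' hb'
    have e3 : Commute a' b := hAB a' ha' b hb
    have e4 : Commute a' b' := hAB a' ha' b' hb'
    have e5 : Commute a a' := hAA a ha a' ha'
    have h1 : ⁅a * b, a' * b'⁆ = ⁅b, b'⁆ := by
      rw [commutatorElement_def, commutatorElement_def]
      have h2 : a * b * (a' * b') * (a * b)⁻¹ = a' * (b * b' * b⁻¹) := by
        calc a * b * (a' * b') * (a * b)⁻¹ = a * (b * a') * b' * b⁻¹ * a⁻¹ := by group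
          _ = a * (a' * b) * b' * b⁻¹ * a⁻¹ := by rw [e3.eq]
          _ = (a * (a' * (b * b' * b⁻¹))) * a⁻¹ := by group
          _ = ((a' * (b * b' * b⁻¹)) * a) * a⁻¹ := by
            rw [(e5.mul_right ((e1.mul_right e2).mul_right e1.inv_right)).eq]
          _ = _ := by group
      rw [h2]
      calc a' * (b * b' * b⁻¹) * (a' * b')⁻¹ = (a' * (b * b' * b⁻¹ * b'⁻¹)) * a'⁻¹ := by group
        _ = ((b * b' * b⁻¹ * b'⁻¹) * a') * a'⁻¹ := by
          rw [(((e3.mul_right e4).mul_right e3.inv_right).mul_right e4.inv_right).eq]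
        _ = _ := by group
    rw [h1, ← hperf]
    exact Subgroup.commutator_mem_commutator hb hb'
  · rw [← hperf]
    exact Subgroup.commutator_mono hB hB

/-- an automorphism fixing `C` maps `⁅C, C⁆` to itself -/
theorem map_commutator_mem {C B : Subgroup J} (α : MulAut J) (hC : C.map α.toMonoidHom = C) (hB : ⁅C, C⁆ = B) :
    ∀ b ∈ B, α b ∈ B := by
  intro b hb
  have h1 : B.map α.toMonoidHom = B := by
    rw [← hB, Subgroup.map_commutator, hC]
  rw [← h1]
  exact ⟨b, hb, rfl⟩

/-! ### Automorphisms fixing an element of order 5 -/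

variable {v x a z y l : J}

/-- the element of order 5 -/
theorem comm_d (h : HJ v x a z y l) {b : J} (hb : b ∈ closure ({v, x, a} : Set J)) :
    b * (z * (l * y)) = z * (l * y) * b := by
  have h1 : closure ({v, x, a} : Set J) ≤ centralizer ({z * (l * y)} : Set J) := by
    rw [closure_le]
    intro s hs
    rw [SetLike.mem_coe, mem_centralizer_singleton_iff]
    simp only [Set.mem_insert_iff, Set.mem_singleton_iff] at hs
    have r := h.rels
    rcases hs with rfl | rfl | rfl
    · have e1 : Commute s z := r.vz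
      have e2 : Commute s l := r.vl
      have e3 : Commute s y := r.vy
      exact (e1.mul_right (e2.mul_right e3)).eq
    · have e1 : Commute s z := r.xz
      have e2 : Commute s l := r.xl
      have e3 : Commute s y := r.xy
      exact (e1.mul_right (e2.mul_right e3)).eq
    · exact h.azl
  exact mem_centralizer_singleton_iff.1 (h1 hb)

/-- `v`, `x` commute with `K` -/
theorem comm_K (h : HJ v x a z y l) {k : J} (hk : k ∈ closure ({z, y, l} : Set J)) :
    v * k = k * v ∧ x * k = k * x := by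
  have r := h.rels
  have h1 : closure ({z, y, l} : Set J) ≤ centralizer ({v, x} : Set J) := by
    rw [closure_le]
    intro s hs
    rw [SetLike.mem_coe, mem_centralizer_iff]
    simp only [Set.mem_insert_iff, Set.mem_singleton_iff] at hs
    rintro t (rfl | rfl)
    · rcases hs with rfl | rfl | rfl
      · exact r.vz
      · exact r.vy
      · exact r.vl
    · rcases hs with rfl | rfl | rfl
      · exact r.xz
      · exact r.xy
      · exact r.xl
  have h2 := mem_centralizer_iff.1 (h1 hk)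
  exact ⟨h2 v (by simp), h2 x (by simp)⟩

theorem tri (h : HJ v x a z y l) : Tri v x a where
  v1 := h.v1
  v2 := h.rels.v2
  x3 := by have := h.rels.x3; rwa [pow_succ, pow_two] at this
  vx := by have := h.rels.vx; rwa [pow_succ, pow_two] at this
  a2 := h.rels.a2
  xa := by have := h.rels.xa; rwa [pow_two] at this
  va := by have := h.rels.va; rwa [pow_succ, pow_two] at this

theorem map_cent (α : MulAut J) (S : Set J) (h : ∀ g : J, g ∈ centralizer (α '' S) ↔ g ∈ centralizer S) :
    (centralizer S).map α.toMonoidHom = centralizer S := by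
  ext g
  rw [← h g]
  constructor
  · rintro ⟨c, hc, rfl⟩
    rw [mem_centralizer_iff]
    rintro _ ⟨s, hs, rfl⟩
    show α s * α c = α c * α s
    rw [← map_mul, ← map_mul, mem_centralizer_iff.1 hc s hs]
  · intro hg
    refine ⟨α.symm g, ?_, α.apply_symm_apply g⟩
    rw [SetLike.mem_coe, mem_centralizer_iff]
    intro s hs
    apply α.injective
    rw [map_mul, map_mul, MulEquiv.apply_symm_apply]
    exact mem_centralizer_iff.1 hg (α s) ⟨s, hs, rfl⟩

theorem exists_restrict {K : Subgroup J} (α : MulAut J) (h : K.map α.toMonoidHom = K) :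
    ∃ β : MulAut K, ∀ k : K, ((β k : K) : J) = α k :=
  ⟨(α.subgroupMap K).trans (MulEquiv.subgroupCongr h), fun _ => rfl⟩

theorem four_le {A : Subgroup J} [Finite A] {v v' : J} (hv : v ∈ A) (hv' : v' ∈ A) (v1 : v ≠ 1) (v1' : v' ≠ 1)
    (hne : v' ≠ v) (hvv : v' * v' = 1) : 4 ≤ Nat.card A := by
  let f : Fin 4 → A := ![1, ⟨v, hv⟩, ⟨v', hv'⟩, ⟨v * v', A.mul_mem hv hv'⟩]
  have e1 : v * v' ≠ 1 := fun e => hne (by
    calc v' = v * v' * v' := by rw [e, one_mul]
      _ = v := by rw [mul_assoc, hvv, mul_one])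
  have e2 : v * v' ≠ v := fun e => v1' (mul_eq_left.1 e)
  have e3 : v * v' ≠ v' := fun e => v1 (mul_eq_right.1 e)
  have hf : Function.Injective f := by
    intro i j hij
    have hij' : ((f i : A) : J) = f j := congrArg Subtype.val hij
    fin_cases i <;> fin_cases j <;> first
      | rfl
      | (exfalso; simp [f] at hij'; first
          | exact v1 hij'.symm
          | exact v1 hij'
          | exact v1' hij'.symm
          | exact v1' hij'
          | exact hne hij'.symm
          | exact hne hij'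
          | exact e1 hij'.symm
          | exact e1 hij')
  have := Nat.card_le_card_of_injective f hf
  rwa [Nat.card_eq_fintype_card, Fintype.card_fin] at this

theorem xvx {v x : J} (h : Tri v x a) : x⁻¹ * v * x = v * (x * v * x⁻¹) ∧ (x * v * x⁻¹) * (x * v * x⁻¹) = 1 ∧
    x * v * x⁻¹ ≠ 1 := by
  have h3 : x * x = x⁻¹ := eq_inv_of_mul_eq_one_left h.x3
  have hvv : v⁻¹ = v := inv_eq_of_mul_eq_one_left h.v2
  refine ⟨?_, ?_, ?_⟩
  · have h4 : v * (x * v * x⁻¹) * (x⁻¹ * v * x) = 1 := by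
      calc v * (x * v * x⁻¹) * (x⁻¹ * v * x) = v * (x * v * (x⁻¹ * x⁻¹)) * v * x := by group
        _ = v * (x * v * x) * v * x := by
          rw [← h3, show x * x * (x * x) = x * x * x * x by group, h.x3, one_mul]
        _ = v * x * (v * x) * (v * x) := by group
        _ = 1 := h.vx
    have h5 : (x⁻¹ * v * x) * (x⁻¹ * v * x) = 1 := by
      calc (x⁻¹ * v * x) * (x⁻¹ * v * x) = x⁻¹ * (v * v) * x := by group
        _ = 1 := by rw [h.v2]; group
    have h6 := eq_inv_of_mul_eq_one_left h4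
    rw [inv_eq_of_mul_eq_one_left h5] at h6
    exact h6.symm
  · calc (x * v * x⁻¹) * (x * v * x⁻¹) = x * (v * v) * x⁻¹ := by group
      _ = 1 := by rw [h.v2]; group
  · intro h1
    apply h.v1
    calc v = x⁻¹ * (x * v * x⁻¹) * x := by group
      _ = 1 := by rw [h1]; group

/-- An automorphism fixing `d = z l y` is inner. -/
theorem inner_of_fix [Finite J] (h : HJ v x a z y l) (α : MulAut J) (hα : α (z * (l * y)) = z * (l * y)) :
    ∃ j : J, α = MulAut.conj j := by
  obtain ⟨eK⟩ := h.isoA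
  obtain ⟨eB⟩ := h.isoB
  set B := closure ({v, x, a} : Set J) with hBdef
  set K := closure ({z, y, l} : Set J) with hKdef
  obtain ⟨d, hd⟩ : ∃ d, d = z * (l * y) := ⟨_, rfl⟩
  have hdB : ∀ b ∈ B, b * d = d * b := fun b hb => by rw [hd]; exact comm_d h hb
  have hvB : v ∈ B := subset_closure (by simp)
  have hxB : x ∈ B := subset_closure (by simp)
  have haB : a ∈ B := subset_closure (by simp)
  have hzK : z ∈ K := subset_closure (by simp)
  have hyK : y ∈ K := subset_closure (by simp)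
  have hlK : l ∈ K := subset_closure (by simp)
  have hdK : d ∈ K := by rw [hd]; exact K.mul_mem hzK (K.mul_mem hlK hyK)
  have hd1 : d ≠ 1 := by rw [hd]; exact h.ane
  have hd5 : d ^ 5 = 1 := by rw [hd]; exact h.a5
  have hord : orderOf d = 5 := by
    haveI : Fact (Nat.Prime 5) := ⟨by norm_num⟩
    exact orderOf_eq_prime hd5 hd1
  rw [← hd] at hα
  -- the centralizer of `d`
  have hpow : ∀ u ∈ zpowers d, ∀ b ∈ B, u * b = b * u := by
    rintro _ ⟨i, rfl⟩ b hb
    have : Commute d b := (hdB b hb).symm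
    exact (this.zpow_left i).eq
  have hdC : zpowers d ≤ centralizer ({d} : Set J) := by
    rintro _ ⟨i, rfl⟩
    rw [mem_centralizer_singleton_iff]
    exact ((Commute.refl d).zpow_left i).eq
  have hBC : B ≤ centralizer ({d} : Set J) := fun b hb => mem_centralizer_singleton_iff.2 (hdB b hb)
  have hcentA : Nat.card (centralizer ({d} : Set J)) ≤ 300 := by rw [hd]; exact h.centA
  have hC1 := mem_of_card hdC hBC
    (fun w hw hwB => central_trivial eB hwB (fun b hb => hpow w hw b hb))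
    (by rw [Nat.card_zpowers, hord, card_of_iso eB]; exact hcentA)
  have hC2 : ⁅centralizer ({d} : Set J), centralizer ({d} : Set J)⁆ = B :=
    commutator_eq hBC (perfect_of_iso eB) hC1
      (fun p hp q hq => by
        obtain ⟨i, rfl⟩ := hp
        obtain ⟨j, rfl⟩ := hq
        exact ((Commute.refl d).zpow_zpow i j).eq) hpow
  have hC3 : (centralizer ({d} : Set J)).map α.toMonoidHom = centralizer ({d} : Set J) := by
    apply map_cent
    intro g
    rw [Set.image_singleton, hα]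
  have hαB := map_commutator_mem α hC3 hC2
  -- the triples
  have T := tri h
  have T1 : Tri (⟨v, hvB⟩ : B) ⟨x, hxB⟩ ⟨a, haB⟩ := Tri.of_map B.subtype B.subtype_injective T
  have T2 : Tri (⟨α v, hαB v hvB⟩ : B) ⟨α x, hαB x hxB⟩ ⟨α a, hαB a haB⟩ :=
    Tri.of_map B.subtype B.subtype_injective (T.map α.toMonoidHom α.injective)
  obtain ⟨⟨b, hb⟩, c1, c2, c3⟩ := conj_triple eB T1 T2
  have c1' : b * α v * b⁻¹ = v := congrArg Subtype.val c1
  have c2' : b * α a * b⁻¹ = a := congrArg Subtype.val c2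
  have c3' : b * α x * b⁻¹ = x ∨ b * α x * b⁻¹ = x⁻¹ := by
    rcases c3 with c3 | c3
    · exact Or.inl (congrArg Subtype.val c3)
    · exact Or.inr (congrArg Subtype.val c3)
  set β : MulAut J := MulAut.conj b * α with hβ
  have hβa : ∀ g, β g = b * α g * b⁻¹ := fun _ => rfl
  have b1 : β v = v := c1'
  have b2 : β a = a := c2'
  have b3 : β x = x ∨ β x = x⁻¹ := c3'
  have b4 : β d = d := by
    rw [hβa, hα, hdB b hb, mul_inv_cancel_right]
  obtain ⟨x1, x2, x3⟩ := xvx T
  -- the centralizer of `v`, `v^x`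
  set v' := x * v * x⁻¹ with hv'
  have hvv' : v * v' = v' * v := h.vv
  have hKC : K ≤ centralizer ({v, v'} : Set J) := by
    intro k hk
    obtain ⟨k1, k2⟩ := comm_K h hk
    rw [mem_centralizer_iff]
    simp only [Set.mem_insert_iff, Set.mem_singleton_iff]
    rintro _ (rfl | rfl)
    · exact k1
    · have e1 : Commute v k := k1
      have e2 : Commute x k := k2
      exact ((e2.mul_left e1).mul_left e2.inv_left).eq
  have hVC : closure ({v, v'} : Set J) ≤ centralizer ({v, v'} : Set J) := by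
    rw [closure_le]
    intro s hs
    rw [SetLike.mem_coe, mem_centralizer_iff]
    simp only [Set.mem_insert_iff, Set.mem_singleton_iff] at hs ⊢
    rcases hs with rfl | rfl <;> rintro _ (rfl | rfl)
    · rfl
    · exact hvv'.symm
    · exact hvv'
    · rfl
  have hVK : ∀ p ∈ closure ({v, v'} : Set J), ∀ k ∈ K, p * k = k * p := by
    intro p hp k hk
    have : closure ({v, v'} : Set J) ≤ centralizer (K : Set J) := by
      rw [closure_le]
      intro s hs
      rw [SetLike.mem_coe, mem_centralizer_iff]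
      intro k hk
      exact (mem_centralizer_iff.1 (hKC hk) s hs).symm
    exact (mem_centralizer_iff.1 (this hp) k hk).symm
  have hvm : v ∈ closure ({v, v'} : Set J) := subset_closure (by simp)
  have hvm' : v' ∈ closure ({v, v'} : Set J) := subset_closure (by simp)
  have hD1 := mem_of_card hVC hKC
    (fun w hw hwK => central_trivial eK hwK (fun k hk => hVK w hw k hk))
    (by
      have h4 := four_le hvm hvm' h.v1 x3 h.vpx x2
      have h5 := h.centV
      rw [card_of_iso eK]
      calc Nat.card (centralizer ({v, v'} : Set J)) ≤ 240 := h5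
        _ ≤ Nat.card (closure ({v, v'} : Set J)) * 60 := by omega)
  have hD2 : ⁅centralizer ({v, v'} : Set J), centralizer ({v, v'} : Set J)⁆ = K :=
    commutator_eq hKC (perfect_of_iso eK) hD1
      (fun p hp q hq => by
        have := hVC hq
        have h6 : closure ({v, v'} : Set J) ≤ centralizer ({q} : Set J) := by
          rw [closure_le]
          intro s hs
          rw [SetLike.mem_coe, mem_centralizer_singleton_iff]
          exact mem_centralizer_iff.1 this s hs
        exact mem_centralizer_singleton_iff.1 (h6 hp)) hVK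
  have b5 : β v' = v' ∨ β v' = v * v' := by
    have : β v' = β x * v * (β x)⁻¹ := by rw [hv', map_mul, map_mul, map_inv, b1]
    rw [this]
    rcases b3 with e | e
    · left; rw [e]
    · right; rw [e, inv_inv, x1]
  have hD3 : (centralizer ({v, v'} : Set J)).map β.toMonoidHom = centralizer ({v, v'} : Set J) := by
    apply map_cent
    intro g
    rw [Set.image_pair, b1]
    rcases b5 with e | e
    · rw [e]
    · rw [e, mem_centralizer_iff, mem_centralizer_iff]
      simp only [Set.mem_insert_iff, Set.mem_singleton_iff, forall_eq_or_imp, forall_eq]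
      apply and_congr_right
      intro hg
      have hg' : Commute v g := hg
      constructor
      · intro h7
        have h7' : Commute (v * v') g := h7
        have : v' = v⁻¹ * (v * v') := by group
        rw [this]
        exact (hg'.inv_left.mul_left h7').eq
      · intro h7
        have h7' : Commute v' g := h7
        exact (hg'.mul_left h7').eq
  have hKmap : K.map β.toMonoidHom = K := by
    conv_lhs => rw [← hD2]
    rw [Subgroup.map_commutator, hD3, hD2]
  obtain ⟨κ, hκ⟩ := exists_restrict β hKmap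
  obtain ⟨k, hk⟩ := Cfsg.Agent.StdG24.AutA5.conj_of_fix eK κ (u := ⟨d, hdK⟩)
    (fun e => hd1 (congrArg Subtype.val e)) (Subtype.ext hd5) (Subtype.ext (by rw [hκ]; exact b4))
  have hk' : ∀ g ∈ K, β g = d ^ k * g * (d ^ k)⁻¹ := by
    intro g hg
    have h8 := congrArg Subtype.val (hk ⟨g, hg⟩)
    rw [hκ] at h8
    exact h8
  obtain ⟨γ, hγ⟩ : ∃ γ : MulAut J, γ = MulAut.conj (d ^ k)⁻¹ * β := ⟨_, rfl⟩
  have hγa : ∀ g, γ g = (d ^ k)⁻¹ * β g * d ^ k := by
    intro g
    rw [hγ]
    show (d ^ k)⁻¹ * β g * (d ^ k)⁻¹⁻¹ = _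
    rw [inv_inv]
  have g1 : ∀ g ∈ K, γ g = g := by
    intro g hg
    rw [hγa, hk' g hg]; group
  have g2 : ∀ g ∈ B, (d ^ k)⁻¹ * g * d ^ k = g := by
    intro g hg
    have : Commute g (d ^ k) := (show Commute g d from hdB g hg).pow_right k
    rw [mul_assoc, this.eq, inv_mul_cancel_left]
  have g3 : γ v = v := by rw [hγa, b1, g2 v hvB]
  have g4 : γ a = a := by rw [hγa, b2, g2 a haB]
  rcases b3 with e | e
  · have g5 : γ x = x := by rw [hγa, e, g2 x hxB]
    have g6 : γ.toMonoidHom = MonoidHom.id J := by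
      apply MonoidHom.eq_of_eqOn_dense h.gen
      intro s hs
      simp only [Set.mem_insert_iff, Set.mem_singleton_iff] at hs
      show γ s = s
      rcases hs with rfl | rfl | rfl | rfl | rfl | rfl
      · exact g3
      · exact g5
      · exact g4
      · exact g1 _ hzK
      · exact g1 _ hyK
      · exact g1 _ hlK
    have g7 : γ = 1 := by
      ext g
      exact DFunLike.congr_fun g6 g
    refine ⟨((d ^ k)⁻¹ * b)⁻¹, ?_⟩
    have g8 : MulAut.conj ((d ^ k)⁻¹ * b) * α = 1 := by
      rw [map_mul, mul_assoc, ← hβ, ← hγ, g7]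
    rw [map_inv]
    exact eq_inv_of_mul_eq_one_right g8
  · exfalso
    have g5 : γ x = x⁻¹ := by rw [hγa, e, g2 _ (B.inv_mem hxB)]
    have r := h.rels.n1
    have r' := congrArg γ r
    simp only [map_mul, map_inv, g1 _ hyK, g1 _ hzK, g3, g4, g5, inv_inv] at r'
    rw [r] at r'
    have h9 := mul_right_cancel r'
    have h10 := mul_left_cancel h9
    exact h.v1 (mul_eq_right.1 (x1.symm.trans h10))

/-! ### The class of `d` -/

theorem pow_of_mem {u w : J} (hu : u ^ 5 = 1) (hw : w ∈ zpowers u) : ∃ i < 5, w = u ^ i := by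
  obtain ⟨n, rfl⟩ := hw
  refine ⟨(n % 5).toNat, by omega, ?_⟩
  have h1 : ((n % 5).toNat : ℤ) = n % 5 := Int.toNat_of_nonneg (Int.emod_nonneg _ (by norm_num))
  have h2 : u ^ ((n % 5).toNat) = u ^ (n % 5) := by rw [← zpow_natCast, h1]
  show u ^ n = _
  rw [h2]
  have h3 : n = 5 * (n / 5) + n % 5 := (Int.mul_ediv_add_emod n 5).symm
  conv_lhs => rw [h3, zpow_add, zpow_mul]
  have h4 : u ^ (5 : ℤ) = 1 := by exact_mod_cast hu
  rw [h4, one_zpow, one_mul]

theorem pow_mod5 {u : J} (hu : u ^ 5 = 1) {m n : ℕ} (h : m % 5 = n % 5) : u ^ m = u ^ n := by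
  rw [← Nat.mod_add_div m 5, ← Nat.mod_add_div n 5, pow_add, pow_add, pow_mul, pow_mul, hu, one_pow, one_pow, h]

theorem arith : ∀ i < 5, i ≠ 0 → ∀ j < 5, (∃ t < 5, (t * i) % 5 = j % 5) ∧ ∃ i' < 5, (i * i') % 5 = 1 % 5 := by
  decide

theorem conj_pow' {g u : J} (n : ℕ) : (g * u * g⁻¹) ^ n = g * u ^ n * g⁻¹ := conj_pow

/-- The elements of the Sylow 5-subgroup. -/
theorem good_or_bad (h : HJ v x a z y l) {i j : ℕ} (hi : i < 5) (hj : j < 5) (hij : ¬ (i = 0 ∧ j = 0)) :
    (∃ (g : J) (n : ℕ), (z * (l * y)) ^ i * (v * x * a) ^ j = g * (z * (l * y)) ^ n * g⁻¹) ∨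
      ∃ (g : J) (n : ℕ), ((z * (l * y)) ^ i * (v * x * a) ^ j) ^ n = g * (v * x * a) * g⁻¹ := by
  have hc : Commute (z * (l * y)) (v * x * a) := by
    have : v * x * a ∈ closure ({v, x, a} : Set J) :=
      mul_mem (mul_mem (subset_closure (by simp)) (subset_closure (by simp))) (subset_closure (by simp))
    exact (comm_d h this).symm
  have hd5 := h.a5
  have hb5 := h.b5
  obtain ⟨g1, c1⟩ := h.cj1
  obtain ⟨g2, c2⟩ := h.cj2
  obtain ⟨g3, c3⟩ := h.cj3
  obtain ⟨g4, c4⟩ := h.cj4
  generalize z * (l * y) = d at *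
  generalize v * x * a = b at *
  by_cases h0 : i = 0
  · subst h0
    have hj0 : j ≠ 0 := fun e => hij ⟨rfl, e⟩
    obtain ⟨-, j', -, hj'⟩ := arith j hj hj0 0 (by norm_num)
    right
    refine ⟨1, j', ?_⟩
    rw [pow_zero, one_mul, ← pow_mul, pow_mod5 hb5 hj', pow_one]
    group
  · obtain ⟨⟨t, ht, htj⟩, i', -, hi'⟩ := arith i hi h0 j hj
    have key : d ^ i * b ^ j = (d * b ^ t) ^ i := by
      rw [(hc.pow_right t).mul_pow, ← pow_mul, pow_mod5 hb5 htj]
    rw [key]
    interval_cases t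
    · left
      exact ⟨1, i, by group⟩
    · left
      refine ⟨g1, 2 * i, ?_⟩
      rw [pow_one, ← c1, conj_pow, pow_mul]
    · right
      refine ⟨g2, i', ?_⟩
      rw [← c2, ← pow_mul, conj_pow, pow_mod5 hb5 hi', pow_one]
    · right
      refine ⟨g3, i', ?_⟩
      rw [← c3, ← pow_mul, conj_pow, pow_mod5 hb5 hi', pow_one]
    · left
      refine ⟨g4, 2 * i, ?_⟩
      rw [← c4, conj_pow, pow_mul]

/-- `d` is conjugate to its inverse -/
theorem conj_inv_d (h : HJ v x a z y l) : z * (z * (l * y)) * z⁻¹ = (z * (l * y))⁻¹ := by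
  have r := h.rels
  have hz : z⁻¹ = z := inv_eq_of_mul_eq_one_left r.z2
  have hly : l * y * (l * y) = 1 := by
    have h1 : (y * l) ^ 2 = 1 := r.yl
    have h2 : l * y * (l * y) = y⁻¹ * (y * l) ^ 2 * y := by rw [pow_two]; group
    rw [h2, h1]; group
  rw [mul_inv_rev, inv_eq_of_mul_eq_one_left hly, ← mul_assoc z z, r.z2, one_mul]

theorem card_cent_conj (g w : J) : Nat.card (centralizer ({g * w * g⁻¹} : Set J)) = Nat.card (centralizer ({w} : Set J)) := by
  have h1 : (centralizer ({w} : Set J)).map (MulAut.conj g).toMonoidHom = centralizer ({g * w * g⁻¹} : Set J) := by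
    ext u
    rw [mem_centralizer_singleton_iff]
    constructor
    · rintro ⟨c, hc, rfl⟩
      have hc' := mem_centralizer_singleton_iff.1 hc
      show g * c * g⁻¹ * (g * w * g⁻¹) = g * w * g⁻¹ * (g * c * g⁻¹)
      calc g * c * g⁻¹ * (g * w * g⁻¹) = g * (c * w) * g⁻¹ := by group
        _ = g * (w * c) * g⁻¹ := by rw [hc']
        _ = _ := by group
    · intro hu
      refine ⟨g⁻¹ * u * g, ?_, by show g * (g⁻¹ * u * g) * g⁻¹ = u; group⟩
      rw [SetLike.mem_coe, mem_centralizer_singleton_iff]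
      calc g⁻¹ * u * g * w = g⁻¹ * (u * (g * w * g⁻¹)) * g := by group
        _ = g⁻¹ * (g * w * g⁻¹ * u) * g := by rw [hu]
        _ = _ := by group
  rw [← h1, card_map_of_injective (MulAut.conj g).injective]

theorem card_cent_aut (α : MulAut J) (w : J) :
    Nat.card (centralizer ({α w} : Set J)) = Nat.card (centralizer ({w} : Set J)) := by
  have h1 : (centralizer ({w} : Set J)).map α.toMonoidHom = centralizer ({α w} : Set J) := by
    ext u
    rw [mem_centralizer_singleton_iff]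
    constructor
    · rintro ⟨c, hc, rfl⟩
      have hc' := mem_centralizer_singleton_iff.1 hc
      show α c * α w = α w * α c
      rw [← map_mul, hc', map_mul]
    · intro hu
      refine ⟨α.symm u, ?_, α.apply_symm_apply u⟩
      rw [SetLike.mem_coe, mem_centralizer_singleton_iff]
      apply α.injective
      rw [map_mul, map_mul, MulEquiv.apply_symm_apply, hu]
  rw [← h1, card_map_of_injective α.injective]

/-- Every automorphism maps `d` to a conjugate of `d` or `d²`. -/
theorem cases_d [Finite J] (h : HJ v x a z y l) (α : MulAut J) :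
    (∃ g : J, g * α (z * (l * y)) * g⁻¹ = z * (l * y)) ∨ ∃ g : J, g * α (z * (l * y)) * g⁻¹ = (z * (l * y)) ^ 2 := by
  haveI : Fact (Nat.Prime 5) := ⟨by norm_num⟩
  obtain ⟨eB⟩ := h.isoB
  have hgb := fun {i j : ℕ} => good_or_bad h (i := i) (j := j)
  have hinv := conj_inv_d h
  have hbB : v * x * a ∈ closure ({v, x, a} : Set J) :=
    mul_mem (mul_mem (subset_closure (by simp)) (subset_closure (by simp))) (subset_closure (by simp))
  have hdB : ∀ b ∈ closure ({v, x, a} : Set J), b * (z * (l * y)) = z * (l * y) * b := fun b hb => comm_d h hb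
  have hd1 := h.ane
  have hd5 := h.a5
  have hb1 := h.bne
  have hb5 := h.b5
  have hcB := h.centB
  generalize z * (l * y) = d at *
  generalize v * x * a = b₅ at *
  have hc : Commute d b₅ := (hdB _ hbB).symm
  have hod : orderOf d = 5 := orderOf_eq_prime hd5 hd1
  have hob : orderOf b₅ = 5 := orderOf_eq_prime hb5 hb1
  -- the Sylow subgroup
  have hP : IsPGroup 5 (zpowers d ⊔ zpowers b₅ : Subgroup J) := by
    apply IsPGroup.to_sup_of_normal_right'
    · exact IsPGroup.of_card (n := 1) (by rw [Nat.card_zpowers, hod]; norm_num)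
    · exact IsPGroup.of_card (n := 1) (by rw [Nat.card_zpowers, hob]; norm_num)
    · rintro _ ⟨i, rfl⟩
      rw [mem_normalizer_iff]
      intro u
      have hcu : ∀ u ∈ zpowers b₅, d ^ i * u * (d ^ i)⁻¹ = u := by
        rintro _ ⟨j, rfl⟩
        have : Commute (d ^ i) (b₅ ^ j) := hc.zpow_zpow i j
        show d ^ i * b₅ ^ j * (d ^ i)⁻¹ = b₅ ^ j
        rw [this.eq, mul_inv_cancel_right]
      constructor
      · intro hu
        show d ^ i * u * (d ^ i)⁻¹ ∈ _
        rw [hcu u hu]; exact hu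
      · intro hu
        have h2 := hcu _ hu
        have h3 : u = d ^ i * u * (d ^ i)⁻¹ := by
          have h4 : d ^ i * (d ^ i * u * (d ^ i)⁻¹) * (d ^ i)⁻¹ = d ^ i * u * (d ^ i)⁻¹ := h2
          have h5 := mul_right_cancel h4
          exact (mul_left_cancel h5).symm
        rw [h3]; exact hu
  obtain ⟨S, hS⟩ := hP.exists_le_sylow
  have hScard : Nat.card (S : Subgroup J) = 25 := by
    have := Cfsg.Agent.J2Type.SylowSeven.card_sylow S 2 24192 (by rw [h.card]; norm_num) (by norm_num)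
    rw [this]; norm_num
  have hall : ∀ c ∈ (S : Subgroup J), ∃ p ∈ zpowers d, ∃ q ∈ zpowers b₅, c = p * q := by
    apply mem_of_card (le_sup_left.trans hS) (le_sup_right.trans hS)
    · intro w hw hwb
      have hwB : w ∈ closure ({v, x, a} : Set J) := (zpowers_le.2 hbB) hwb
      apply central_trivial eB hwB
      intro b hb
      obtain ⟨i, rfl⟩ := hw
      have : Commute d b := (hdB b hb).symm
      exact (this.zpow_left i).eq
    · rw [Nat.card_zpowers, Nat.card_zpowers, hod, hob, hScard]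
  -- conjugate `α d` into `S`
  have hα5 : (α d) ^ 5 = 1 := by rw [← map_pow, hd5, map_one]
  have hα1 : α d ≠ 1 := fun e => hd1 (α.injective (by rw [e, map_one]))
  have hQ : IsPGroup 5 (zpowers (α d)) :=
    IsPGroup.of_card (n := 1) (by rw [Nat.card_zpowers, orderOf_eq_prime hα5 hα1]; norm_num)
  obtain ⟨S', hS'⟩ := hQ.exists_le_sylow
  obtain ⟨g, hg⟩ := MulAction.exists_smul_eq J S' S
  have hgm : g * α d * g⁻¹ ∈ (S : Subgroup J) := by
    rw [← hg, Sylow.coe_subgroup_smul]
    exact ⟨α d, hS' (mem_zpowers _), rfl⟩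
  obtain ⟨p, hp, q, hq, hpq⟩ := hall _ hgm
  obtain ⟨i, hi, rfl⟩ := pow_of_mem hd5 hp
  obtain ⟨j, hj, rfl⟩ := pow_of_mem hb5 hq
  have hne : ¬ (i = 0 ∧ j = 0) := by
    rintro ⟨rfl, rfl⟩
    rw [pow_zero, pow_zero, one_mul] at hpq
    apply hα1
    have : α d = g⁻¹ * (g * α d * g⁻¹) * g := by group
    rw [this, hpq]; group
  -- centralizer orders
  have hcard1 : 60 ≤ Nat.card (centralizer ({d} : Set J)) := by
    rw [← card_of_iso eB]
    exact Nat.card_le_card_of_injective _ (Subgroup.inclusion_injective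
      (fun b hb => mem_centralizer_singleton_iff.2 (hdB b hb)))
  rcases hgb hi hj hne with ⟨g', n, hn⟩ | ⟨g', n, hn⟩
  · rw [← hpq] at hn
    have hn' : (g'⁻¹ * g) * α d * (g'⁻¹ * g)⁻¹ = d ^ n := by
      calc (g'⁻¹ * g) * α d * (g'⁻¹ * g)⁻¹ = g'⁻¹ * (g * α d * g⁻¹) * g' := by group
        _ = d ^ n := by rw [hn]; group
    have h5 : d ^ n = d ^ (n % 5) := pow_mod5 hd5 (by omega)
    have hlt : n % 5 < 5 := Nat.mod_lt _ (by norm_num)
    rw [h5] at hn'
    generalize n % 5 = m at hn' hlt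
    have hd4 : d⁻¹ = d ^ 4 := by
      rw [inv_eq_iff_mul_eq_one, ← pow_succ', hd5]
    interval_cases m
    · exfalso
      apply hα1
      rw [pow_zero] at hn'
      have : α d = (g'⁻¹ * g)⁻¹ * ((g'⁻¹ * g) * α d * (g'⁻¹ * g)⁻¹) * (g'⁻¹ * g) := by group
      rw [this, hn']; group
    · left; exact ⟨_, by rw [hn', pow_one]⟩
    · right; exact ⟨_, hn'⟩
    · right
      refine ⟨z * (g'⁻¹ * g), ?_⟩
      calc z * (g'⁻¹ * g) * α d * (z * (g'⁻¹ * g))⁻¹ = z * ((g'⁻¹ * g) * α d * (g'⁻¹ * g)⁻¹) * z⁻¹ := by group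
        _ = z * d ^ 3 * z⁻¹ := by rw [hn']
        _ = (z * d * z⁻¹) ^ 3 := by rw [conj_pow]
        _ = d ^ 2 := by rw [hinv, hd4, ← pow_mul]; exact pow_mod5 hd5 (by norm_num)
    · left
      refine ⟨z * (g'⁻¹ * g), ?_⟩
      calc z * (g'⁻¹ * g) * α d * (z * (g'⁻¹ * g))⁻¹ = z * ((g'⁻¹ * g) * α d * (g'⁻¹ * g)⁻¹) * z⁻¹ := by group
        _ = z * d ^ 4 * z⁻¹ := by rw [hn']
        _ = (z * d * z⁻¹) ^ 4 := by rw [conj_pow]
        _ = d := by
          rw [hinv, hd4, ← pow_mul]
          conv_rhs => rw [← pow_one d]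
          exact pow_mod5 hd5 (by norm_num)
  · exfalso
    rw [← hpq] at hn
    have h6 : centralizer ({g * α d * g⁻¹} : Set J) ≤ centralizer ({g' * b₅ * g'⁻¹} : Set J) := by
      intro u hu
      rw [mem_centralizer_singleton_iff] at hu ⊢
      rw [← hn]
      exact ((show Commute u (g * α d * g⁻¹) from hu).pow_right n).eq
    have h7 := Nat.card_le_card_of_injective _ (Subgroup.inclusion_injective h6)
    rw [card_cent_conj, card_cent_conj, card_cent_aut] at h7
    omega

/-- `OutSign` from generators as in `HJ` -/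
theorem outSign_of_hj [Finite J] (h : HJ v x a z y l) : OutSign J := by
  have hinner : ∀ α : MulAut J, (∃ g : J, g * α (z * (l * y)) * g⁻¹ = z * (l * y)) → ∃ j, α = MulAut.conj j := by
    rintro α ⟨g, hg⟩
    obtain ⟨j, hj⟩ := inner_of_fix h (MulAut.conj g * α) hg
    refine ⟨g⁻¹ * j, ?_⟩
    rw [map_mul, ← hj, map_inv, inv_mul_cancel_left]
  apply OutSign.of_mul_inner
  intro α β hα hβ
  have hα' : ∃ g : J, g * α (z * (l * y)) * g⁻¹ = (z * (l * y)) ^ 2 := by
    rcases cases_d h α with h1 | h1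
    · obtain ⟨j, hj⟩ := hinner α h1
      exact absurd hj (hα j)
    · exact h1
  have hβ' : ∃ g : J, g * β (z * (l * y)) * g⁻¹ = (z * (l * y)) ^ 2 := by
    rcases cases_d h β with h1 | h1
    · obtain ⟨j, hj⟩ := hinner β h1
      exact absurd hj (hβ j)
    · exact h1
  obtain ⟨g, hg⟩ := hα'
  obtain ⟨g', hg'⟩ := hβ'
  apply hinner
  have hinv := conj_inv_d h
  have hd5 := h.a5
  generalize z * (l * y) = d at *
  have e1 : β d = g'⁻¹ * d ^ 2 * g' := by rw [← hg']; group
  have e2 : α d = g⁻¹ * d ^ 2 * g := by rw [← hg]; group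
  have hd4 : d⁻¹ = d ^ 4 := by
    rw [inv_eq_iff_mul_eq_one, ← pow_succ', hd5]
  refine ⟨z * g * α g', ?_⟩
  have e3 : (α * β) d = (α g')⁻¹ * (g⁻¹ * d ^ 4 * g) * α g' := by
    show α (β d) = _
    rw [e1, map_mul, map_mul, map_inv, map_pow, e2]
    have : (g⁻¹ * d ^ 2 * g) ^ 2 = g⁻¹ * d ^ 4 * g := by
      calc (g⁻¹ * d ^ 2 * g) ^ 2 = g⁻¹ * (d ^ 2 * d ^ 2) * g := by rw [pow_two]; group
        _ = _ := by rw [← pow_add]
    rw [this]
  rw [e3]
  calc z * g * α g' * ((α g')⁻¹ * (g⁻¹ * d ^ 4 * g) * α g') * (z * g * α g')⁻¹ = z * d ^ 4 * z⁻¹ := by group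
    _ = (z * d * z⁻¹) ^ 4 := by rw [conj_pow]
    _ = d := by
      rw [hinv, hd4, ← pow_mul]
      conv_rhs => rw [← pow_one d]
      exact pow_mod5 hd5 (by norm_num)

end Cfsg.Agent.OddHalf.Table.OutJTwo

namespace Cfsg.Agent.OddHalf.Table.OutJTwo

/-- `OutSign` for the Hall–Janko group (second proof; `outSign_J2` is in `OutJ2.lean`) -/
theorem outSign {X' : Type*} [Group X'] (e : X' ≃* Cfsg.Spor.J2) : OutSign X' := by
  obtain ⟨f⟩ := Cfsg.Agent.StdG24.exists_equiv_hundred (J := X') ⟨e⟩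
  exact OutSign.of_equiv f.symm (OutJTwo.outSign_of_hj Cfsg.Agent.StdG24.J2Inst.hj)

end Cfsg.Agent.OddHalf.Table.OutJTwo

end

-- merged: Cfsg.Agent.KFacts.OutAmb
section

/-!
# `noOut2_of_large` for a group given as a subgroup of a larger group (helper105)

`Amb G C Q z K₀` (light copy of Schreier/AmbCrit): `G ≤ Γ`, `C = C_G(z)`, `Q ⊴ C`, `C / Q ≅ K₀` simple non-abelian.
-/

set_option autoImplicit false

namespace Cfsg.Agent.KFacts.OutAmb

open Cfsg.Agent.KFacts.OutTwo Cfsg.Agent.Co2Type.Quad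

/-- The facts about `C = C_G(z)` and its normal 2-subgroup `Q`. -/
structure Amb {Γ : Type*} [Group Γ] (G C Q : Subgroup Γ) (z : Γ) (K₀ : Type*) [Group K₀] : Prop where
  C_le : C ≤ G
  cent : ∀ g ∈ G, g * z = z * g → g ∈ C
  z_comm : ∀ g ∈ C, g * z = z * g
  Q_le : Q ≤ C
  z_mem : z ∈ Q
  z_ne : z ≠ 1
  z_sq : z * z = 1
  Q_comm : ∀ x ∈ Q, ∀ y ∈ Q, x * y = y * x ∨ x * y = y * x * z
  Q_center : ∀ x ∈ Q, (∀ y ∈ Q, x * y = y * x) → x = 1 ∨ x = z
  Q_irred : ∀ N : Subgroup Γ, N ≤ Q → (∀ g ∈ C, ∀ n ∈ N, g * n * g⁻¹ ∈ N) →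
    (∀ n ∈ N, n = 1 ∨ n = z) ∨ N = Q
  cent_Q : ∀ x ∈ C, (∀ y ∈ Q, x * y = y * x) → x ∈ Q
  quot : ∃ π : C →* K₀, Function.Surjective π ∧ ∀ g : C, π g = 1 ↔ (g : Γ) ∈ Q
  simple : IsSimpleGroup K₀
  not_comm : ¬ IsMulCommutative K₀

variable {Γ : Type*} [Group Γ] {G C Q : Subgroup Γ} {z : Γ} {K₀ : Type*} [Group K₀]

theorem conj_mem (A : Amb G C Q z K₀) : ∀ c ∈ C, ∀ q ∈ Q, c * q * c⁻¹ ∈ Q := by
  obtain ⟨π, hπs, hπk⟩ := A.quot
  intro c hc q hq
  have h1 : π ⟨q, A.Q_le hq⟩ = 1 := (hπk _).2 hq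
  have h2 : π (⟨c, hc⟩ * ⟨q, A.Q_le hq⟩ * ⟨c, hc⟩⁻¹) = 1 := by
    rw [map_mul, map_mul, h1, mul_one, ← map_mul, mul_inv_cancel, map_one]
  exact (hπk _).1 h2

/-- `z` as an element of `G`. -/
def zG (A : Amb G C Q z K₀) : G := ⟨z, A.C_le (A.Q_le A.z_mem)⟩

theorem large (A : Amb G C Q z K₀) (hsq : ∀ x ∈ Q, x * x = 1 ∨ x * x = z) :
    Large (Q.subgroupOf G) (zG A) where
  z_mem := A.z_mem
  z_ne := fun h => A.z_ne (congrArg Subtype.val h)
  z_sq := Subtype.ext A.z_sq
  comm_z := fun x hx => Subtype.ext (A.z_comm _ (A.Q_le hx))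
  conj_mem := fun g hg x hx => conj_mem A _ (A.cent _ g.2 (congrArg Subtype.val hg)) _ hx
  sq := fun x hx => by
    rcases hsq x hx with h | h
    · exact Or.inl (Subtype.ext h)
    · exact Or.inr (Subtype.ext h)
  comm := fun x hx y hy => by
    rcases A.Q_comm x hx y hy with h | h
    · exact Or.inl (Subtype.ext h)
    · exact Or.inr (Subtype.ext h)
  cent := fun x hx h => by
    rcases A.Q_center x hx fun y hy =>
      congrArg Subtype.val (h ⟨y, A.C_le (A.Q_le hy)⟩ hy) with h1 | h1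
    · exact Or.inl (Subtype.ext h1)
    · exact Or.inr (Subtype.ext h1)
  self := fun g hg h => A.cent_Q _ (A.cent _ g.2 (congrArg Subtype.val hg)) fun y hy =>
    congrArg Subtype.val (h ⟨y, A.C_le (A.Q_le hy)⟩ hy)

/-- The quotient map on the centraliser. -/
theorem exists_quot (A : Amb G C Q z K₀) :
    ∃ π : Subgroup.centralizer ({zG A} : Set G) →* K₀, Function.Surjective π ∧
      ∀ c : Subgroup.centralizer ({zG A} : Set G), π c = 1 ↔ (c : G) ∈ Q.subgroupOf G := by
  obtain ⟨π, hπs, hπk⟩ := A.quot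
  have hmem : ∀ c : Subgroup.centralizer ({zG A} : Set G), ((c : G) : Γ) ∈ C := fun c =>
    A.cent _ (c : G).2 (congrArg Subtype.val (Subgroup.mem_centralizer_singleton_iff.1 c.2))
  refine ⟨π.comp
    { toFun := fun c => (⟨((c : G) : Γ), hmem c⟩ : C)
      map_one' := rfl
      map_mul' := fun _ _ => rfl }, ?_, fun c => hπk _⟩
  intro k
  obtain ⟨c, rfl⟩ := hπs k
  exact ⟨⟨⟨(c : Γ), A.C_le c.2⟩, Subgroup.mem_centralizer_singleton_iff.2
    (Subtype.ext (A.z_comm c c.2))⟩, rfl⟩

theorem irr (A : Amb G C Q z K₀) : ∀ N : Subgroup G, N ≤ Q.subgroupOf G →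
    (∀ g : G, g * zG A = zG A * g → ∀ n ∈ N, g * n * g⁻¹ ∈ N) →
      (∀ n ∈ N, n = 1 ∨ n = zG A) ∨ N = Q.subgroupOf G := by
  intro N hNQ hCN
  have h1 := A.Q_irred (N.map G.subtype) (by
    rintro _ ⟨n, hn, rfl⟩
    exact hNQ hn) (by
    rintro g hg _ ⟨n, hn, rfl⟩
    exact ⟨⟨g, A.C_le hg⟩ * n * ⟨g, A.C_le hg⟩⁻¹, hCN ⟨g, A.C_le hg⟩ (Subtype.ext (A.z_comm g hg)) n hn, rfl⟩)
  rcases h1 with h1 | h1
  · left
    intro n hn
    rcases h1 n ⟨n, hn, rfl⟩ with h | h
    · exact Or.inl (Subtype.ext h)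
    · exact Or.inr (Subtype.ext h)
  · right
    apply le_antisymm hNQ
    intro q hq
    have h2 : (q : Γ) ∈ N.map G.subtype := by rw [h1]; exact hq
    obtain ⟨n, hn, hnq⟩ := h2
    have : n = q := Subtype.ext hnq
    rw [← this]; exact hn

/-- **No outer involutions** for a group with a large extraspecial subgroup, inside a larger group. -/
theorem noOut2_of_amb [Finite G] (A : Amb G C Q z K₀) (hsq : ∀ x ∈ Q, x * x = 1 ∨ x * x = z) {n₀ : Γ}
    (hin : n₀ * z * n₀⁻¹ ∈ Q) (hne : n₀ * z * n₀⁻¹ ≠ z)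
    (hgen : Subgroup.closure ((C : Set Γ) ∪ {n₀}) = G) (hK : NoOut2 K₀) : NoOut2 G := by
  obtain ⟨π, hπs, hπk⟩ := exists_quot A
  have hs := A.simple
  have hn₀ : n₀ ∈ G := by rw [← hgen]; exact Subgroup.subset_closure (Or.inr rfl)
  have hnc : ∃ a b : K₀, a * b ≠ b * a := by
    by_contra hcon
    push Not at hcon
    exact A.not_comm ⟨⟨hcon⟩⟩
  refine noOut2_of_large (large A hsq) hnc hK π hπs hπk (irr A) (n₀ := ⟨n₀, hn₀⟩) hin
    (fun h => hne (congrArg Subtype.val h)) ?_
  have h1 : ((Subgroup.closure ({c : G | c * zG A = zG A * c} ∪ {⟨n₀, hn₀⟩})).map G.subtype : Subgroup Γ) = G := by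
    rw [MonoidHom.map_closure]
    apply le_antisymm
    · rw [Subgroup.closure_le]
      rintro _ ⟨x, -, rfl⟩
      exact x.2
    · conv_lhs => rw [← hgen]
      rw [Subgroup.closure_le]
      rintro x (hx | hx)
      · exact Subgroup.subset_closure ⟨⟨x, A.C_le hx⟩, Or.inl (Subtype.ext (A.z_comm x hx)), rfl⟩
      · rw [Set.mem_singleton_iff] at hx
        subst hx
        exact Subgroup.subset_closure ⟨⟨x, hn₀⟩, Or.inr rfl, rfl⟩
  rw [eq_top_iff]
  intro g _
  have h2 : (g : Γ) ∈ (Subgroup.closure ({c : G | c * zG A = zG A * c} ∪ {⟨n₀, hn₀⟩})).map G.subtype := by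
    rw [h1]; exact g.2
  obtain ⟨y, hy, hyg⟩ := h2
  have : y = g := Subtype.ext hyg
  rw [← this]; exact hy

end Cfsg.Agent.KFacts.OutAmb

end

-- merged: Cfsg.Agent.KFacts.OutBaby
section

/-!
# `OutSign` for the model of the Baby Monster, from `Co₂` (helper105)
-/

set_option autoImplicit false

namespace Cfsg.Agent.KFacts.OutBaby

open Cfsg.Agent.KFacts.OutTwo Cfsg.Agent.OddHalf.Table Cfsg.Agent.BabyM.Model

/-- `NoOut2 X` implies `OutSign X`. -/
theorem outSign_of_noOut2 {X : Type*} [Group X] (h : NoOut2 X) : OutSign X := by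
  intro α hα hout
  exfalso
  obtain ⟨x, hx⟩ := h α (by rw [hα]; exact one_mem _)
  exact hout x hx.symm

variable {W : Type} [AddCommGroup W] [Module ℚ W] {M : BData W} {K₀ : Type} [Group K₀]

theorem amb (A : BAll M K₀) (hnc : ¬ IsMulCommutative K₀) : OutAmb.Amb M.G M.C M.Q M.z K₀ where
  C_le := A.C_le_G
  cent := fun g hg h => A.cent_z g hg h
  z_comm := A.grp.z_comm
  Q_le := A.grp.Q_le
  z_mem := A.grp.z_mem
  z_ne := A.grp.z_ne
  z_sq := A.grp.z_sq
  Q_comm := A.grp.Q_comm
  Q_center := A.grp.Q_center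
  Q_irred := A.grp.Q_irred
  cent_Q := fun x hx h => A.grp.centralizer_Q x hx h
  quot := A.grp.quot
  simple := A.grp.simple
  not_comm := hnc

/-- **No outer involutions of the model of the Baby Monster.** -/
theorem noOut2_of_model (A : BAll M K₀) (hnc : ¬ IsMulCommutative K₀) (hs : NoOut2 K₀) : NoOut2 M.G := by
  have := A.finite_G
  exact OutAmb.noOut2_of_amb (amb A hnc) A.grp.Q_sq A.orb.τ_z A.orb.τ_z_ne rfl hs

end Cfsg.Agent.KFacts.OutBaby

end

-- merged: Cfsg.Agent.OddHalf.Table.OutB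
section

/-!
# `OutSign` for the Baby Monster, from `Co₂` (helper105)
-/

set_option autoImplicit false

namespace Cfsg.Agent.OddHalf.Table.OutB

open Cfsg Cfsg.Agent.KFacts.OutTwo Cfsg.Agent.BabyM Cfsg.Agent.Schreier

theorem not_comm_K₀ : ¬ IsMulCommutative GroupInst.K₀ := by
  obtain ⟨e⟩ := CoTwoStab.exists_equiv _ GroupInst.dt_l₀
  intro h
  apply CoTwoStab.not_comm
  refine ⟨⟨fun a b => ?_⟩⟩
  apply e.symm.injective
  rw [map_mul, map_mul]
  exact h.is_comm.comm _ _

/-- **No outer involutions of the Baby Monster**, given the same for `Co₂`. -/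
theorem noOut2 [IsSimpleGroup Spor.BabyMonster] (h : NoOut2 Spor.Co2) : NoOut2 Spor.BabyMonster := by
  have hs : Function.Surjective (BM.StageW.hom Instance.all Instance.ok) :=
    BM.StageW.hom_surjective Instance.all Instance.ok (BM.StageWSurj.closure_x Instance.all Instance.ok)
  have hi : Function.Injective (BM.StageW.hom Instance.all Instance.ok) := by
    rw [← MonoidHom.ker_eq_bot_iff]
    rcases (inferInstance : (BM.StageW.hom Instance.all Instance.ok).ker.Normal).eq_bot_or_eq_top with h | h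
    · exact h
    · exfalso
      have h1 := Instance.all.simple
      obtain ⟨x, hx⟩ := exists_ne (1 : Inst.M.G)
      obtain ⟨y, rfl⟩ := hs x
      apply hx
      have : y ∈ (BM.StageW.hom Instance.all Instance.ok).ker := by rw [h]; exact Subgroup.mem_top _
      exact this
  obtain ⟨e⟩ := CoTwoStab.exists_equiv _ GroupInst.dt_l₀
  exact NoOut2.of_equiv (MulEquiv.ofBijective _ ⟨hi, hs⟩).symm
    (KFacts.OutBaby.noOut2_of_model Instance.all not_comm_K₀ (NoOut2.of_equiv e.symm h))

/-- **`OutSign` of the Baby Monster**, given `NoOut2 Co₂`. -/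
theorem outSign_B_of {X : Type*} [Group X] [IsSimpleGroup X] (e : X ≃* Spor.BabyMonster) (h : NoOut2 Spor.Co2) :
    OutSign X := by
  have := e.isSimpleGroup_congr.1 (inferInstance : IsSimpleGroup X)
  exact OutSign.of_equiv e.symm (KFacts.OutBaby.outSign_of_noOut2 (noOut2 h))

end Cfsg.Agent.OddHalf.Table.OutB

end

-- merged: Cfsg.Agent.OddHalf.Table.SignAll
section

/-!
# `CaseM.SignRows`, all rows plugged in

`given`: the rows `OutSign X` for the 17 quotients `X` with even Schur multiplier. `signRows`: the table in the form in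
which it is used.
-/

set_option autoImplicit false

namespace Cfsg.Agent.OddHalf.Table.SignAll

open Cfsg Cfsg.Agent.OddHalf.Table

universe u

/-- **all rows** -/
theorem given : RowsOf.Given.{u} where
  l34 := fun _ _ _ _ _ hF e => OutLThreeFour.outSign hF e
  u62 := fun _ _ _ _ _ hF e => OutUSix.outSign_USix hF e
  sp62 := fun _ _ _ _ _ hF e => OutSpSix.outSign_Sp6 hF e
  o82 := fun _ _ _ _ _ hF e => OutOEight.outSign_O8 hF e
  g24 := fun F _ hF => OutGTwoFour.outSign_G24 F hF
  f42 := fun F _ hF => OutChevTwo.outSign_F42 F hF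
  e62 := fun F _ hF => OutTwESix.outSign_twE6 F hF
  m12 := fun _ _ e => OutMTwelve.outSign_M12 e
  j2 := fun _ _ e => OutJTwo.outSign e
  hs := fun _ _ e => OutHS.outSign_HS e
  suz := fun _ _ e => OutSuz.outSign_Suz e
  ru := fun _ _ e => OutRu.outSign_Ru e
  fi22 := fun _ _ e => OutFi22.outSign_Fi22 e
  co1 := fun _ _ e => OutCo1.outSign_of ⟨e⟩
  b := fun _ _ e => by
    have : IsSimpleGroup Spor.BabyMonster := Cfsg.Agent.BM.KHAll.isB.1
    exact OutSign.of_equiv e.symm
      (Cfsg.Agent.KFacts.OutBaby.outSign_of_noOut2 (OutB.noOut2 Cfsg.Agent.KFacts.CoTwo.Main.noOut2))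
  m22 := fun _ _ e => OutMTwentyTwo.outSign_M22 e

/-- **the table of signs** -/
theorem signRows : CaseM.SignRows.{u} := RowsOf.signRows_of given

end Cfsg.Agent.OddHalf.Table.SignAll

end
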