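import Cfsg.Agent.Lib.BitNetSimple
import Cfsg.Agent.SporRec.R3.Kernel

-- merged: Cfsg.Agent.OddHalf.Table.NetCent
section

/-!
Centralisers in the automorphism group of a graph given by rows: if `g` commutes with `E` and maps `p` to `q`, then
`g` maps `E^i p` to `E^i q`, so the adjacencies of `p, E^i p` and of `q, E^i q` agree, and the points with given
adjacencies to the points `E^i p` are mapped to those with the same adjacencies to the points `E^i q`.
-/

set_option autoImplicit false

namespace Cfsg.Agent.OddHalf.Table.NetCent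

open Cfsg.Agent.Lib Cfsg.Agent.Lib.BitNet Cfsg.Agent.Lib.BitNetSimple Cfsg.Agent.SporRec.R3.Kernel

/-- the permutation `σ` is given by `e` -/
def Acts {n : ℕ} (σ : Equiv.Perm (Fin n)) (e : ℕ → ℕ) : Prop := ∀ i : Fin n, ((σ i : Fin n) : ℕ) = e i

/-- bit `i` of `m`, as a number -/
def bitN (m i : ℕ) : ℕ := Nat.land (Nat.shiftRight m i) 1

theorem bitN_eq (m i : ℕ) : bitN m i = (m.testBit i).toNat := by
  have e : bitN m i = (m >>> i) &&& 1 := rfl
  rw [e, Nat.and_one_is_mod, Nat.toNat_testBit, Nat.shiftRight_eq_div_pow]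

theorem testBit_eq_of_bitN {m i m' i' : ℕ} (h : bitN m i = bitN m' i') : m.testBit i = m'.testBit i' := by
  rw [bitN_eq, bitN_eq] at h
  cases h1 : m.testBit i <;> cases h2 : m'.testBit i' <;> simp_all

/-! ### adjacency patterns -/

/-- the adjacency patterns of the two points differ -/
noncomputable def patNe (e : ℕ → ℕ) (r0 r1 : ℕ) (k : ℕ) : ℕ → ℕ → Bool :=
  Nat.rec (motive := fun _ => ℕ → ℕ → Bool) (fun _ _ => false)
    (fun _ ih a b => Bool.rec (motive := fun _ => Bool) true (force (e a) fun a' => force (e b) fun b' => ih a' b')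
      (Nat.beq (bitN r0 a) (bitN r1 b))) k

/-- the points adjacent to the same members of the sequence -/
noncomputable def colM (row e : ℕ → ℕ) (b : ℕ) (k : ℕ) : ℕ → ℕ → ℕ → ℕ :=
  Nat.rec (motive := fun _ => ℕ → ℕ → ℕ → ℕ) (fun _ _ m => m)
    (fun _ ih x x' m => force (Nat.land (row x') m) fun z =>
      force (Bool.rec (motive := fun _ => ℕ) (Nat.xor m z) z (tb (row x) b)) fun m' =>
        force (e x) fun a => force (e x') fun a' => ih a a' m') k

section

variable {n : ℕ} {row e : ℕ → ℕ} {g E : Equiv.Perm (Fin n)}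

theorem patNe_sound (hg : g ∈ Aut n row) (hE : Acts E e) (hc : g * E = E * g) {p : Fin n} :
    ∀ (k : ℕ) (a : Fin n), patNe e (row p) (row (g p)) k a (g a) = false
  | 0, _ => rfl
  | k + 1, a => by
    have e1 : patNe e (row p) (row (g p)) (k + 1) a (g a) =
      Bool.rec (motive := fun _ => Bool) true
        (force (e a) fun a' => force (e (g a)) fun b' => patNe e (row p) (row (g p)) k a' b')
        (Nat.beq (bitN (row p) a) (bitN (row (g p)) (g a))) := rfl
    have e2 : Nat.beq (bitN (row p) a) (bitN (row (g p)) (g a)) = true := by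
      rw [bitN_eq, bitN_eq, (mem_Aut.1 hg) p a]
      exact Nat.beq_refl _
    have e3 : g (E a) = E (g a) := DFunLike.congr_fun hc a
    rw [e1, e2]
    change (force (e a) fun a' => force (e (g a)) fun b' => patNe e (row p) (row (g p)) k a' b') = false
    rw [force_eq, force_eq, ← hE a, ← hE (g a), ← e3]
    exact patNe_sound hg hE hc k (E a)

theorem colM_sound (hg : g ∈ Aut n row) (hE : Acts E e) (hc : g * E = E * g) (b : Fin n) :
    ∀ (k : ℕ) (x : Fin n) (m : ℕ), m.testBit (g b) = true → (colM row e b k x (g x) m).testBit (g b) = true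
  | 0, _, _, hm => hm
  | k + 1, x, m, hm => by
    have e1 : colM row e b (k + 1) x (g x) m = force (Nat.land (row (g x)) m) fun z =>
      force (Bool.rec (motive := fun _ => ℕ) (Nat.xor m z) z (tb (row x) b)) fun m' =>
        force (e x) fun a => force (e (g x)) fun a' => colM row e b k a a' m' := rfl
    have e3 : g (E x) = E (g x) := DFunLike.congr_fun hc x
    rw [e1, force_eq, force_eq, force_eq, force_eq, ← hE x, ← hE (g x), ← e3]
    apply colM_sound hg hE hc b k (E x)
    have h1 : (row (g x)).testBit (g b) = (row x).testBit b := (mem_Aut.1 hg) x b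
    have h2 : (Nat.land (row (g x)) m).testBit (g b) = (row x).testBit b := by
      change (row (g x) &&& m).testBit (g b) = _
      rw [Nat.testBit_and, hm, Bool.and_true, h1]
    rw [tb_eq]
    cases h3 : (row x).testBit b
    · change (m ^^^ Nat.land (row (g x)) m).testBit (g b) = true
      rw [Nat.testBit_xor, h2, h3, hm]
      rfl
    · change (Nat.land (row (g x)) m).testBit (g b) = true
      rw [h2, h3]

/-- `g` fixes `b` -/
theorem fix_of_colM (hg : g ∈ Aut n row) (hE : Acts E e) (hc : g * E = E * g) {p b : Fin n} (hp : g p = p) {k : ℕ}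
    (h : Nat.beq (colM row e b k p p (Nat.sub (Nat.pow 2 n) 1)) (Nat.pow 2 b) = true) : g b = b := by
  have h0 : (2 ^ n - 1).testBit (g b) = true := by
    rw [Nat.testBit_two_pow_sub_one]
    simp
  have h1 := colM_sound hg hE hc b k p _ h0
  rw [hp] at h1
  have h2 : colM row e b k p p (2 ^ n - 1) = 2 ^ (b : ℕ) := Nat.eq_of_beq_eq_true h
  rw [h2, Nat.testBit_two_pow] at h1
  have h3 : (b : ℕ) = (g b : ℕ) := by simpa using h1
  exact (Fin.ext h3).symm

/-- `g p = q` is impossible -/
theorem ne_of_colM (hg : g ∈ Aut n row) (hE : Acts E e) (hc : g * E = E * g) {p q b : Fin n} {k : ℕ}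
    (h : Nat.beq (colM row e b k p q (Nat.sub (Nat.pow 2 n) 1)) 0 = true) : g p ≠ q := by
  intro hp
  have h0 : (2 ^ n - 1).testBit (g b) = true := by
    rw [Nat.testBit_two_pow_sub_one]
    simp
  have h1 := colM_sound hg hE hc b k p _ h0
  rw [hp] at h1
  have h2 : colM row e b k p q (2 ^ n - 1) = 0 := Nat.eq_of_beq_eq_true h
  rw [h2] at h1
  simp at h1

end

/-! ### representatives of the orbits -/

/-- the mask of a list -/
noncomputable def maskOf (l : List ℕ) : ℕ :=
  List.rec (motive := fun _ => ℕ) 0 (fun r _ ih => Nat.lor (Nat.pow 2 r) ih) l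

theorem testBit_maskOf (i : ℕ) : ∀ l : List ℕ, (maskOf l).testBit i = true → i ∈ l
  | [], h => by
    have e : maskOf [] = 0 := rfl
    rw [e] at h
    simp at h
  | r :: l, h => by
    have e : maskOf (r :: l) = 2 ^ r ||| maskOf l := rfl
    rw [e, Nat.testBit_or, Bool.or_eq_true] at h
    rcases h with h | h
    · rw [Nat.testBit_two_pow] at h
      have : r = i := by simpa using h
      rw [this]
      exact List.mem_cons_self
    · exact List.mem_cons_of_mem _ (testBit_maskOf i l h)

/-- every point of the mask is `E^k r` with `r` in the list -/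
def Rch {n : ℕ} (E : Equiv.Perm (Fin n)) (l : List ℕ) (x : ℕ) : Prop :=
  ∀ i : ℕ, x.testBit i = true → ∃ h : i < n, ∃ r : Fin n, (r : ℕ) ∈ l ∧ ∃ k : ℕ, (E ^ k) r = ⟨i, h⟩

theorem Rch.iter {n : ℕ} {E : Equiv.Perm (Fin n)} {net : List (ℕ × ℕ)} (ok : OkNet n net) (hE : Acts E (app net))
    {l : List ℕ} : ∀ (k : ℕ) {x : ℕ}, Rch E l x → Rch E l (iter [net] k x)
  | 0, _, hx => hx
  | k + 1, x, hx => by
    apply Rch.iter ok hE k
    intro i hi
    have hi' : (x ||| appM net x).testBit i = true := hi
    rw [Nat.testBit_or, Bool.or_eq_true] at hi'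
    rcases hi' with hi' | hi'
    · exact hx i hi'
    · rw [testBit_appM' ok.valid] at hi'
      obtain ⟨hlt, r, hr, j, hj⟩ := hx _ hi'
      have hin : i < n := (ok.inv_lt i).1 hlt
      refine ⟨hin, r, hr, j + 1, ?_⟩
      rw [pow_succ', Equiv.Perm.mul_apply, hj]
      apply Fin.ext
      rw [hE]
      exact app_appInv ok.valid i

/-- the orbits of the list cover everything -/
theorem exists_rep {n : ℕ} {E : Equiv.Perm (Fin n)} {net : List (ℕ × ℕ)} (ok : OkNet n net) (hE : Acts E (app net))
    {l : List ℕ} {k : ℕ} (hl : allL (fun r => Nat.blt r n) l = true)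
    (h : Nat.beq (iterF [net] k (maskOf l)) (Nat.sub (Nat.pow 2 n) 1) = true) (q : Fin n) :
    ∃ r : Fin n, (r : ℕ) ∈ l ∧ ∃ k : ℕ, (E ^ k) r = q := by
  have h0 : Rch E l (maskOf l) := by
    intro i hi
    have hm := testBit_maskOf i l hi
    have hlt : i < n := by
      have := (allL_iff _ _).1 hl i hm
      exact Nat.le_of_ble_eq_true this
    exact ⟨hlt, ⟨i, hlt⟩, hm, 0, rfl⟩
  have h1 := Rch.iter ok hE k h0
  rw [← iterF_eq, Nat.eq_of_beq_eq_true h] at h1
  have h2 : (2 ^ n - 1).testBit q = true := by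
    rw [Nat.testBit_two_pow_sub_one]
    simp
  obtain ⟨_, r, hr, j, hj⟩ := h1 q h2
  exact ⟨r, hr, j, hj⟩

/-- the adjacency pattern of every point of the list except `p`, `p'` differs from that of `p` -/
noncomputable def chkReps (row e : ℕ → ℕ) (k p p' : ℕ) (l : List ℕ) : Bool :=
  allL (fun r => Bool.rec (motive := fun _ => Bool)
    (Bool.rec (motive := fun _ => Bool) (force (row p) fun r0 => force (row r) fun r1 => patNe e r0 r1 k p r) true
      (Nat.beq r p')) true (Nat.beq r p)) l

/-- **the centraliser of `E`** up to `⟨E⟩` -/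
theorem cent_cases {n : ℕ} {row e : ℕ → ℕ} {E : Equiv.Perm (Fin n)} {net : List (ℕ × ℕ)} (ok : OkNet n net)
    (hE : Acts E (app net)) (hE' : Acts E e) {l : List ℕ} {k j : ℕ} (hl : allL (fun r => Nat.blt r n) l = true)
    (h : Nat.beq (iterF [net] k (maskOf l)) (Nat.sub (Nat.pow 2 n) 1) = true) (hEA : E ∈ Aut n row)
    {p : Fin n} {p' : ℕ} (hp : chkReps row e j p p' l = true) {g : Equiv.Perm (Fin n)} (hg : g ∈ Aut n row)
    (hc : g * E = E * g) :
    ∃ i : ℕ, ((E ^ i)⁻¹ * g) p = p ∨ (((((E ^ i)⁻¹ * g) p : Fin n)) : ℕ) = p' := by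
  obtain ⟨r, hr, i, hi⟩ := exists_rep ok hE hl h (g p)
  refine ⟨i, ?_⟩
  have e1 : ((E ^ i)⁻¹ * g) p = r := by
    rw [Equiv.Perm.mul_apply, ← hi]
    exact Equiv.symm_apply_apply _ _
  rw [e1]
  have h1 := (allL_iff _ _).1 hp r hr
  by_cases h2 : (r : ℕ) = p
  · exact Or.inl (Fin.ext h2)
  by_cases h3 : (r : ℕ) = p'
  · exact Or.inr h3
  exfalso
  have e2 : Nat.beq (r : ℕ) p = false := by
    cases h4 : Nat.beq (r : ℕ) p
    · rfl
    · exact absurd (Nat.eq_of_beq_eq_true h4) h2
  have e3 : Nat.beq (r : ℕ) p' = false := by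
    cases h4 : Nat.beq (r : ℕ) p'
    · rfl
    · exact absurd (Nat.eq_of_beq_eq_true h4) h3
  rw [e2, e3] at h1
  change (force (row p) fun r0 => force (row r) fun r1 => patNe e r0 r1 j p r) = true at h1
  rw [force_eq, force_eq] at h1
  have hc' : ((E ^ i)⁻¹ * g) * E = E * ((E ^ i)⁻¹ * g) := by
    have h5 : Commute g E := hc
    have h6 : Commute (E ^ i)⁻¹ E := ((Commute.refl E).pow_left i).inv_left
    exact h6.mul_left h5
  have hg' : (E ^ i)⁻¹ * g ∈ Aut n row := mul_mem (inv_mem (pow_mem hEA i)) hg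
  have h7 := patNe_sound hg' hE' hc' (p := p) j p
  rw [e1, h1] at h7
  exact absurd h7 (by decide)

end Cfsg.Agent.OddHalf.Table.NetCent

end

-- merged: Cfsg.Agent.OddHalf.Table.NetChain
section

/-!
Centralisers in the automorphism group of a graph given by rows, up to a list of known elements.

* `triv_of_chain`: an automorphism which commutes with `E` and fixes `p` is trivial (kernel check: a chain of points,
  each determined by its adjacencies to the `E`-orbits of the previous ones).
* `cent_list`: every automorphism commuting with `E` is `E ^ i * s`, `s` in the list.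
-/

set_option autoImplicit false

namespace Cfsg.Agent.OddHalf.Table.NetChain

open Cfsg.Agent.Lib Cfsg.Agent.Lib.BitNet Cfsg.Agent.Lib.BitNetSimple Cfsg.Agent.SporRec.R3.Kernel
  Cfsg.Agent.OddHalf.Table.NetCent

/-- the points with the same membership in the sets of the list as `v` -/
noncomputable def isol (st : List ℕ) (v : ℕ) : ℕ → ℕ :=
  List.rec (motive := fun _ => ℕ → ℕ) (fun m => m)
    (fun x _ ih m => force (Nat.land m x) fun z =>
      force (Bool.rec (motive := fun _ => ℕ) (Nat.xor m z) z (tb x v)) ih) st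

/-- add the rows of the orbit -/
noncomputable def addOrb (row e : ℕ → ℕ) (cont : List ℕ → Bool) (k : ℕ) : ℕ → List ℕ → Bool :=
  Nat.rec (motive := fun _ => ℕ → List ℕ → Bool) (fun _ st => cont st)
    (fun _ ih a st => force (row a) fun x => force (e a) fun a' => ih a' (x :: st)) k

/-- each point of the list is determined by the rows of the orbits of the previous ones; at the end all points are
separated -/
noncomputable def chain (n : ℕ) (row e : ℕ → ℕ) (k : ℕ) (l : List ℕ) : List ℕ → Bool :=
  List.rec (motive := fun _ => List ℕ → Bool) (fun st => sep st (Nat.sub (Nat.pow 2 n) 1))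
    (fun v _ ih st => Bool.rec (motive := fun _ => Bool) false (addOrb row e ih k v st)
      (Nat.beq (isol st v (Nat.sub (Nat.pow 2 n) 1)) (Nat.pow 2 v))) l

section

variable {n : ℕ} {row e : ℕ → ℕ} {g E : Equiv.Perm (Fin n)}

theorem isol_sound {v : Fin n} : ∀ (st : List ℕ) (m : ℕ), (∀ x ∈ st, Inv g x) → m.testBit (g v) = true →
    (isol st v m).testBit (g v) = true
  | [], _, _, hm => hm
  | x :: st, m, hst, hm => by
    have e1 : isol (x :: st) v m = force (Nat.land m x) (fun z =>
      force (Bool.rec (motive := fun _ => ℕ) (Nat.xor m z) z (tb x v)) (isol st v)) := rfl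
    rw [e1, force_eq, force_eq, tb_eq]
    apply isol_sound st _ (fun y hy => hst y (List.mem_cons_of_mem _ hy))
    have h1 : x.testBit (g v) = x.testBit v := hst x List.mem_cons_self v
    cases h3 : x.testBit v
    · change (m ^^^ (m &&& x)).testBit (g v) = true
      rw [Nat.testBit_xor, Nat.testBit_and, hm, h1, h3]
      rfl
    · change (m &&& x).testBit (g v) = true
      rw [Nat.testBit_and, hm, h1, h3]
      rfl

theorem addOrb_sound (hg : g ∈ Aut n row) (hE : Acts E e) (hc : g * E = E * g) {P : Prop} {cont : List ℕ → Bool}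
    (hcont : ∀ st, (∀ x ∈ st, Inv g x) → cont st = true → P) :
    ∀ (k : ℕ) (a : Fin n) (st : List ℕ), g a = a → (∀ x ∈ st, Inv g x) → addOrb row e cont k a st = true → P
  | 0, _, st, _, hst, h => hcont st hst h
  | k + 1, a, st, ha, hst, h => by
    have e1 : addOrb row e cont (k + 1) a st = force (row a) (fun x => force (e a) fun a' =>
      addOrb row e cont k a' (x :: st)) := rfl
    rw [e1, force_eq, force_eq, ← hE a] at h
    refine addOrb_sound hg hE hc hcont k (E a) (row a :: st) ?_ ?_ h
    · have h1 : g (E a) = E (g a) := DFunLike.congr_fun hc a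
      rw [h1, ha]
    · intro x hx
      rcases List.mem_cons.1 hx with rfl | hx
      · exact Inv.row hg ha
      · exact hst x hx

theorem chain_sound (hg : g ∈ Aut n row) (hE : Acts E e) (hc : g * E = E * g) {k : ℕ} :
    ∀ (l : List ℕ), (∀ v ∈ l, v < n) → ∀ st : List ℕ, (∀ x ∈ st, Inv g x) → chain n row e k l st = true → g = 1
  | [], _, st, hst, h => by
    ext1 i
    have hU : ∀ j : Fin n, (Nat.sub (Nat.pow 2 n) 1).testBit j = true := by
      intro j
      change (2 ^ n - 1).testBit (j : ℕ) = true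
      rw [Nat.testBit_two_pow_sub_one]
      simp
    apply Fin.ext
    exact sep_sound (l := st) h (hU _) (hU _) (fun x hx => hst x hx i)
  | v :: l, hl, st, hst, h => by
    have e1 : chain n row e k (v :: l) st = Bool.rec (motive := fun _ => Bool) false
      (addOrb row e (chain n row e k l) k v st)
      (Nat.beq (isol st v (Nat.sub (Nat.pow 2 n) 1)) (Nat.pow 2 v)) := rfl
    rw [e1] at h
    have hv := hl v List.mem_cons_self
    cases h1 : Nat.beq (isol st v (Nat.sub (Nat.pow 2 n) 1)) (Nat.pow 2 v)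
    · rw [h1] at h
      exact absurd h Bool.false_ne_true
    · rw [h1] at h
      refine addOrb_sound hg hE hc (chain_sound hg hE hc l fun w hw => hl w (List.mem_cons_of_mem _ hw)) k ⟨v, hv⟩ st
        ?_ hst h
      have h2 := isol_sound (g := g) (v := ⟨v, hv⟩) st (2 ^ n - 1) hst (by
        rw [Nat.testBit_two_pow_sub_one]
        simp)
      have h3 : isol st v (2 ^ n - 1) = 2 ^ v := Nat.eq_of_beq_eq_true h1
      change (isol st v (2 ^ n - 1)).testBit _ = true at h2
      rw [h3, Nat.testBit_two_pow] at h2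
      have h4 : v = (g ⟨v, hv⟩ : ℕ) := by simpa using h2
      exact (Fin.ext h4).symm

/-- an automorphism commuting with `E` and fixing `p` is trivial -/
theorem triv_of_chain (hg : g ∈ Aut n row) (hE : Acts E e) (hc : g * E = E * g) {k : ℕ} {p : Fin n} (hp : g p = p)
    {l : List ℕ} (hl : allL (fun v => Nat.blt v n) l = true)
    (h : addOrb row e (chain n row e k l) k p [] = true) : g = 1 :=
  addOrb_sound hg hE hc (chain_sound hg hE hc l fun v hv => by
    have := (allL_iff _ _).1 hl v hv
    exact Nat.le_of_ble_eq_true this) k p [] hp (fun _ h => absurd h List.not_mem_nil) h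

end

/-- no automorphism commuting with `E` maps `p` to `r`: the adjacency patterns of the two points differ, or no point
has the pattern of `w` -/
noncomputable def kill (n : ℕ) (row e : ℕ → ℕ) (k p w r : ℕ) : Bool :=
  Bool.rec (motive := fun _ => Bool) (Nat.beq (colM row e w k p r (Nat.sub (Nat.pow 2 n) 1)) 0) true
    (force (row p) fun r0 => force (row r) fun r1 => patNe e r0 r1 k p r)

theorem kill_sound {n : ℕ} {row e : ℕ → ℕ} {g E : Equiv.Perm (Fin n)} (hg : g ∈ Aut n row) (hE : Acts E e)
    (hc : g * E = E * g) {k : ℕ} {p w r : Fin n} (h : kill n row e k p w r = true) : g p ≠ r := by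
  intro hp
  unfold kill at h
  cases h1 : (force (row p) fun r0 => force (row r) fun r1 => patNe e r0 r1 k p r : Bool)
  · rw [h1] at h
    exact ne_of_colM hg hE hc h hp
  · rw [force_eq, force_eq] at h1
    have h7 := patNe_sound hg hE hc (p := p) k p
    rw [hp, h1] at h7
    exact absurd h7 (by decide)

/-- **the centraliser of `E`** up to a list of elements -/
theorem cent_list {n : ℕ} {row e : ℕ → ℕ} {E : Equiv.Perm (Fin n)} {net : List (ℕ × ℕ)} (ok : OkNet n net)
    (hE : Acts E (app net)) (hE' : Acts E e) (hEA : E ∈ Aut n row) {seeds : List (Equiv.Perm (Fin n))}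
    (hS : ∀ s ∈ seeds, s ∈ Aut n row ∧ s * E = E * s) {l0 l : List ℕ} {m k : ℕ} {p w : Fin n}
    (hl0 : ∀ r ∈ l0, ∃ s ∈ seeds, ((s p : Fin n) : ℕ) = r) (hl : allL (fun r => Nat.blt r n) (l0 ++ l) = true)
    (hcov : Nat.beq (iterF [net] m (maskOf (l0 ++ l))) (Nat.sub (Nat.pow 2 n) 1) = true)
    (hkill : allL (fun r => kill n row e k p w r) l = true)
    (htriv : ∀ g ∈ Aut n row, g * E = E * g → g p = p → g = 1) {g : Equiv.Perm (Fin n)} (hg : g ∈ Aut n row)
    (hc : g * E = E * g) : ∃ i : ℕ, ∃ s ∈ seeds, g = E ^ i * s := by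
  obtain ⟨r, hr, i, hi⟩ := exists_rep ok hE hl hcov (g p)
  have e1 : ((E ^ i)⁻¹ * g) p = r := by
    rw [Equiv.Perm.mul_apply, ← hi]
    exact Equiv.symm_apply_apply _ _
  have hc' : ((E ^ i)⁻¹ * g) * E = E * ((E ^ i)⁻¹ * g) := by
    have h5 : Commute g E := hc
    have h6 : Commute (E ^ i)⁻¹ E := ((Commute.refl E).pow_left i).inv_left
    exact h6.mul_left h5
  have hg' : (E ^ i)⁻¹ * g ∈ Aut n row := mul_mem (inv_mem (pow_mem hEA i)) hg
  rcases List.mem_append.1 hr with h0 | h0
  · obtain ⟨s, hs, hsp⟩ := hl0 _ h0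
    refine ⟨i, s, hs, ?_⟩
    have h1 : s p = r := Fin.ext hsp
    have h2 : s⁻¹ * ((E ^ i)⁻¹ * g) = 1 := by
      apply htriv _ (mul_mem (inv_mem (hS s hs).1) hg')
      · have h5 : Commute s E := (hS s hs).2
        have h6 : Commute ((E ^ i)⁻¹ * g) E := hc'
        exact h5.inv_left.mul_left h6
      · rw [Equiv.Perm.mul_apply, e1, ← h1]
        exact Equiv.symm_apply_apply _ _
    have h3 : (E ^ i)⁻¹ * g = s := by
      rw [← mul_one s, ← h2]
      group
    rw [← h3]
    group
  · exfalso
    exact kill_sound hg' hE' hc' ((allL_iff _ _).1 hkill _ h0) e1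

end Cfsg.Agent.OddHalf.Table.NetChain

end
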